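import Groth.Agent.PnCoh.Chow.Exists
import Mathlib.AlgebraicGeometry.ProjectiveSpectrum.Proper

/-!
# Affine schemes of finite type embed into proper schemes
-/

set_option backward.isDefEq.respectTransparency false
set_option linter.style.haveILetI false

universe u

open CategoryTheory AlgebraicGeometry MvPolynomial
open HomogeneousLocalization (Away)

namespace Groth.Agent.HTopCov

theorem exists_immersion_proper {A : Type u} [CommRing A] {X : Scheme.{u}} [IsAffine X]
    (f : X ⟶ Spec (CommRingCat.of A)) [LocallyOfFiniteType f] :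
    ∃ (P : Scheme.{u}) (q : P ⟶ Spec (CommRingCat.of A)) (i : X ⟶ P),
      IsProper q ∧ IsImmersion i ∧ i ≫ q = f := by
  let B := Γ(X, ⊤)
  let φ : A →+* B := (Spec.preimage (X.isoSpec.inv ≫ f)).hom
  have hφ : Spec.map (CommRingCat.ofHom φ) = X.isoSpec.inv ≫ f := Spec.map_preimage _
  obtain ⟨n, b, hb⟩ : ∃ (n : ℕ) (b : Fin n → B), Function.Surjective (eval₂Hom φ b) := by
    have h : φ.FiniteType := by
      haveI : LocallyOfFiniteType (Spec.map (CommRingCat.ofHom φ)) := hφ ▸ inferInstance
      exact (HasRingHomProperty.Spec_iff (P := @LocallyOfFiniteType)).1 this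
    letI := φ.toAlgebra
    obtain ⟨n, ψ, hψ⟩ := Algebra.FiniteType.iff_quotient_mvPolynomial''.1 (show Algebra.FiniteType A B from h)
    refine ⟨n, fun a => ψ (MvPolynomial.X a), ?_⟩
    rw [show eval₂Hom φ (fun a => ψ (MvPolynomial.X a)) = ψ.toRingHom from
      ringHom_ext (fun c => by rw [eval₂Hom_C]; exact (ψ.commutes c).symm)
        fun a => by rw [eval₂Hom_X']; rfl]
    exact hψ
  let 𝒜 := CohB1.polyGrading n A
  let T₀ : MvPolynomial (Fin (n + 1)) A := MvPolynomial.X 0
  have hT : ∀ j : Fin (n + 1), MvPolynomial.X j ∈ 𝒜 1 := fun j => MvPolynomial.isHomogeneous_X A j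
  let ev : MvPolynomial (Fin (n + 1)) A →+* B := eval₂Hom φ (Fin.cons 1 b)
  let e : Away 𝒜 T₀ →+* B :=
    (IsLocalization.Away.lift T₀ (S := Localization (Submonoid.powers T₀)) (g := ev) (by simp [ev, T₀])).comp
      (algebraMap (Away 𝒜 T₀) (Localization (Submonoid.powers T₀)))
  let base : A →+* Away 𝒜 T₀ :=
    (HomogeneousLocalization.fromZeroRingHom 𝒜 _).comp (algebraMap A (𝒜 0))
  have hbase : e.comp base = φ := RingHom.ext fun c => by
    have h : (base c).val = algebraMap (MvPolynomial (Fin (n + 1)) A) _ (MvPolynomial.C c) := by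
      show (HomogeneousLocalization.mk _).val = _
      rw [HomogeneousLocalization.val_mk, ← Localization.mk_one_eq_algebraMap]
      rfl
    simp only [e, RingHom.comp_apply, HomogeneousLocalization.algebraMap_apply, h,
      IsLocalization.Away.lift_eq, ev, eval₂Hom_C]
  let coord : Fin (n + 1) → Away 𝒜 T₀ := fun j =>
    Away.mk 𝒜 (hT 0) 1 (MvPolynomial.X j) (by rw [one_smul]; exact hT j)
  have hcoord : ∀ j, e (coord j) = ev (MvPolynomial.X j) := fun j => by
    have h : (coord j).val * algebraMap (MvPolynomial (Fin (n + 1)) A) _ T₀ =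
        algebraMap (MvPolynomial (Fin (n + 1)) A) (Localization (Submonoid.powers T₀)) (MvPolynomial.X j) := by
      rw [HomogeneousLocalization.Away.val_mk, ← Localization.mk_one_eq_algebraMap,
        ← Localization.mk_one_eq_algebraMap, Localization.mk_mul, Localization.mk_eq_mk_iff,
        Localization.r_iff_exists]
      exact ⟨1, by simp [mul_comm, T₀]⟩
    have := congrArg (IsLocalization.Away.lift T₀ (S := Localization (Submonoid.powers T₀)) (g := ev)
      (by simp [ev, T₀])) h
    rw [map_mul, IsLocalization.Away.lift_eq, IsLocalization.Away.lift_eq] at this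
    have h1 : ev T₀ = 1 := by simp [ev, T₀]
    simp only [h1, mul_one] at this
    exact this
  have he : Function.Surjective e := fun z => by
    obtain ⟨p, rfl⟩ := hb z
    refine ⟨eval₂Hom base (fun j => coord j.succ) p, ?_⟩
    have h : e.comp (eval₂Hom base fun j => coord j.succ) = eval₂Hom φ b := by
      refine ringHom_ext (fun c => ?_) fun j => ?_
      · simp only [RingHom.comp_apply, eval₂Hom_C]
        exact RingHom.congr_fun hbase c
      · simp only [RingHom.comp_apply, eval₂Hom_X', hcoord]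
        simp [ev]
    exact RingHom.congr_fun h p
  let ch : Spec (CommRingCat.of (Away 𝒜 T₀)) ⟶ CohB1.ProjSpace n A :=
    Proj.awayι 𝒜 T₀ (hT 0) Nat.one_pos
  haveI : IsOpenImmersion ch := inferInstanceAs (IsOpenImmersion (Proj.awayι 𝒜 T₀ (hT 0) Nat.one_pos))
  haveI : IsClosedImmersion (Spec.map (CommRingCat.ofHom e)) :=
    IsClosedImmersion.spec_of_surjective _ he
  refine ⟨CohB1.ProjSpace n A, CohB1.ProjSpace.toSpec n A, X.isoSpec.hom ≫ Spec.map (CommRingCat.ofHom e) ≫ ch,
    Groth.Agent.PnCoh.Chow.isProper_toSpec _ _, inferInstance, ?_⟩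
  have hc : ch ≫ CohB1.ProjSpace.toSpec n A = Spec.map (CommRingCat.ofHom base) := by
    show Proj.awayι 𝒜 T₀ (hT 0) Nat.one_pos ≫ Proj.toSpecZero 𝒜 ≫ _ = _
    rw [← Category.assoc, Proj.awayι_toSpecZero, ← Spec.map_comp]
    rfl
  rw [Category.assoc, Category.assoc, hc, ← Spec.map_comp, ← CommRingCat.ofHom_comp, hbase, hφ,
    Iso.hom_inv_id_assoc]

end Groth.Agent.HTopCov
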