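import Groth.Agent.HTopCov.DVR
import Groth.Prelude.Def_HTop3
import Mathlib.AlgebraicGeometry.Morphisms.Separated

/-!
Sections supported on a locally principal closed subscheme; almost blow up squares.
-/

set_option backward.isDefEq.respectTransparency false
set_option backward.isDefEq.respectTransparency.types false

universe u

namespace Groth.Agent.HTopCov

open CategoryTheory CategoryTheory.Limits AlgebraicGeometry Scheme HTop

variable {X Y T : Scheme.{u}}

theorem ideal_comap_open_top [IsAffine T] (k : T ⟶ X) [IsOpenImmersion k] (U : X.affineOpens)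
    (hU : k.opensRange = U.1) (I : X.IdealSheafData) :
    (I.comap k).ideal ⟨⊤, isAffineOpen_top T⟩ =
      (I.ideal U).map (k.appLE U.1 ⊤ (fun x _ => hU.le ⟨x, rfl⟩)).hom := by
  obtain rfl : U = ⟨k ''ᵁ ⊤, (isAffineOpen_top T).image_of_isOpenImmersion k⟩ :=
    Subtype.ext (hU.symm.trans k.image_top_eq_opensRange.symm)
  rw [IdealSheafData.ideal_comap_of_isOpenImmersion, ← Scheme.Hom.appIso_hom']
  exact (Ideal.map_comap_of_equiv (k.appIso ⊤).commRingCatIsoToRingEquiv).symm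

/-- The inverse image ideal on an affine open mapping into an affine open. -/
theorem ideal_comap_appLE (f : X ⟶ Y) (J : Y.IdealSheafData) (U : Y.affineOpens) (V : X.affineOpens)
    (h : V.1 ≤ f ⁻¹ᵁ U.1) : (J.comap f).ideal V = (J.ideal U).map (f.appLE U.1 V.1 h).hom := by
  haveI : IsAffine (U.1 : Scheme) := U.2
  haveI : IsAffine (V.1 : Scheme) := V.2
  let e := (V.1.ι.appLE V.1 ⊤ (fun x _ => x.2)).hom
  have he : Function.Bijective e := by
    have h1 : ∀ (W : X.Opens) (hW : W = V.1.ι ''ᵁ ⊤) (hle : ⊤ ≤ V.1.ι ⁻¹ᵁ W), Function.Bijective (V.1.ι.appLE W ⊤ hle).hom := by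
      rintro _ rfl hle
      rw [← Scheme.Hom.appIso_hom']
      exact (V.1.ι.appIso ⊤).commRingCatIsoToRingEquiv.bijective
    exact h1 _ (by simp) _
  have hinj : Function.Injective (Ideal.map e) := fun I I' hII => by
    rw [← Ideal.comap_map_of_bijective e he (I := I), hII, Ideal.comap_map_of_bijective e he]
  apply hinj
  rw [← ideal_comap_open_top V.1.ι V (Scheme.Opens.opensRange_ι _), ← IdealSheafData.comap_comp, Ideal.map_map,
    ← CommRingCat.hom_comp, Scheme.Hom.appLE_comp_appLE]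
  have hc : f.resLE U.1 V.1 h ≫ U.1.ι = V.1.ι ≫ f := Scheme.Hom.resLE_comp_ι _ _
  have key : ∀ (m : (V.1 : Scheme) ⟶ Y) (hm : ⊤ ≤ m ⁻¹ᵁ U.1), m = f.resLE U.1 V.1 h ≫ U.1.ι →
      (J.comap m).ideal ⟨⊤, isAffineOpen_top _⟩ = (J.ideal U).map (m.appLE U.1 ⊤ hm).hom := by
    rintro _ hm rfl
    rw [IdealSheafData.comap_comp, ideal_comap_of_isAffine, ideal_comap_open_top U.1.ι U (Scheme.Opens.opensRange_ι _),
      Ideal.map_map, ← CommRingCat.hom_comp, Scheme.Hom.appTop, Scheme.Hom.app_eq_appLE, Scheme.Hom.appLE_comp_appLE]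
    rfl
  exact key _ _ hc.symm

theorem isLocPrincipal_comap (f : X ⟶ Y) (J : Y.IdealSheafData) (hJ : IsLocPrincipal J) :
    IsLocPrincipal (J.comap f) := fun x => by
  obtain ⟨U, hxU, g, hg⟩ := hJ (f x)
  obtain ⟨V, hV, hxV, hle⟩ := exists_isAffineOpen_mem_and_subset (show x ∈ f ⁻¹ᵁ U.1 from hxU)
  refine ⟨⟨V, hV⟩, hxV, (f.appLE U.1 V hle).hom g, ?_⟩
  rw [ideal_comap_appLE f J U ⟨V, hV⟩ hle, hg, Ideal.map_span, Set.image_singleton]

theorem awayFrom_inf_eq_basicOpen (J : X.IdealSheafData) (U : X.affineOpens) {g : Γ(X, U.1)}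
    (hg : J.ideal U = Ideal.span {g}) : awayFrom J ⊓ U.1 = X.basicOpen g := by
  ext x
  have h := Set.ext_iff.mp (J.coe_support_inter U) x
  rw [hg, X.zeroLocus_span, X.zeroLocus_singleton] at h
  simp only [Set.mem_inter_iff, SetLike.mem_coe, Set.mem_compl_iff] at h
  change (x ∉ J.support ∧ x ∈ U.1) ↔ x ∈ X.basicOpen g
  constructor
  · rintro ⟨hx, hxU⟩
    by_contra hb
    exact hx (h.mpr ⟨hb, hxU⟩).1
  · intro hb
    exact ⟨fun hx => (h.mp ⟨hx, X.basicOpen_le g hb⟩).1 hb, X.basicOpen_le g hb⟩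

theorem quasiCompact_awayFrom (J : X.IdealSheafData) (hJ : IsLocPrincipal J) : QuasiCompact (awayFrom J).ι := by
  choose U hxU g hg using hJ
  have hsup : ⨆ x, (U x).1 = ⊤ :=
    top_le_iff.mp fun x _ => TopologicalSpace.Opens.mem_iSup.mpr ⟨x, hxU x⟩
  rw [IsZariskiLocalAtTarget.iff_of_iSup_eq_top (P := @QuasiCompact) _ hsup]
  intro x
  haveI : IsAffine ((U x).1 : Scheme) := (U x).2
  rw [HasAffineProperty.iff_of_isAffine (P := @QuasiCompact)]
  change CompactSpace ((awayFrom J).ι ⁻¹ᵁ (U x).1 : Scheme)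
  refine isCompact_iff_compactSpace.mp ?_
  rw [(awayFrom J).ι.isOpenEmbedding.isEmbedding.isCompact_iff]
  have : (awayFrom J).ι '' (((awayFrom J).ι ⁻¹ᵁ (U x).1 : (awayFrom J : Scheme).Opens) : Set _) =
      ((X.basicOpen (g x) : X.Opens) : Set X) := by
    rw [← awayFrom_inf_eq_basicOpen J (U x) (hg x)]
    exact (Set.image_preimage_eq_range_inter ..).trans (congrArg (· ∩ _) (Scheme.Opens.range_ι _))
  rw [this]
  exact ((U x).2.basicOpen (g x)).isCompact

/-- The ideal of sections supported on a principal closed subscheme. -/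
theorem mem_supportedOn_iff (J : X.IdealSheafData) (hJ : IsLocPrincipal J) (U : X.affineOpens) {g : Γ(X, U.1)}
    (hg : J.ideal U = Ideal.span {g}) (a : Γ(X, U.1)) :
    a ∈ (supportedOn J).ideal U ↔ ∃ n : ℕ, g ^ n * a = 0 := by
  haveI := quasiCompact_awayFrom J hJ
  letI : Algebra Γ(X, U.1) Γ(X, X.basicOpen g) := (X.presheaf.map (homOfLE (X.basicOpen_le g)).op).hom.toAlgebra
  haveI := U.2.isLocalization_basicOpen g
  rw [supportedOn, Scheme.Hom.ker_apply, RingHom.mem_ker]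
  have key : ∀ (D : X.Opens) (hD : D = X.basicOpen g) (hle : D ≤ U.1),
      X.presheaf.map (homOfLE hle).op a = 0 ↔ algebraMap Γ(X, U.1) Γ(X, X.basicOpen g) a = 0 := by
    rintro _ rfl hle
    rfl
  have himg : (awayFrom J).ι ''ᵁ ((awayFrom J).ι ⁻¹ᵁ U.1) = X.basicOpen g := by
    rw [Scheme.Hom.image_preimage_eq_opensRange_inf, Scheme.Opens.opensRange_ι]
    exact awayFrom_inf_eq_basicOpen J U hg
  rw [Scheme.Opens.ι_app]
  refine (key _ himg _).trans ?_
  rw [IsLocalization.map_eq_zero_iff (Submonoid.powers g)]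
  exact ⟨fun ⟨⟨_, n, rfl⟩, h⟩ => ⟨n, h⟩, fun ⟨n, h⟩ => ⟨⟨_, n, rfl⟩, h⟩⟩

theorem isLocPrincipal_of_isEffCartier {J : X.IdealSheafData} (hJ : BlowUp.IsEffCartierIdeal J) : IsLocPrincipal J :=
  fun x => by
    obtain ⟨U, hx, g, -, hg⟩ := hJ x
    exact ⟨U, hx, g, hg⟩

theorem supportedOn_eq_bot {J : X.IdealSheafData} (hJ : BlowUp.IsEffCartierIdeal J) : supportedOn J = ⊥ := by
  choose U hxU g hgn hg using hJ
  refine IdealSheafData.ext_of_iSup_eq_top U
    (top_le_iff.mp fun x _ => TopologicalSpace.Opens.mem_iSup.mpr ⟨x, hxU x⟩) fun x => ?_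
  rw [IdealSheafData.ideal_bot]
  refine le_antisymm (fun a ha => ?_) bot_le
  obtain ⟨n, hn⟩ := (mem_supportedOn_iff J (fun y => ⟨U y, hxU y, g y, hg y⟩) (U x) (hg x) a).mp ha
  have : (g x) ^ n ∈ nonZeroDivisors Γ(X, (U x).1) := pow_mem (hgn x) n
  exact (mul_right_mem_nonZeroDivisors_eq_zero_iff this).mp (mul_comm a _ ▸ hn)

/-- A morphism pulling a locally principal ideal back to an effective Cartier one factors through the closed
subscheme of `supportedOn`. -/
theorem supportedOn_le_ker (t : T ⟶ X) (J : X.IdealSheafData) (h : BlowUp.IsEffCartierIdeal (J.comap t)) :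
    supportedOn J ≤ t.ker := by
  have hV : (awayFrom (J.comap t)).ι.ker = ⊥ := supportedOn_eq_bot h
  have hr : Set.range ((awayFrom (J.comap t)).ι ≫ t) ⊆ Set.range (awayFrom J).ι := by
    rintro _ ⟨x, rfl⟩
    rw [Scheme.Opens.range_ι]
    have := x.2
    change x.1 ∉ (J.comap t).support at this
    rw [IdealSheafData.support_comap] at this
    exact this
  calc supportedOn J ≤ (IsOpenImmersion.lift (awayFrom J).ι _ hr ≫ (awayFrom J).ι).ker := Scheme.Hom.le_ker_comp _ _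
    _ = ((awayFrom (J.comap t)).ι ≫ t).ker := by rw [IsOpenImmersion.lift_fac]
    _ = t.ker := by rw [Scheme.Hom.ker_comp, hV, IdealSheafData.map_bot]

theorem isEffCartier_comap_supportedOn (J : X.IdealSheafData) (hJ : IsLocPrincipal J) :
    BlowUp.IsEffCartierIdeal (J.comap (supportedOn J).subschemeι) := by
  intro x
  obtain ⟨U, hxU, g, hg⟩ := hJ ((supportedOn J).subschemeι x)
  let j := (supportedOn J).subschemeι
  refine ⟨⟨j ⁻¹ᵁ U.1, U.2.preimage j⟩, hxU, (j.app U.1).hom g, mem_nonZeroDivisors_iff_right.mpr fun z hz => ?_, ?_⟩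
  · obtain ⟨a, rfl⟩ := (supportedOn J).subschemeι_app_surjective U z
    have hmem : ∀ c : Γ(X, U.1), (j.app U.1).hom c = 0 ↔ c ∈ (supportedOn J).ideal U := fun c => by
      rw [← RingHom.mem_ker, IdealSheafData.ker_subschemeι_app]
    change (j.app U.1).hom a * (j.app U.1).hom g = 0 at hz
    rw [← map_mul, hmem, mem_supportedOn_iff J hJ U hg] at hz
    obtain ⟨n, hn⟩ := hz
    exact (hmem a).mpr ((mem_supportedOn_iff J hJ U hg a).mpr ⟨n + 1, by rw [← hn]; ring⟩)
  · rw [ideal_comap_appLE j J U ⟨j ⁻¹ᵁ U.1, U.2.preimage j⟩ le_rfl, hg, Ideal.map_span, Set.image_singleton,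
      Scheme.Hom.app_eq_appLE]

theorem exists_factor_supportedOn (t : T ⟶ X) (J : X.IdealSheafData) (h : BlowUp.IsEffCartierIdeal (J.comap t)) :
    ∃ l : T ⟶ (supportedOn J).subscheme, l ≫ (supportedOn J).subschemeι = t :=
  ⟨IsClosedImmersion.lift _ t (by rw [IdealSheafData.ker_subschemeι]; exact supportedOn_le_ker t J h),
    IsClosedImmersion.lift_fac _ _ _⟩

/-- Blow-up property of the proper transform from a closed subscheme containing it. -/
theorem isBlowUp_of_comparison {X' W : Scheme.{u}} {b : X' ⟶ X} {I : X.IdealSheafData} {c : W ⟶ X}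
    (hb : BlowUp.IsBlowUp ((supportedOn (I.comap b)).subschemeι ≫ b) I)
    (hc : IsLocPrincipal (I.comap c))
    (hmap : ∀ ⦃T : Scheme.{u}⦄ (g : T ⟶ X), BlowUp.IsEffCartierIdeal (I.comap g) →
      (∃ h : T ⟶ X', h ≫ b = g) → ∃ h : T ⟶ W, h ≫ c = g)
    (hinj : ∀ ⦃T : Scheme.{u}⦄ (h₁ h₂ : T ⟶ W), h₁ ≫ c = h₂ ≫ c → BlowUp.IsEffCartierIdeal (I.comap (h₁ ≫ c)) →
      h₁ = h₂) :
    BlowUp.IsBlowUp ((supportedOn (I.comap c)).subschemeι ≫ c) I := by
  refine ⟨?_, fun T g hg => ?_⟩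
  · rw [IdealSheafData.comap_comp]
    exact isEffCartier_comap_supportedOn _ hc
  obtain ⟨h, hh, -⟩ := hb.2 T g hg
  obtain ⟨h', hh'⟩ := hmap g hg ⟨_, (Category.assoc _ _ _).trans hh⟩
  obtain ⟨l, hl⟩ := exists_factor_supportedOn h' (I.comap c) (by rwa [← IdealSheafData.comap_comp, hh'])
  refine ⟨l, (Category.assoc _ _ _).symm.trans (by rw [hl, hh']), fun l' hl' => ?_⟩
  rw [← cancel_mono (supportedOn (I.comap c)).subschemeι, hl]
  refine hinj _ _ (by rw [Category.assoc, hl', hh']) ?_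
  rwa [Category.assoc, hl']

theorem hom_ext_of_isBlowUp {X' : Scheme.{u}} {b : X' ⟶ X} {I : X.IdealSheafData}
    (hb : BlowUp.IsBlowUp ((supportedOn (I.comap b)).subschemeι ≫ b) I) (h₁ h₂ : T ⟶ X')
    (h : h₁ ≫ b = h₂ ≫ b) (hT : BlowUp.IsEffCartierIdeal (I.comap (h₁ ≫ b))) : h₁ = h₂ := by
  obtain ⟨l₁, rfl⟩ := exists_factor_supportedOn h₁ (I.comap b) (by rwa [← IdealSheafData.comap_comp])
  obtain ⟨l₂, rfl⟩ := exists_factor_supportedOn h₂ (I.comap b) (by rwa [← IdealSheafData.comap_comp, ← h])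
  obtain ⟨m, -, hm⟩ := hb.2 T _ hT
  rw [(hm l₁ (Category.assoc _ _ _).symm).trans (hm l₂ (by rw [h, Category.assoc])).symm]

theorem isAlmostBlowUpSquare_baseChange {E Z X' E₁ Z₁ X₁ : Scheme.{u}} {e : E ⟶ X'} {π : E ⟶ Z} {b : X' ⟶ X}
    {i : Z ⟶ X} (h : IsAlmostBlowUpSquare e π b i) (g : Y ⟶ X) {b₁ : X₁ ⟶ Y} {gX : X₁ ⟶ X'}
    (hX : IsPullback gX b₁ b g) {i₁ : Z₁ ⟶ Y} {gZ : Z₁ ⟶ Z} (hZ : IsPullback gZ i₁ i g) {e₁ : E₁ ⟶ X₁}
    {gE : E₁ ⟶ E} (hE : IsPullback gE e₁ e gX) {π₁ : E₁ ⟶ Z₁} (hπ : π₁ ≫ i₁ = e₁ ≫ b₁) :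
    IsAlmostBlowUpSquare e₁ π₁ b₁ i₁ := by
  haveI := h.isClosedImmersion
  haveI : IsClosedImmersion i₁ := MorphismProperty.of_isPullback (P := @IsClosedImmersion) hZ h.isClosedImmersion
  have hk : i₁.ker = i.ker.comap g := by
    rw [← IdealSheafData.ker_fst_of_isClosedImmersion i g,
      ← hZ.flip.isoPullback_hom_fst, Scheme.Hom.ker_comp_of_isIso]
  have hkb : i₁.ker.comap b₁ = (i.ker.comap b).comap gX := by
    rw [hk, ← IdealSheafData.comap_comp, ← IdealSheafData.comap_comp, hX.w]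
  have hp : IsPullback e₁ π₁ b₁ i₁ := by
    refine IsPullback.of_bot (h₁₁ := e₁) ?_ hπ.symm hZ.flip
    have hP := IsPullback.paste_vert hE.flip h.isPullback
    have hgZ : π₁ ≫ gZ = gE ≫ π := by
      rw [← cancel_mono i, Category.assoc, Category.assoc, hZ.w, reassoc_of% hπ,
        ← h.isPullback.w, reassoc_of% hE.w, hX.w]
    rw [← hX.w, hgZ]
    exact hP
  refine ⟨‹_›, MorphismProperty.of_isPullback (P := @LocallyOfFinitePresentation) hZ h.finitePresentation_base, hp,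
    hkb ▸ isLocPrincipal_comap gX _ h.locPrincipal,
    MorphismProperty.of_isPullback (P := @IsProper) hX h.isProper,
    MorphismProperty.of_isPullback (P := @LocallyOfFinitePresentation) hX h.finitePresentation, ?_⟩
  refine ⟨?_, fun T t ht => ?_⟩
  · rw [IdealSheafData.comap_comp]
    exact isEffCartier_comap_supportedOn _ (hkb ▸ isLocPrincipal_comap gX _ h.locPrincipal)
  have ht' : BlowUp.IsEffCartierIdeal (i.ker.comap (t ≫ g)) := by rwa [IdealSheafData.comap_comp, ← hk]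
  obtain ⟨m, hm, -⟩ := h.isBlowUp.2 T (t ≫ g) ht'
  let m₁ := hX.lift (m ≫ (supportedOn (i.ker.comap b)).subschemeι) t ((Category.assoc _ _ _).trans hm)
  obtain ⟨l, hl⟩ := exists_factor_supportedOn m₁ (i₁.ker.comap b₁) (by rwa [← IdealSheafData.comap_comp, hX.lift_snd])
  refine ⟨l, (Category.assoc _ _ _).symm.trans (by rw [hl, hX.lift_snd]), fun l' hl' => ?_⟩
  rw [← cancel_mono (supportedOn (i₁.ker.comap b₁)).subschemeι, hl]
  refine hX.hom_ext ?_ (by rw [Category.assoc, hl', hX.lift_snd])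
  have e1 : ((l' ≫ (supportedOn (i₁.ker.comap b₁)).subschemeι) ≫ gX) ≫ b = t ≫ g := by
    rw [Category.assoc, hX.w, ← Category.assoc, Category.assoc l', hl']
  exact hom_ext_of_isBlowUp h.isBlowUp _ _ (by rw [e1, Category.assoc, hX.w, ← Category.assoc, hX.lift_snd]) (e1 ▸ ht')

theorem ker_le_iff_isAlmostBlowUpSquare {E Z X' W EW : Scheme.{u}} {e : E ⟶ X'} {π : E ⟶ Z} {b : X' ⟶ X}
    {i : Z ⟶ X} (h : IsAlmostBlowUpSquare e π b i) (w : W ⟶ X') [IsClosedImmersion w]
    [LocallyOfFinitePresentation w] {eW : EW ⟶ W} {gE : EW ⟶ E} (hEW : IsPullback gE eW e w) :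
    w.ker ≤ supportedOn (i.ker.comap b) ↔ IsAlmostBlowUpSquare eW (gE ≫ π) (w ≫ b) i := by
  haveI := h.finitePresentation
  haveI := h.isProper
  have hlp : IsLocPrincipal (i.ker.comap (w ≫ b)) := by
    rw [IdealSheafData.comap_comp]
    exact isLocPrincipal_comap w _ h.locPrincipal
  constructor
  · intro hle
    refine ⟨h.isClosedImmersion, h.finitePresentation_base, IsPullback.paste_vert hEW.flip h.isPullback,
      hlp, inferInstance, inferInstance, ?_⟩
    refine isBlowUp_of_comparison h.isBlowUp hlp (fun T g hg ⟨m, hm⟩ => ?_) fun T h₁ h₂ e hT => ?_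
    · refine ⟨IsClosedImmersion.lift w m (hle.trans (supportedOn_le_ker m _ ?_)), ?_⟩
      · rwa [← IdealSheafData.comap_comp, hm]
      · rw [← Category.assoc, IsClosedImmersion.lift_fac, hm]
    · rw [← cancel_mono w]
      exact hom_ext_of_isBlowUp h.isBlowUp _ _ (by rw [Category.assoc, Category.assoc, e]) (by rwa [Category.assoc])
  · intro hW
    let j := (supportedOn (i.ker.comap b)).subschemeι
    have hj : BlowUp.IsEffCartierIdeal (i.ker.comap (j ≫ b)) := h.isBlowUp.1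
    obtain ⟨m, hm, -⟩ := hW.isBlowUp.2 _ (j ≫ b) hj
    have he : (m ≫ (supportedOn (i.ker.comap (w ≫ b))).subschemeι) ≫ w = j :=
      (hom_ext_of_isBlowUp h.isBlowUp j _ (by rw [← hm, Category.assoc, Category.assoc]) hj).symm
    calc w.ker ≤ j.ker := by rw [← he]; exact Scheme.Hom.le_ker_comp _ _
      _ = supportedOn (i.ker.comap b) := IdealSheafData.ker_subschemeι _

end Groth.Agent.HTopCov
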