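import Groth.Agent.HTopCov.V
import Groth.Prelude.Def_MoreMor
import Mathlib.AlgebraicGeometry.Sites.BigZariski
import Mathlib.CategoryTheory.Sites.Canonical
import Mathlib.CategoryTheory.Sites.Over

/-!
Sheaves for the V and ph coverings: reductions to standard coverings; thickenings.
-/

set_option backward.isDefEq.respectTransparency false
set_option backward.isDefEq.respectTransparency.types false

universe w w' u

namespace Groth.Agent.HTopCov

open CategoryTheory CategoryTheory.Limits AlgebraicGeometry IsLocalRing HTop Opposite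

variable {S T : Scheme.{u}}

theorem sieve₀_pullback₁ (E : PreZeroHypercover.{w} T) (g : S ⟶ T) :
    (E.pullback₁ g).sieve₀ = E.sieve₀.pullback g := by
  refine le_antisymm ((Sieve.generate_le_iff _ _).mpr <| Presieve.ofArrows_le_iff.mpr fun i => ?_) fun Z f hf => ?_
  · exact ⟨E.X i, pullback.snd g (E.f i), E.f i, ⟨i⟩, pullback.condition.symm⟩
  · obtain ⟨_, a, _, ⟨i⟩, ha⟩ := hf
    exact ⟨pullback g (E.f i), pullback.lift f a ha.symm, (E.pullback₁ g).f i, ⟨i⟩, pullback.lift_fst _ _ _⟩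

theorem isStandardV_restrictIndex {E : PreZeroHypercover.{w} T} (hE : IsStandardV E) {ι : Type w'} (e : ι ≃ E.I₀) :
    IsStandardV (E.restrictIndex e) where
  isAffine := hE.isAffine
  finite_index := haveI := hE.finite_index; Finite.of_equiv _ e.symm
  isAffine_obj j := hE.isAffine_obj _
  lift V _ _ g := by
    obtain ⟨W, hW, hW', φ, hφ, j, l, hl⟩ := hE.lift V g
    obtain ⟨j, rfl⟩ := e.surjective j
    exact ⟨W, hW, hW', φ, hφ, j, l, hl⟩

theorem isVCover_of_standardV {E : PreZeroHypercover.{w} T} (hE : IsStandardV E) : IsVCover E := fun U => by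
  haveI : IsAffine (U.1 : Scheme) := U.2
  haveI := hE.finite_index
  obtain ⟨n, ⟨e⟩⟩ := Finite.exists_equiv_fin E.I₀
  refine ⟨(E.restrictIndex e.symm).pullback₁ U.1.ι, standardV_pullback₁ _ _ (isStandardV_restrictIndex hE e.symm),
    fun j => ⟨e.symm j, pullback.snd U.1.ι (E.f (e.symm j)), pullback.condition.symm⟩⟩

/-- The topology of sieves which universally have the sheaf property. -/
abbrev fin (F : Scheme.{u}ᵒᵖ ⥤ Type w) : GrothendieckTopology Scheme.{u} := Sheaf.finestTopologySingle F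

theorem zariski_le_fin {F : Scheme.{u}ᵒᵖ ⥤ Type w} (hF : Presieve.IsSheaf Scheme.zariskiTopology F) :
    Scheme.zariskiTopology ≤ fin F := fun _ S hS Y f => hF _ (Scheme.zariskiTopology.pullback_stable f hS)

theorem isSheafFor_of_mem_fin {F : Scheme.{u}ᵒᵖ ⥤ Type w} {X : Scheme.{u}} {R : Presieve X}
    (h : Sieve.generate R ∈ fin F X) : Presieve.IsSheafFor F R := by
  rw [Presieve.isSheafFor_iff_generate]
  simpa using h X (𝟙 X)

theorem mem_fin_of_affine {F : Scheme.{u}ᵒᵖ ⥤ Type w} (hF : Presieve.IsSheaf Scheme.zariskiTopology F)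
    {X : Scheme.{u}} (R : Sieve X)
    (h : ∀ (Y : Scheme.{u}) [IsAffine Y] (g : Y ⟶ X), Presieve.IsSheafFor F (R.pullback g).arrows) :
    R ∈ fin F X := fun Y f => by
  refine Y.affineOneHypercover.isSheafFor_of_pullback hF (fun i => ?_) (fun i j k => ?_)
  · rw [Sieve.generate_sieve, ← Sieve.pullback_comp]
    haveI : IsAffine (Y.affineOneHypercover.X i) := inferInstanceAs (IsAffine (Y.affineCover.X i))
    exact h _ _
  · rw [Sieve.generate_sieve, ← Sieve.pullback_comp]
    haveI : IsAffine (Y.affineOneHypercover.Y k) :=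
      inferInstanceAs (IsAffine ((pullback (Y.affineCover.f i) (Y.affineCover.f j)).affineCover.X k))
    exact (h _ _).isSeparatedFor

theorem standardV_mem_fin {F : Scheme.{u}ᵒᵖ ⥤ Type w} (hF : Presieve.IsSheaf Scheme.zariskiTopology F)
    (h : ∀ (T : Scheme.{u}) (E : PreZeroHypercover.{u} T), IsStandardV E → Presieve.IsSheafFor F E.presieve₀)
    (E : PreZeroHypercover.{w'} T) (hE : IsStandardV E) : E.sieve₀ ∈ fin F T := by
  refine mem_fin_of_affine hF _ fun Y _ g => ?_
  have hg := standardV_pullback₁ g E hE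
  haveI := hg.finite_index
  obtain ⟨n, ⟨e⟩⟩ := Finite.exists_equiv_fin (E.pullback₁ g).I₀
  have := h Y _ (isStandardV_restrictIndex hg ((Equiv.ulift.{u}).trans e.symm))
  rw [PreZeroHypercover.presieve₀_restrictIndex_equiv, Presieve.isSheafFor_iff_generate] at this
  rwa [← sieve₀_pullback₁]

theorem sieve₀_mem_of_refines {J : GrothendieckTopology Scheme.{u}} (hJ : Scheme.zariskiTopology ≤ J)
    (E : PreZeroHypercover.{w} T)
    (h : ∀ U : T.affineOpens, ∃ G : PreZeroHypercover.{0} (U.1 : Scheme.{u}), G.sieve₀ ∈ J _ ∧ RefinesOver U.1.ι G E) :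
    E.sieve₀ ∈ J T := by
  let C := T.openCoverOfIsOpenCover (fun U : T.affineOpens => U.1) (iSup_affineOpens_eq_top T)
  refine J.transitive (hJ _ C.mem_grothendieckTopology) _ ?_
  rintro Z _ ⟨_, a, _, ⟨U⟩, rfl⟩
  rw [Sieve.pullback_comp]
  refine J.pullback_stable a ?_
  obtain ⟨G, hG, hr⟩ := h U
  refine J.superset_covering ((Sieve.generate_le_iff _ _).mpr <| Presieve.ofArrows_le_iff.mpr fun j => ?_) hG
  obtain ⟨i, k, hk⟩ := hr j
  exact ⟨E.X i, k, E.f i, ⟨i⟩, hk⟩

theorem isVSheaf_iff (F : Scheme.{u}ᵒᵖ ⥤ Type w) :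
    IsVSheaf F ↔ (Presieve.IsSheaf Scheme.zariskiTopology F ∧
      ∀ (T : Scheme.{u}) (E : PreZeroHypercover.{u} T), IsStandardV E → Presieve.IsSheafFor F E.presieve₀) := by
  refine ⟨fun h => ⟨?_, fun T E hE => h _ ((presieve₀_mem_vPrecoverage_iff E).mpr (isVCover_of_standardV hE))⟩,
    fun ⟨hz, hs⟩ X R hR => ?_⟩
  · rw [Precoverage.isSheaf_toGrothendieck_iff_of_isStableUnderBaseChange_of_small.{u}]
    intro X (E : Scheme.Cover _ _)
    refine h _ ((presieve₀_mem_vPrecoverage_iff E.toPreZeroHypercover).mpr ?_)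
    haveI : ∀ i, IsOpenImmersion (E.f i) := Scheme.Cover.map_prop E
    haveI : QuasiCompactCover E.toPreZeroHypercover := QuasiCompactCover.of_isOpenMap fun i => (E.f i).isOpenEmbedding.isOpenMap
    exact isVCover_of_qc _ fun i => inferInstance
  · obtain ⟨E, hE, rfl⟩ := PreZeroHypercoverFamily.mem_precoverage_iff.mp hR
    refine isSheafFor_of_mem_fin (sieve₀_mem_of_refines (zariski_le_fin hz) E fun U => ?_)
    obtain ⟨G, hG, hr⟩ := hE U
    exact ⟨G, standardV_mem_fin hz hs G hG, hr⟩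

theorem isVSheaf_iff_singleton (F : Scheme.{u}ᵒᵖ ⥤ Type w) :
    IsVSheaf F ↔ (Presieve.IsSheaf Scheme.zariskiTopology F ∧
      ∀ (U V : Scheme.{u}) (f : V ⟶ U), IsStandardV (PreZeroHypercover.singleton.{w'} f) →
        Presieve.IsSheafFor F (Presieve.singleton f)) := by
  rw [isVSheaf_iff]
  refine and_congr_right fun hz => ⟨fun h U V f hf => ?_, fun h T E hE => ?_⟩
  · have := isSheafFor_of_mem_fin (standardV_mem_fin hz h _ hf)
    rwa [← PreZeroHypercover.presieve₀, PreZeroHypercover.presieve₀_singleton] at this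
  · haveI := hE.finite_index
    haveI : ∀ i, IsAffine (E.X i) := hE.isAffine_obj
    let 𝒰 : T.Cover (Scheme.precoverage ⊤) :=
      { toPreZeroHypercover := E
        mem₀ := by
          rw [PreZeroHypercover.presieve₀, Scheme.ofArrows_mem_precoverage_iff]
          refine ⟨fun t => ?_, fun _ => trivial⟩
          haveI : ValuationRing (T.residueField t) := inferInstance
          obtain ⟨W, _, _, φ, -, j, g', hg'⟩ := hE.lift (T.residueField t) (T.fromSpecResidueField t)
          exact ⟨j, g' (closedPoint W), by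
            rw [← Scheme.Hom.comp_apply, hg', Scheme.Hom.comp_apply, Scheme.fromSpecResidueField_apply]⟩ }
    change Presieve.IsSheafFor F (Presieve.ofArrows 𝒰.X 𝒰.f)
    rw [← Scheme.Cover.isSheafFor_sigma_iff hz 𝒰, Presieve.ofArrows_of_unique]
    refine h _ _ (Sigma.desc E.f) ⟨hE.isAffine, inferInstanceAs (Finite PUnit), fun _ => inferInstanceAs (IsAffine (∐ E.X)), fun V _ _ g => ?_⟩
    obtain ⟨W, hW, hW', φ, hφ, j, l, hl⟩ := hE.lift V g
    refine ⟨W, hW, hW', φ, hφ, PUnit.unit, l ≫ Sigma.ι E.X j, ?_⟩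
    change (l ≫ Sigma.ι E.X j) ≫ Sigma.desc E.f = _
    rw [Category.assoc, Sigma.ι_desc, hl]

theorem isPhSheaf_of (F : Scheme.{u}ᵒᵖ ⥤ Type w) (h₁ : Presieve.IsSheaf Scheme.zariskiTopology F)
    (h₂ : ∀ (U V : Scheme.{u}) (f : V ⟶ U), IsProper f → Surjective f → Presieve.IsSheafFor F (Presieve.singleton f)) :
    IsPhSheaf F := by
  intro X R hR
  obtain ⟨E, hE, rfl⟩ := PreZeroHypercoverFamily.mem_precoverage_iff.mp hR
  have key : ∀ {V U : Scheme.{u}} (f : V ⟶ U) [IsProper f] [Surjective f],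
      (PreZeroHypercover.singleton.{0} f).sieve₀ ∈ fin F U := fun f _ _ Y g => by
    rw [← sieve₀_pullback₁]
    have := h₂ _ _ (pullback.fst g f) inferInstance inferInstance
    rw [← show (PreZeroHypercover.singleton.{0} (pullback.fst g f)).presieve₀ = Presieve.singleton (pullback.fst g f) from
      PreZeroHypercover.presieve₀_singleton _, Presieve.isSheafFor_iff_generate] at this
    exact this
  refine isSheafFor_of_mem_fin (sieve₀_mem_of_refines (zariski_le_fin h₁) E fun U => ?_)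
  obtain ⟨G, hG, hr⟩ := hE.2 U
  refine ⟨G, ?_, hr⟩
  obtain ⟨P, f, ι, hf, hs, hι, hιf, hcov⟩ := hG.exists_proper
  refine (fin F).transitive (key f) _ ?_
  rintro Z _ ⟨_, a, _, ⟨⟨⟩⟩, rfl⟩
  rw [Sieve.pullback_comp]
  refine (fin F).pullback_stable a ?_
  let C : P.OpenCover := .mkOfCovers G.I₀ G.X ι (fun x => hcov x) hι
  refine (fin F).superset_covering ((Sieve.generate_le_iff _ _).mpr <| Presieve.ofArrows_le_iff.mpr fun j => ?_)
    (zariski_le_fin h₁ _ C.mem_grothendieckTopology)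
  exact ⟨G.X j, 𝟙 _, G.f j, ⟨j⟩, (Category.id_comp _).trans (hιf j).symm⟩

theorem isPhCover_of_proper {X Y : Scheme.{u}} (f : Y ⟶ X) [IsProper f] [Surjective f] :
    IsPhCover (PreZeroHypercover.singleton.{w} f) := by
  refine ⟨fun _ => inferInstanceAs (LocallyOfFiniteType f), fun U => ?_⟩
  haveI : IsAffine (U.1 : Scheme) := U.2
  haveI : IsProper (f ∣_ U.1) := IsZariskiLocalAtTarget.restrict ‹IsProper f› U.1
  haveI : Surjective (f ∣_ U.1) := IsZariskiLocalAtTarget.restrict ‹Surjective f› U.1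
  let Y' : Scheme := (f ⁻¹ᵁ U.1).toScheme
  haveI : CompactSpace Y' := QuasiCompact.compactSpace_of_compactSpace (f ∣_ U.1)
  let C := Y'.affineCover.finiteSubcover
  let e := (Finite.exists_equiv_fin C.I₀).choose_spec.some
  refine ⟨⟨Fin _, fun j => C.X (e.symm j), fun j => C.f (e.symm j) ≫ (f ∣_ U.1)⟩,
    ⟨inferInstance, inferInstanceAs (Finite (Fin _)), fun j => inferInstanceAs (IsAffine (Y'.affineCover.X _)), Y', f ∣_ U.1,
      fun j => C.f (e.symm j), inferInstance, inferInstance, fun j => C.map_prop _, fun j => rfl, fun x => ?_⟩,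
    fun j => ⟨PUnit.unit, C.f (e.symm j) ≫ (f ⁻¹ᵁ U.1).ι, ?_⟩⟩
  · obtain ⟨i, hi⟩ := C.exists_eq x
    exact ⟨e i, (show ∀ i', i' = i → x ∈ Set.range (C.f i') by rintro _ rfl; exact hi) _ (e.symm_apply_apply i)⟩
  · change (C.f (e.symm j) ≫ (f ⁻¹ᵁ U.1).ι) ≫ f = (C.f (e.symm j) ≫ (f ∣_ U.1)) ≫ U.1.ι
    rw [Category.assoc, Category.assoc, morphismRestrict_ι]

theorem bijective_of_mono_cover {K : Precoverage Scheme.{u}} (F : (Over S)ᵒᵖ ⥤ Type w)
    (hF : Presieve.IsSheaf (K.toGrothendieck.over S) F) {X X' : Over S} (f : X ⟶ X') [Mono f.left]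
    (hf : Presieve.singleton f.left ∈ K X'.left) : Function.Bijective (F.map f.op) := by
  have hmem : Sieve.generate (Presieve.singleton f) ∈ (K.toGrothendieck.over S) X' := by
    rw [GrothendieckTopology.mem_over_iff]
    refine K.toGrothendieck.superset_covering (?_ : Sieve.generate (Presieve.singleton f.left) ≤ _)
      (Precoverage.generate_mem_toGrothendieck hf)
    rw [Sieve.generate_le_iff]
    rintro _ _ ⟨⟩
    exact ⟨X, f, 𝟙 _, ⟨X, 𝟙 _, f, ⟨⟩, Category.id_comp _⟩, (Category.id_comp _).symm⟩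
  have h := hF _ hmem
  rw [← Presieve.isSheafFor_iff_generate] at h
  refine ⟨Presieve.isSeparatedFor_singleton.mp h.isSeparatedFor, fun x => ?_⟩
  obtain ⟨y, hy, -⟩ := Presieve.isSheafFor_singleton.mp h x fun p₁ p₂ he => by
    rw [show p₁ = p₂ from Over.OverMorphism.ext ((cancel_mono f.left).mp congr(($he).left))]
  exact ⟨y, hy⟩

end Groth.Agent.HTopCov
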