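import Groth.Agent.HTopCov.V
import Groth.Prelude.Def_SGA1
import Groth.Agent.S2121
import Mathlib.AlgebraicGeometry.Sites.Fpqc

/-!
V coverings are universally submersive; coproducts of coverings; quasi-compact coverings.
-/

set_option backward.isDefEq.respectTransparency false
set_option backward.isDefEq.respectTransparency.types false

universe w u

namespace Groth.Agent.HTopCov

open CategoryTheory CategoryTheory.Limits AlgebraicGeometry IsLocalRing HTop TopologicalSpace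

variable {S T : Scheme.{u}}

theorem exists_point_of_hasValLift (E : PreZeroHypercover.{w} T) (hE : HasValLift E) (t : T) :
    ∃ j x, E.f j x = t := by
  haveI : ValuationRing (T.residueField t) := inferInstance
  obtain ⟨W, _, _, φ, -, j, g', hg'⟩ := hE (T.residueField t) (T.fromSpecResidueField t)
  exact ⟨j, g' (closedPoint W), by
    rw [← Scheme.Hom.comp_apply, hg', Scheme.Hom.comp_apply, Scheme.fromSpecResidueField_apply]⟩

/-- A subset of an affine scheme with closed preimages in a standard V covering is closed. -/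
theorem isClosed_of_standardV (E : PreZeroHypercover.{w} T) (hE : IsStandardV E) (Z : Set T)
    (hZ : ∀ j, IsClosed (E.f j ⁻¹' Z)) : IsClosed Z := by
  haveI := hE.finite_index
  haveI := hE.isAffine
  refine closure_subset_iff_isClosed.mp fun z hz => ?_
  have hsub : Z ⊆ ⋃ j, E.f j '' (E.f j ⁻¹' Z) := fun t ht => by
    obtain ⟨j, x, rfl⟩ := exists_point_of_hasValLift E hE.lift t
    exact Set.mem_iUnion.mpr ⟨j, x, ht, rfl⟩
  have hz' := closure_mono hsub hz
  rw [closure_iUnion_of_finite] at hz'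
  obtain ⟨j, hj⟩ := Set.mem_iUnion.mp hz'
  haveI := hE.isAffine_obj j
  let I := Scheme.IdealSheafData.vanishingIdeal (⟨_, hZ j⟩ : Closeds (E.X j))
  have hr : Set.range (I.subschemeι ≫ E.f j) = E.f j '' (E.f j ⁻¹' Z) := by
    rw [Scheme.Hom.comp_base, TopCat.coe_comp, Set.range_comp, Scheme.IdealSheafData.range_subschemeι,
      Scheme.IdealSheafData.coe_support_vanishingIdeal]
    congr 1
  obtain ⟨A, _, _, _, x, y, hxy, hyz⟩ := Groth.Agent.S2121.result (I.subschemeι ≫ E.f j) z (hr.symm ▸ hj)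
  haveI : ValuationRing (CommRingCat.of A) := ‹_›
  obtain ⟨W, _, _, φ, hφ, k, g', hg'⟩ := hE.lift (CommRingCat.of A) y
  have h0 : y (⊥ : PrimeSpectrum A) ∈ Z := by
    let p : PrimeSpectrum (FractionRing A) := ⊥
    have e : (Spec.map (CommRingCat.ofHom (algebraMap A (FractionRing A)))) p = (⊥ : PrimeSpectrum A) :=
      PrimeSpectrum.ext ((RingHom.injective_iff_ker_eq_bot _).mp (IsFractionRing.injective A (FractionRing A)))
    rw [← e, ← Scheme.Hom.comp_apply, ← hxy, Scheme.Hom.comp_apply]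
    obtain ⟨a, ha, hax⟩ := hr.subset ⟨x p, rfl⟩
    rw [← hax]
    exact ha
  have hgen : g' (⊥ : PrimeSpectrum W) ∈ E.f k ⁻¹' Z := by
    have e : (Spec.map φ) (⊥ : PrimeSpectrum W) = (⊥ : PrimeSpectrum A) :=
      PrimeSpectrum.ext ((RingHom.injective_iff_ker_eq_bot _).mp hφ.1)
    rw [Set.mem_preimage, ← Scheme.Hom.comp_apply, hg', Scheme.Hom.comp_apply, e]
    exact h0
  have hclosed := ((IsLocalRing.specializes_closedPoint (⊥ : PrimeSpectrum W)).map g'.continuous).mem_closed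
    (hZ k) hgen
  have e : (Spec.map φ) (closedPoint W) = closedPoint A := by
    haveI := hφ.2
    exact IsLocalRing.comap_closedPoint φ.hom
  rwa [Set.mem_preimage, ← Scheme.Hom.comp_apply, hg', Scheme.Hom.comp_apply, e, hyz] at hclosed

theorem univSubmersive_sigmaDesc (E : PreZeroHypercover.{u} T) (hE : IsVCover E) :
    SGA1.UnivSubmersive (Sigma.desc E.f) := by
  intro P T' i₁ i₂ f' h
  have hE' := isVCover_pullback₁ i₂ E hE
  let m (i : E.I₀) : pullback i₂ (E.f i) ⟶ P :=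
    h.lift (pullback.fst _ _) (pullback.snd _ _ ≫ Sigma.ι E.X i) (by rw [Category.assoc, Sigma.ι_desc, pullback.condition])
  have hm : ∀ i, m i ≫ f' = pullback.fst i₂ (E.f i) := fun i => h.lift_fst _ _ _
  refine Topology.isQuotientMap_iff_isClosed.mpr ⟨fun t => ?_, fun Z => ⟨fun hZ => hZ.preimage f'.continuous, fun hZ => ?_⟩⟩
  · obtain ⟨U, hU, ht, -⟩ := exists_isAffineOpen_mem_and_subset (U := ⊤) (x := t) trivial
    obtain ⟨F, hF, hr⟩ := hE' ⟨U, hU⟩
    obtain ⟨j, x, hx⟩ := exists_point_of_hasValLift F hF.lift ⟨t, ht⟩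
    obtain ⟨i, k, hk⟩ := hr j
    refine ⟨m i (k x), ?_⟩
    change f' (m i (k x)) = t
    rw [← Scheme.Hom.comp_apply, hm i]
    exact (congr($hk x)).trans (congrArg U.ι hx)
  · rw [IsOpenCover.isClosed_iff_coe_preimage (U := fun U : T'.affineOpens => U.1) (iSup_affineOpens_eq_top T')]
    intro U
    obtain ⟨F, hF, hr⟩ := hE' U
    refine isClosed_of_standardV F hF _ fun j => ?_
    obtain ⟨i, k, hk⟩ := hr j
    have e : F.f j ⁻¹' (((↑) : U.1 → T') ⁻¹' Z) = (k ≫ m i) ⁻¹' (f' ⁻¹' Z) := by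
      ext x
      change U.1.ι (F.f j x) ∈ Z ↔ f' (m i (k x)) ∈ Z
      rw [← Scheme.Hom.comp_apply (m i), hm i]
      exact iff_of_eq (congrArg (· ∈ Z) congr($hk x).symm)
    rw [e]
    exact hZ.preimage (k ≫ m i).continuous

theorem isVCover_singleton_sigmaDesc_iff (E : PreZeroHypercover.{u} T) :
    IsVCover (PreZeroHypercover.singleton.{0} (Sigma.desc E.f)) ↔ IsVCover E := by
  refine ⟨fun h U => ?_, fun h U => ?_⟩
  · obtain ⟨F, hF, hr⟩ := h U
    choose u k hk using hr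
    have hk' : ∀ j, k j ≫ Sigma.desc E.f = F.f j ≫ U.1.ι := hk
    haveI := hF.isAffine_obj
    choose G hG hGU using fun j => exists_standardV_of_forall_mem (S := F.X j)
      (fun i : E.I₀ => (show F.X j ⟶ ∐ E.X from k j) ⁻¹ᵁ (Sigma.ι E.X i).opensRange) fun x => by
        obtain ⟨i, y, hy⟩ := (sigmaOpenCover E.X).exists_eq ((show F.X j ⟶ ∐ E.X from k j) x)
        exact ⟨i, y, hy⟩
    choose i hι hi using hGU
    refine ⟨F.bind G, standardV_bind F hF G hG, fun p => ⟨i p.1 p.2,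
      IsOpenImmersion.lift (Sigma.ι E.X (i p.1 p.2)) ((G p.1).f p.2 ≫ k p.1) ?_, ?_⟩⟩
    · rintro _ ⟨x, rfl⟩
      exact hi p.1 p.2 ⟨x, rfl⟩
    · change _ = ((G p.1).f p.2 ≫ F.f p.1) ≫ U.1.ι
      rw [← Sigma.ι_desc E.f, ← Category.assoc, IsOpenImmersion.lift_fac, Category.assoc, Category.assoc, hk']
  · obtain ⟨F, hF, hr⟩ := h U
    refine ⟨F, hF, fun j => ?_⟩
    obtain ⟨i, k, hk⟩ := hr j
    exact ⟨PUnit.unit, k ≫ Sigma.ι E.X i, show (k ≫ Sigma.ι E.X i) ≫ Sigma.desc E.f = _ by rw [Category.assoc, Sigma.ι_desc, hk]⟩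

theorem isHCover_singleton_sigmaDesc_iff (E : PreZeroHypercover.{u} T) (hE : ∀ i, LocallyOfFinitePresentation (E.f i)) :
    IsHCover E ↔ IsHCover (PreZeroHypercover.singleton.{0} (Sigma.desc E.f)) := by
  refine ⟨fun h => ⟨fun _ => ?_, (isVCover_singleton_sigmaDesc_iff E).mpr h.2⟩,
    fun h => ⟨hE, (isVCover_singleton_sigmaDesc_iff E).mp h.2⟩⟩
  change LocallyOfFinitePresentation (Sigma.desc E.f)
  exact IsZariskiLocalAtSource.sigmaDesc hE

theorem quasiCompactCover_sigma_iff (E : PreZeroHypercover.{u} T) :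
    QuasiCompactCover (PreZeroHypercover.singleton.{0} (Sigma.desc E.f)) ↔ QuasiCompactCover E := by
  refine ⟨fun h => ⟨fun {U} hU => ?_⟩, fun h => ⟨fun {U} hU => ?_⟩⟩
  · obtain ⟨n, u, V, hV, hUn⟩ := QuasiCompactCover.exists_isAffineOpen_of_isCompact
      (PreZeroHypercover.singleton.{0} (Sigma.desc E.f)) hU.isCompact
    have hcov : ∀ (a : Fin n) (x : V a), ∃ (i : E.I₀) (W : (E.X i).Opens),
        IsAffineOpen W ∧ (show (∐ E.X : Scheme.{u}) from x.1) ∈ Sigma.ι E.X i '' (W : Set (E.X i)) ∧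
          Sigma.ι E.X i '' (W : Set (E.X i)) ⊆ ((show (∐ E.X : Scheme.{u}).Opens from V a) : Set (∐ E.X : Scheme.{u})) := fun a x => by
      obtain ⟨i, y, hy⟩ := (sigmaOpenCover E.X).exists_eq (show (∐ E.X : Scheme.{u}) from x.1)
      have hyV : y ∈ Sigma.ι E.X i ⁻¹ᵁ (show (∐ E.X : Scheme.{u}).Opens from V a) := by
        change Sigma.ι E.X i y ∈ (show (∐ E.X : Scheme.{u}).Opens from V a)
        exact hy.symm ▸ x.2
      obtain ⟨W, hW, hyW, hle⟩ := exists_isAffineOpen_mem_and_subset hyV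
      exact ⟨i, W, hW, ⟨y, hyW, hy⟩, fun z ⟨w, hw, e⟩ => e ▸ hle hw⟩
    choose i W hW hxW hle using hcov
    choose s hs using fun a => (hV a).isCompact.elim_finite_subcover
      (fun x : V a => Sigma.ι E.X (i a x) '' (W a x : Set (E.X (i a x))))
      (fun x => (Sigma.ι E.X (i a x)).isOpenEmbedding.isOpenMap _ (W a x).2)
      (fun x hx => Set.mem_iUnion.mpr ⟨⟨x, hx⟩, hxW a ⟨x, hx⟩⟩)
    refine .of_finite (κ := Σ a : Fin n, {x // x ∈ s a}) (fun p => i p.1 p.2.1) (fun p => W p.1 p.2.1)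
      (fun p => (hW p.1 p.2.1).isCompact) (subset_antisymm (fun t ht => ?_) fun t ht => ?_)
    · obtain ⟨p, y, hy, rfl⟩ := Set.mem_iUnion.mp ht
      refine hUn.subset (Set.mem_iUnion.mpr ⟨p.1, Sigma.ι E.X _ y, hle p.1 p.2.1 ⟨y, hy, rfl⟩, ?_⟩)
      change (Sigma.ι E.X _ ≫ Sigma.desc E.f) y = _
      rw [Sigma.ι_desc]
    · obtain ⟨a, x, hx, hxt⟩ := Set.mem_iUnion.mp (hUn.superset ht)
      obtain ⟨z, hzs, y, hy, hyx⟩ := Set.mem_iUnion₂.mp (hs a hx)
      refine Set.mem_iUnion.mpr ⟨⟨a, z, hzs⟩, y, hy, ?_⟩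
      rw [← hxt, ← hyx]
      change _ = (Sigma.ι E.X _ ≫ Sigma.desc E.f) y
      rw [Sigma.ι_desc]
  · obtain ⟨n, i, V, hV, hUn⟩ := QuasiCompactCover.exists_isAffineOpen_of_isCompact E hU.isCompact
    refine .of_finite (κ := Fin n) (fun _ => PUnit.unit) (fun a => Sigma.ι E.X (i a) ''ᵁ V a)
      (fun a => (hV a).isCompact.image (Sigma.ι E.X (i a)).continuous) (.trans (Set.iUnion_congr fun a => ?_) hUn)
    change Sigma.desc E.f '' (Sigma.ι E.X (i a) '' (V a : Set (E.X (i a)))) = _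
    rw [Set.image_image]
    refine Set.image_congr' fun y => ?_
    change (Sigma.ι E.X _ ≫ Sigma.desc E.f) y = _
    rw [Sigma.ι_desc]

theorem fpqc_mem_iff (R : Presieve T) :
    R ∈ Scheme.fpqcPrecoverage T ↔ R ∈ Scheme.qcPrecoverage T ∧ R ∈ Scheme.precoverage @Flat T := Iff.rfl

theorem fpqc_sigma_iff (E : PreZeroHypercover.{u} T) :
    E.presieve₀ ∈ Scheme.fpqcPrecoverage T ↔ Presieve.singleton (Sigma.desc E.f) ∈ Scheme.fpqcPrecoverage T := by
  rw [← show (PreZeroHypercover.singleton.{0} (Sigma.desc E.f)).presieve₀ = Presieve.singleton (Sigma.desc E.f) from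
      PreZeroHypercover.presieve₀_singleton _, fpqc_mem_iff, fpqc_mem_iff, Scheme.presieve₀_mem_qcPrecoverage_iff,
    Scheme.presieve₀_mem_qcPrecoverage_iff, quasiCompactCover_sigma_iff]
  refine and_congr_right fun _ => ?_
  rw [PreZeroHypercover.presieve₀, PreZeroHypercover.presieve₀, Scheme.ofArrows_mem_precoverage_iff,
    Scheme.ofArrows_mem_precoverage_iff]
  constructor
  · rintro ⟨hs, hf⟩
    refine ⟨fun x => ?_, fun _ => show Flat (Sigma.desc E.f) from IsZariskiLocalAtSource.sigmaDesc hf⟩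
    obtain ⟨i, y, rfl⟩ := hs x
    refine ⟨PUnit.unit, Sigma.ι E.X i y, ?_⟩
    change (Sigma.ι E.X i ≫ Sigma.desc E.f) y = _
    rw [Sigma.ι_desc]
  · rintro ⟨hs, hf⟩
    refine ⟨fun x => ?_, fun i => ?_⟩
    · obtain ⟨_, y, rfl⟩ := hs x
      obtain ⟨i, z, hz⟩ := (sigmaOpenCover E.X).exists_eq (show (∐ E.X : Scheme.{u}) from y)
      refine ⟨i, z, ?_⟩
      change _ = Sigma.desc E.f y
      rw [← hz]
      change _ = (Sigma.ι E.X i ≫ Sigma.desc E.f) z
      rw [Sigma.ι_desc]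
    · haveI : Flat (Sigma.desc E.f) := hf PUnit.unit
      rw [← Sigma.ι_desc E.f i]
      infer_instance

theorem fpqc_of_locally (E : PreZeroHypercover.{u} T) (hflat : ∀ i, Flat (E.f i))
    (𝒱 : Scheme.Cover Scheme.fpqcPrecoverage T)
    (hloc : ∀ j, (E.pullback₁ (𝒱.f j)).presieve₀ ∈ Scheme.fpqcPrecoverage (𝒱.X j)) :
    E.presieve₀ ∈ Scheme.fpqcPrecoverage T := by
  simp only [fpqc_mem_iff, Scheme.presieve₀_mem_qcPrecoverage_iff] at hloc
  rw [fpqc_mem_iff, Scheme.presieve₀_mem_qcPrecoverage_iff]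
  haveI : QuasiCompactCover 𝒱.toPreZeroHypercover := Scheme.presieve₀_mem_qcPrecoverage_iff.mp 𝒱.mem₀.1
  let 𝒲 := QuasiCompactCover.ulift 𝒱.toPreZeroHypercover
  haveI : ∀ j, QuasiCompactCover (E.pullback₁ (𝒲.f j)) := fun j => (hloc _).1
  refine ⟨.of_hom (𝒱 := 𝒲.bind fun j => E.pullback₁ (𝒲.f j))
    ⟨fun p => p.2, fun p => pullback.snd _ _, fun p => pullback.condition.symm⟩, ?_⟩
  rw [PreZeroHypercover.presieve₀, Scheme.ofArrows_mem_precoverage_iff]
  refine ⟨fun x => ?_, hflat⟩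
  have hv := 𝒱.mem₀.2
  rw [PreZeroHypercover.presieve₀, Scheme.ofArrows_mem_precoverage_iff] at hv
  obtain ⟨j, y, rfl⟩ := hv.1 x
  have hj := (hloc j).2
  rw [PreZeroHypercover.presieve₀, Scheme.ofArrows_mem_precoverage_iff] at hj
  obtain ⟨i, z, rfl⟩ := hj.1 y
  refine ⟨i, pullback.snd (𝒱.f j) (E.f i) z, ?_⟩
  change (pullback.snd (𝒱.f j) (E.f i) ≫ E.f i) z = (pullback.fst (𝒱.f j) (E.f i) ≫ 𝒱.f j) z
  rw [pullback.condition]

theorem quasiCompactCover_iff_nhds [QuasiSeparatedSpace T] (E : PreZeroHypercover.{w} T) :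
    QuasiCompactCover E ↔ ∀ t : T, ∃ (n : ℕ) (i : Fin n → E.I₀) (V : ∀ j, (E.X (i j)).Opens),
      (∀ j, IsCompact (V j : Set (E.X (i j)))) ∧ (⋃ j, ⇑(E.f (i j)) '' (V j : Set (E.X (i j)))) ∈ nhds t := by
  constructor
  · intro h t
    obtain ⟨U, hU, htU, -⟩ := exists_isAffineOpen_mem_and_subset (U := ⊤) (x := t) trivial
    obtain ⟨n, i, V, hV, hUn⟩ := QuasiCompactCover.exists_isAffineOpen_of_isCompact E hU.isCompact
    exact ⟨n, i, V, fun j => (hV j).isCompact, hUn.symm ▸ U.2.mem_nhds htU⟩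
  · intro h
    refine ⟨fun {U} hU => ?_⟩
    choose n i V hV hn using h
    obtain ⟨s, -, hs⟩ := hU.isCompact.elim_nhds_subcover
      (fun t => ⋃ j, ⇑(E.f (i t j)) '' (V t j : Set (E.X (i t j)))) fun t _ => hn t
    refine .of_finite (κ := Σ t : {x // x ∈ s}, Fin (n t.1)) (fun p => i p.1.1 p.2)
      (fun p => V p.1.1 p.2 ⊓ E.f (i p.1.1 p.2) ⁻¹ᵁ U) (fun p => ?_) (subset_antisymm (fun t ht => ?_) fun t ht => ?_)
    · haveI : CompactSpace (V p.1.1 p.2 : Scheme) := isCompact_iff_compactSpace.mp (hV p.1.1 p.2)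
      haveI : QuasiCompact ((V p.1.1 p.2).ι ≫ E.f (i p.1.1 p.2)) := inferInstance
      have hc := Scheme.Hom.isCompact_preimage ((V p.1.1 p.2).ι ≫ E.f (i p.1.1 p.2)) hU.isCompact
      have := hc.image (V p.1.1 p.2).ι.continuous
      convert this using 1
      ext x
      exact ⟨fun hx => ⟨⟨x, hx.1⟩, hx.2, rfl⟩, fun ⟨y, hy, e⟩ => e ▸ ⟨y.2, hy⟩⟩
    · obtain ⟨p, x, hx, rfl⟩ := Set.mem_iUnion.mp ht
      exact hx.2
    · obtain ⟨t₀, ht₀, ht'⟩ := Set.mem_iUnion₂.mp (hs ht)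
      obtain ⟨j, x, hx, rfl⟩ := Set.mem_iUnion.mp ht'
      exact Set.mem_iUnion.mpr ⟨⟨⟨t₀, ht₀⟩, j⟩, x, ⟨hx, ht⟩, rfl⟩

end Groth.Agent.HTopCov
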