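import Groth.Agent.HTopCov.ChowLite
import Groth.Agent.HTopCov.Misc
import Groth.Agent.HTopCov.Sheaf
import Groth.Agent.ModPairLib.CoprodAdm
import Groth.Agent.SGA1Q.SigmaFinite

/-!
# Composition of standard ph coverings

Families proper over an open of a scheme proper over an affine base extend, after refinement, to
proper families over the whole scheme.
-/

set_option backward.isDefEq.respectTransparency false
set_option linter.style.haveILetI false

universe w w' u

open CategoryTheory CategoryTheory.Limits AlgebraicGeometry TopologicalSpace HTop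

namespace Groth.Agent.HTopCov

theorem exists_proper_extension {A : Type u} [CommRing A] {U V : Scheme.{u}}
    (f : U ⟶ Spec (CommRingCat.of A)) [IsProper f] (W : U.Opens) (hW : IsCompact (W : Set U))
    (v : V ⟶ W.toScheme) [IsProper v] [Surjective v] :
    ∃ (ι : Type) (_ : Finite ι) (Z : ι → Scheme.{u}) (g : ∀ k, Z k ⟶ U),
      (∀ k, IsProper (g k)) ∧ (∀ x, ∃ (k : ι) (z : Z k), g k z = x) ∧
      ∀ (k : ι) {T : Scheme.{u}} (h : T ⟶ Z k), (∀ t, g k (h t) ∈ W) →
        ∃ l : T ⟶ V, l ≫ v ≫ W.ι = h ≫ g k := by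
  haveI : CompactSpace W.toScheme := isCompact_iff_compactSpace.1 hW
  haveI : CompactSpace V := QuasiCompact.compactSpace_of_compactSpace v
  obtain ⟨ι, _, Z, P, π, p, q, hπ, hq, hp, hc, hsurj⟩ := exists_chowLite (v ≫ W.ι ≫ f)
  let Q : ι → Scheme.{u} := fun k => pullback (q k) f
  let i : ∀ k, Z k ⟶ Q k := fun k =>
    pullback.lift (p k) (π k ≫ v ≫ W.ι) (by rw [hc k, Category.assoc, Category.assoc])
  let O : ∀ k, (Q k).Opens := fun k => pullback.snd (q k) f ⁻¹ᵁ W
  have hi : ∀ k z, i k z ∈ O k := fun k z => by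
    show pullback.snd (q k) f (i k z) ∈ W
    rw [← Scheme.Hom.comp_apply, pullback.lift_snd, ← Category.assoc, Scheme.Hom.comp_apply]
    exact Subtype.prop _
  let i' : ∀ k, Z k ⟶ (O k).toScheme := fun k =>
    IsOpenImmersion.lift (O k).ι (i k) (by
      rw [Scheme.Opens.range_ι]; rintro _ ⟨z, rfl⟩; exact hi k z)
  have hi' : ∀ k, i' k ≫ (O k).ι = i k := fun k => IsOpenImmersion.lift_fac _ _ _
  haveI : ∀ k, IsClosedImmersion (i' k) := fun k => by
    haveI := hp k
    haveI := hπ k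
    haveI := hq k
    have e : i' k ≫ (pullback.snd (q k) f ∣_ W) = π k ≫ v := by
      rw [← cancel_mono W.ι, Category.assoc, morphismRestrict_ι, reassoc_of% (hi' k),
        pullback.lift_snd, Category.assoc]
    haveI : IsProper (i' k ≫ (pullback.snd (q k) f ∣_ W)) := by
      rw [e]; infer_instance
    haveI : Mono (i k) := mono_of_mono_fac (pullback.lift_fst _ _ _ : i k ≫ pullback.fst _ _ = p k)
    haveI : Mono (i' k) := mono_of_mono_fac (hi' k)
    exact (IsClosedImmersion.iff_isProper_and_mono _).2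
      ⟨IsProper.of_comp _ (pullback.snd (q k) f ∣_ W), inferInstance⟩
  have hcl : ∀ k, closure (Set.range (i k)) ∩ (O k : Set (Q k)) ⊆ Set.range (i k) := by
    rintro k y ⟨hy, hyO⟩
    have hC := (i' k).isClosedEmbedding.isClosed_range
    have : (⟨y, hyO⟩ : (O k).toScheme) ∈ closure (Set.range (i' k)) := by
      rw [(O k).ι.isOpenEmbedding.isInducing.closure_eq_preimage_closure_image]
      show y ∈ closure ((O k).ι '' Set.range (i' k))
      rwa [← Set.range_comp, ← TopCat.coe_comp, ← Scheme.Hom.comp_base, hi']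
    rw [hC.closure_eq] at this
    obtain ⟨z, hz⟩ := this
    exact ⟨z, by rw [← hi', Scheme.Hom.comp_apply, hz]; rfl⟩
  let C : ∀ k, Closeds (Q k) := fun k => ⟨closure (Set.range (i k)), isClosed_closure⟩
  let Y : ι → Scheme.{u} := fun k => (Scheme.IdealSheafData.vanishingIdeal (C k)).subscheme
  let c : ∀ k, Y k ⟶ Q k := fun k => (Scheme.IdealSheafData.vanishingIdeal (C k)).subschemeι
  let R : U.IdealSheafData := Scheme.IdealSheafData.vanishingIdeal ⟨(W : Set U)ᶜ, W.2.isClosed_compl⟩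
  let Z' : Option ι → Scheme.{u} := fun o => o.elim R.subscheme Y
  let g : ∀ o, Z' o ⟶ U
    | none => R.subschemeι
    | some k => c k ≫ pullback.snd (q k) f
  refine ⟨Option ι, inferInstance, Z', g, ?_, fun x => ?_, ?_⟩
  · rintro (_ | k)
    · show IsProper R.subschemeι
      infer_instance
    · haveI := hq k
      show IsProper (c k ≫ pullback.snd (q k) f)
      infer_instance
  · by_cases hx : x ∈ W
    · obtain ⟨y, hy⟩ := v.surjective ⟨x, hx⟩
      obtain ⟨k, z, hz⟩ := hsurj y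
      obtain ⟨y', hy'⟩ := (H23.RedSub.range_vanishingIdeal (C k)).ge (subset_closure ⟨z, rfl⟩)
      refine ⟨some k, y', ?_⟩
      show (c k ≫ pullback.snd (q k) f) y' = x
      rw [Scheme.Hom.comp_apply]
      erw [hy']
      rw [← Scheme.Hom.comp_apply, pullback.lift_snd, ← Category.assoc, Scheme.Hom.comp_apply,
        Scheme.Hom.comp_apply, hz, hy]
      rfl
    · obtain ⟨y', hy'⟩ := (H23.RedSub.range_vanishingIdeal (⟨(W : Set U)ᶜ, W.2.isClosed_compl⟩ : Closeds U)).ge hx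
      exact ⟨none, y', hy'⟩
  · rintro (_ | k) T h hh
    · have he : IsEmpty T := ⟨fun t => by
        have h1 : R.subschemeι (h t) ∈ ((W : Set U))ᶜ :=
          (H23.RedSub.range_vanishingIdeal (⟨(W : Set U)ᶜ, W.2.isClosed_compl⟩ : Closeds U)).le ⟨_, rfl⟩
        exact h1 (hh t)⟩
      exact ⟨isInitialOfIsEmpty.to V, isInitialOfIsEmpty.hom_ext _ _⟩
    · let N : (Y k).Opens := c k ⁻¹ᵁ O k
      obtain ⟨a, ha⟩ : ∃ a : N.toScheme ⟶ Z k, a ≫ i k = N.ι ≫ c k := by
        haveI : IsImmersion (i k) := hi' k ▸ inferInstance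
        haveI : IsReduced (Y k) := H23.RedSub.isReduced_vanishingIdeal _
        haveI : IsReduced N.toScheme := isReduced_of_isOpenImmersion N.ι
        refine H23.RedSub.exists_lift _ _ ?_
        rintro _ ⟨y, rfl⟩
        exact hcl k ⟨(H23.RedSub.range_vanishingIdeal (C k)).le ⟨_, rfl⟩, y.2⟩
      let h' : T ⟶ N.toScheme := IsOpenImmersion.lift N.ι h (by
        rw [Scheme.Opens.range_ι]; rintro _ ⟨t, rfl⟩; exact hh t)
      refine ⟨h' ≫ a ≫ π k, ?_⟩
      show _ = h ≫ c k ≫ pullback.snd (q k) f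
      rw [Category.assoc, Category.assoc, ← pullback.lift_snd (p k) (π k ≫ v ≫ W.ι) (by
        rw [hc k, Category.assoc, Category.assoc] : p k ≫ q k = (π k ≫ v ≫ W.ι) ≫ f)]
      show h' ≫ a ≫ i k ≫ _ = _
      rw [reassoc_of% ha, ← Category.assoc, IsOpenImmersion.lift_fac]

/-- Proper surjective families over a scheme proper over an affine one, refining finitely many
proper surjective morphisms to quasi-compact opens. -/
theorem exists_proper_family {A : Type u} [CommRing A] {U : Scheme.{u}}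
    (f : U ⟶ Spec (CommRingCat.of A)) [IsProper f] {α : Type*} (W : α → U.Opens)
    (hW : ∀ a, IsCompact (W a : Set U)) (V : α → Scheme.{u}) (v : ∀ a, V a ⟶ (W a).toScheme)
    (hp : ∀ a, IsProper (v a)) (hs : ∀ a, Surjective (v a)) (s : Finset α) :
    ∃ (ι : Type) (_ : Finite ι) (Z : ι → Scheme.{u}) (g : ∀ k, Z k ⟶ U),
      (∀ k, IsProper (g k)) ∧ (∀ x, ∃ (k : ι) (z : Z k), g k z = x) ∧
      ∀ a ∈ s, ∀ (k : ι) {T : Scheme.{u}} (h : T ⟶ Z k), (∀ t, g k (h t) ∈ W a) →
        ∃ l : T ⟶ V a, l ≫ v a ≫ (W a).ι = h ≫ g k := by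
  classical
  induction s using Finset.induction with
  | empty =>
    exact ⟨PUnit, inferInstance, fun _ => U, fun _ => 𝟙 U, fun _ => inferInstance,
      fun x => ⟨⟨⟩, x, rfl⟩, by simp⟩
  | insert a s _ ih =>
    obtain ⟨ι, _, Z, g, hg, hgs, hl⟩ := ih
    haveI := hp a
    haveI := hs a
    obtain ⟨ι', _, Z', g', hg', hgs', hl'⟩ := exists_proper_extension f (W a) (hW a) (v a)
    refine ⟨ι × ι', inferInstance, fun k => pullback (g k.1) (g' k.2),
      fun k => pullback.fst _ _ ≫ g k.1, fun k => ?_, fun x => ?_, ?_⟩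
    · haveI := hg k.1
      haveI := hg' k.2
      infer_instance
    · obtain ⟨k, z, rfl⟩ := hgs x
      obtain ⟨k', z', hz'⟩ := hgs' (g k z)
      obtain ⟨y, hy, -⟩ := Scheme.Pullback.exists_preimage_pullback z z' hz'.symm
      exact ⟨(k, k'), y, by rw [Scheme.Hom.comp_apply, hy]⟩
    · intro b hb k T h hh
      rcases Finset.mem_insert.1 hb with rfl | hb
      · obtain ⟨l, hl⟩ := hl' k.2 (h ≫ pullback.snd _ _) fun t => by
          rw [Scheme.Hom.comp_apply, ← Scheme.Hom.comp_apply (pullback.snd _ _), ← pullback.condition]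
          exact hh t
        exact ⟨l, by dsimp only; rw [hl, Category.assoc, pullback.condition]⟩
      · obtain ⟨l, hl⟩ := hl b hb k.1 (h ≫ pullback.fst _ _) hh
        exact ⟨l, by rw [hl, Category.assoc]⟩

/-- A finite jointly surjective proper family over an affine scheme gives a standard ph covering
refining any family through which it factors locally. -/
theorem exists_standardPh_of_family {T : Scheme.{u}} [IsAffine T] {ι : Type u} [Finite ι]
    (Z : ι → Scheme.{u}) (g : ∀ k, Z k ⟶ T) (hg : ∀ k, IsProper (g k))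
    (hs : ∀ x, ∃ (k : ι) (z : Z k), g k z = x) (E : PreZeroHypercover.{w} T)
    (hloc : ∀ (k : ι) (z : Z k), ∃ O : (Z k).Opens, z ∈ O ∧
      ∃ (i : E.I₀) (l : O.toScheme ⟶ E.X i), l ≫ E.f i = O.ι ≫ g k) :
    ∃ F : PreZeroHypercover.{0} T, IsStandardPh F ∧ Nonempty (F.Hom E) := by
  classical
  haveI := Fintype.ofFinite ι
  have h : ∀ (k : ι) (z : Z k), ∃ O : (Z k).Opens, IsAffineOpen O ∧ z ∈ O ∧
      ∃ (i : E.I₀) (l : O.toScheme ⟶ E.X i), l ≫ E.f i = O.ι ≫ g k := fun k z => by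
    obtain ⟨O, hz, i, l, hl⟩ := hloc k z
    obtain ⟨O', hO', hz', hle⟩ := exists_isAffineOpen_mem_and_subset hz
    exact ⟨O', hO', hz', i, (Z k).homOfLE hle ≫ l, by
      rw [Category.assoc, hl, Scheme.homOfLE_ι_assoc]⟩
  choose O hO hzO i l hl using h
  have hfin : ∀ k, ∃ s : Finset (Z k), ∀ z, ∃ y ∈ s, z ∈ O k y := fun k => by
    haveI := hg k
    haveI : CompactSpace (Z k) := QuasiCompact.compactSpace_of_compactSpace (g k)
    obtain ⟨s, hs⟩ := (isCompact_univ (X := Z k)).elim_finite_subcover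
      (fun y => (O k y : Set (Z k))) (fun y => (O k y).2) fun z _ => Set.mem_iUnion.2 ⟨z, hzO k z⟩
    exact ⟨s, fun z => by
      obtain ⟨y, hy, hzy⟩ := Set.mem_iUnion₂.1 (hs (Set.mem_univ z))
      exact ⟨y, hy, hzy⟩⟩
  choose s hsc using hfin
  let e : (Σ k, {y // y ∈ s k}) ≃ Fin (Fintype.card (Σ k, {y // y ∈ s k})) := Fintype.equivFin _
  let G : ∀ p : (Σ k, {y // y ∈ s k}), (O p.1 p.2.1).toScheme ⟶ ∐ Z :=
    fun p => (O p.1 p.2.1).ι ≫ Sigma.ι Z p.1
  refine ⟨⟨Fin (Fintype.card (Σ k, {y // y ∈ s k})), fun j => (O (e.symm j).1 (e.symm j).2.1).toScheme,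
      fun j => (O (e.symm j).1 (e.symm j).2.1).ι ≫ g (e.symm j).1⟩,
    ⟨inferInstance, inferInstanceAs (Finite (Fin _)), fun j => hO _ _, ∐ Z, Sigma.desc g,
      fun j => G (e.symm j), ?_, ?_, fun j => ?_, fun j => ?_, fun x => ?_⟩, ⟨?_⟩⟩
  · haveI : IsProper (Limits.Sigma.map g) := by
      haveI := hg
      exact ModPairLib.isProper_sigmaMap g
    haveI : IsFinite (Sigma.desc fun _ : ι => 𝟙 T) :=
      SGA1Q.isFinite_sigmaDesc _ fun _ => inferInstance
    rw [show Sigma.desc g = Limits.Sigma.map g ≫ Sigma.desc (fun _ : ι => 𝟙 T) from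
      Sigma.hom_ext _ _ fun k => by rw [Sigma.ι_desc, Sigma.ι_map_assoc, Sigma.ι_desc, Category.comp_id]]
    infer_instance
  · refine Surjective.sigmaDesc_of_union_range_eq_univ (Set.eq_univ_of_forall fun x => ?_)
    obtain ⟨k, z, hz⟩ := hs x
    exact Set.mem_iUnion.2 ⟨k, z, hz⟩
  · infer_instance
  · show ((O _ _).ι ≫ Sigma.ι Z _) ≫ Sigma.desc g = _
    rw [Category.assoc, Sigma.ι_desc]
  · obtain ⟨k, z, hz⟩ := (sigmaOpenCover Z).exists_eq x
    obtain ⟨y, hy, hzy⟩ := hsc k z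
    refine ⟨e ⟨k, y, hy⟩, ?_⟩
    show x ∈ Set.range (G (e.symm (e ⟨k, y, hy⟩)))
    rw [Equiv.symm_apply_apply]
    refine ⟨⟨z, hzy⟩, ?_⟩
    exact hz
  · exact
      { s₀ := fun j => i (e.symm j).1 (e.symm j).2.1
        h₀ := fun j => l (e.symm j).1 (e.symm j).2.1
        w₀ := fun j => hl _ _ }

/-- An open covering of an affine scheme is refined by a standard ph covering. -/
theorem exists_standardPh_of_openCover {T : Scheme.{u}} [IsAffine T] (E : PreZeroHypercover.{w} T)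
    (ho : ∀ i, IsOpenImmersion (E.f i)) (hc : ∀ x, ∃ i, x ∈ Set.range (E.f i)) :
    ∃ F : PreZeroHypercover.{0} T, IsStandardPh F ∧ Nonempty (F.Hom E) :=
  exists_standardPh_of_family (ι := PUnit.{u + 1}) (fun _ => T) (fun _ => 𝟙 T) (fun _ => inferInstance)
    (fun x => ⟨PUnit.unit, x, rfl⟩) E fun _ z => by
    obtain ⟨i, hi⟩ := hc z
    haveI := ho i
    exact ⟨(E.f i).opensRange, hi, i, (E.f i).isoOpensRange.inv,
      by rw [Scheme.Hom.isoOpensRange_inv_comp, Category.comp_id]⟩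

/-- Composites of standard ph coverings are refined by standard ph coverings. -/
theorem exists_standardPh_bind {T : Scheme.{u}} (E : PreZeroHypercover.{w} T)
    (hE : IsStandardPh E) (F : ∀ j, PreZeroHypercover.{w'} (E.X j))
    (hF : ∀ j, IsStandardPh (F j)) :
    ∃ F' : PreZeroHypercover.{0} T, IsStandardPh F' ∧ Nonempty (F'.Hom (E.bind F)) := by
  classical
  haveI := hE.isAffine
  haveI := hE.finite_index
  haveI := hE.isAffine_obj
  obtain ⟨U, f, ι, hf, hfs, hι, hιf, hcov⟩ := hE.exists_proper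
  choose V v κ hv hvs hκ hκv hκc using fun j => (hF j).exists_proper
  haveI := Fintype.ofFinite E.I₀
  let f' : U ⟶ Spec (CommRingCat.of Γ(T, ⊤)) := f ≫ T.isoSpec.hom
  obtain ⟨α, _, Z, g, hg, hgs, hl⟩ := exists_proper_family f' (fun j => (ι j).opensRange)
    (fun j => (isAffineOpen_opensRange (ι j)).isCompact) V
    (fun j => v j ≫ (ι j).isoOpensRange.hom) (fun j => inferInstance) (fun j => inferInstance)
    Finset.univ
  refine exists_standardPh_of_family (ι := ULift.{u} α) (fun k => Z k.down)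
    (fun k => g k.down ≫ f) (fun k => by
      haveI := hg k.down; infer_instance) (fun x => ?_) _ fun k' z => ?_
  · obtain ⟨y, rfl⟩ := f.surjective x
    obtain ⟨k, z, rfl⟩ := hgs y
    exact ⟨⟨k⟩, z, rfl⟩
  · obtain ⟨k⟩ := k'
    dsimp only at z ⊢
    obtain ⟨j, hj⟩ := hcov (g k z)
    let O : (Z k).Opens := g k ⁻¹ᵁ (ι j).opensRange
    obtain ⟨l, hl⟩ := hl j (Finset.mem_univ j) k O.ι fun t => t.2
    obtain ⟨m, hm⟩ := hκc j (l ⟨z, hj⟩)
    haveI := hκ j m
    let O' : O.toScheme.Opens := l ⁻¹ᵁ (κ j m).opensRange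
    refine ⟨O.ι ''ᵁ O', ⟨⟨z, hj⟩, hm, rfl⟩, ⟨j, m⟩, (O.ι.isoImage O').inv ≫
      IsOpenImmersion.lift (κ j m) (O'.ι ≫ l) (by
        rintro _ ⟨t, rfl⟩
        exact t.2), ?_⟩
    show ((O.ι.isoImage O').inv ≫ _) ≫ (F j).f m ≫ E.f j = _
    rw [Category.assoc, ← hκv j m, Category.assoc, IsOpenImmersion.lift_fac_assoc]
    have hl' : l ≫ v j ≫ ι j = O.ι ≫ g k := by
      simpa using hl
    rw [← hιf j, Category.assoc, reassoc_of% hl', ← Scheme.Hom.isoImage_inv_ι_assoc]

end Groth.Agent.HTopCov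

namespace Groth.Agent.HTopCov

/-- A ph covering is refined, over every affine scheme mapping to the base, by a standard ph
covering. -/
theorem IsPhCover.exists_refine {S T : Scheme.{u}} {E : PreZeroHypercover.{w} T} (hE : IsPhCover E)
    [IsAffine S] (h : S ⟶ T) :
    ∃ F : PreZeroHypercover.{0} S, IsStandardPh F ∧ RefinesOver h F E := by
  let C : PreZeroHypercover.{u} S := ⟨T.affineOpens, fun U => (h ⁻¹ᵁ U.1).toScheme,
    fun U => (h ⁻¹ᵁ U.1).ι⟩
  obtain ⟨G, hG, ⟨φ⟩⟩ := exists_standardPh_of_openCover C (fun U => inferInstanceAs (IsOpenImmersion (h ⁻¹ᵁ U.1).ι))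
    fun x => by
      obtain ⟨U, hU, hx, -⟩ := exists_isAffineOpen_mem_and_subset (U := ⊤) (x := h x) trivial
      exact ⟨⟨U, hU⟩, ⟨x, hx⟩, rfl⟩
  choose F hF hFE using fun j => hE.2 (φ.s₀ j)
  let g := fun j => (show G.X j ⟶ (h ⁻¹ᵁ (φ.s₀ j).1).toScheme from φ.h₀ j) ≫ (h ∣_ (φ.s₀ j).1)
  have hg : ∀ j, g j ≫ (φ.s₀ j).1.ι = G.f j ≫ h := fun j => by
    dsimp only [g]
    rw [Category.assoc, morphismRestrict_ι, ← Category.assoc]
    exact congrArg (· ≫ h) (φ.w₀ j)
  haveI := hG.isAffine_obj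
  obtain ⟨F', hF', ⟨ψ⟩⟩ := exists_standardPh_bind G hG (fun j => (F j).pullback₁ (g j))
    fun j => standardPh_pullback₁ (g j) _ (hF j)
  refine ⟨F', hF', fun a => ?_⟩
  let j := (ψ.s₀ a).1
  let b := (ψ.s₀ a).2
  obtain ⟨i, k, hk⟩ := hFE j b
  let ψa : F'.X a ⟶ pullback (g j) ((F j).f b) := ψ.h₀ a
  have hw : ψa ≫ pullback.fst (g j) ((F j).f b) ≫ G.f j = F'.f a := ψ.w₀ a
  refine ⟨i, ψa ≫ pullback.snd (g j) ((F j).f b) ≫ k, ?_⟩
  rw [← hw, Category.assoc, Category.assoc, hk, Category.assoc, Category.assoc, ← hg,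
    ← pullback.condition_assoc]

theorem isPhCover_pullback₁ {S T : Scheme.{u}} (g : S ⟶ T) (E : PreZeroHypercover.{w} T)
    (hE : IsPhCover E) : IsPhCover (E.pullback₁ g) := by
  refine ⟨fun i => ?_, fun U => ?_⟩
  · haveI := hE.1 i
    exact inferInstanceAs (LocallyOfFiniteType (pullback.fst g (E.f i)))
  · haveI : IsAffine (U.1 : Scheme) := U.2
    obtain ⟨F, hF, hr⟩ := IsPhCover.exists_refine hE (U.1.ι ≫ g)
    refine ⟨F, hF, fun j => ?_⟩
    obtain ⟨i, k, hk⟩ := hr j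
    exact ⟨i, pullback.lift (F.f j ≫ U.1.ι) k (by rw [Category.assoc, hk]), pullback.lift_fst _ _ _⟩

theorem isPhCover_bind {T : Scheme.{u}} (E : PreZeroHypercover.{w} T) (hE : IsPhCover E)
    (F : ∀ i, PreZeroHypercover.{w'} (E.X i)) (hF : ∀ i, IsPhCover (F i)) : IsPhCover (E.bind F) := by
  refine ⟨fun p => ?_, fun U => ?_⟩
  · haveI := hE.1 p.1
    haveI := (hF p.1).1 p.2
    exact inferInstanceAs (LocallyOfFiniteType ((F p.1).f p.2 ≫ E.f p.1))
  · obtain ⟨G, hG, hr⟩ := hE.2 U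
    choose i k hk using hr
    haveI := hG.isAffine_obj
    choose H hH hr' using fun j => IsPhCover.exists_refine (hF (i j)) (k j)
    obtain ⟨F', hF', ⟨ψ⟩⟩ := exists_standardPh_bind G hG H hH
    refine ⟨F', hF', fun a => ?_⟩
    let j := (ψ.s₀ a).1
    let b := (ψ.s₀ a).2
    obtain ⟨i', k', hk'⟩ := hr' j b
    let ψa : F'.X a ⟶ (H j).X b := ψ.h₀ a
    have hw : ψa ≫ (H j).f b ≫ G.f j = F'.f a := ψ.w₀ a
    refine ⟨⟨i j, i'⟩, ψa ≫ k', ?_⟩
    change (ψa ≫ k') ≫ (F (i j)).f i' ≫ E.f (i j) = F'.f a ≫ U.1.ι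
    rw [← hw, Category.assoc, reassoc_of% hk', hk, Category.assoc, Category.assoc]

end Groth.Agent.HTopCov
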