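import Groth.Agent.HTopCov.V

/-!
The lifting condition for one quasi-compact morphism.
-/

set_option backward.isDefEq.respectTransparency false
set_option backward.isDefEq.respectTransparency.types false

universe w u

namespace Groth.Agent.HTopCov

open CategoryTheory CategoryTheory.Limits AlgebraicGeometry IsLocalRing HTop

variable {X Y : Scheme.{u}}

theorem hasValLift_of_isVCover {E : PreZeroHypercover.{w} Y} (hE : IsVCover E) : HasValLift E := by
  intro V _ _ g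
  obtain ⟨G, hG, hr⟩ := IsVCover.exists_refine hE g
  obtain ⟨W, hW, hW', φ, hφ, j, l, hl⟩ := hG.lift V (𝟙 _)
  obtain ⟨i, k, hk⟩ := hr j
  refine ⟨W, hW, hW', φ, hφ, i, l ≫ k, ?_⟩
  rw [Category.assoc, hk, ← Category.assoc, hl, Category.comp_id]

theorem isVCover_of_hasValLift (f : X ⟶ Y) [QuasiCompact f] (h : HasValLift (PreZeroHypercover.singleton.{w} f)) :
    IsVCover (PreZeroHypercover.singleton.{w} f) := fun U => by
  haveI : IsAffine (U.1 : Scheme) := U.2
  let Y' : Scheme := (f ⁻¹ᵁ U.1).toScheme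
  haveI : QuasiCompact (f ∣_ U.1) := IsZariskiLocalAtTarget.restrict ‹QuasiCompact f› U.1
  haveI : CompactSpace Y' := QuasiCompact.compactSpace_of_compactSpace (f ∣_ U.1)
  let C := Y'.affineCover.finiteSubcover
  let e := (Finite.exists_equiv_fin C.I₀).choose_spec.some
  refine ⟨⟨Fin _, fun j => C.X (e.symm j), fun j => C.f (e.symm j) ≫ (f ∣_ U.1)⟩,
    ⟨inferInstance, inferInstanceAs (Finite (Fin _)), fun j => inferInstanceAs (IsAffine (Y'.affineCover.X _)),
      fun V _ _ g => ?_⟩,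
    fun j => ⟨PUnit.unit, C.f (e.symm j) ≫ (f ⁻¹ᵁ U.1).ι, ?_⟩⟩
  · obtain ⟨W, hW, hW', φ, hφ, j, l, hl⟩ := h V (g ≫ U.1.ι)
    change (show Spec W ⟶ X from l) ≫ f = _ at hl
    let l₁ : Spec W ⟶ X := l
    have hl₁ : l₁ ≫ f = Spec.map φ ≫ g ≫ U.1.ι := hl
    have hr : Set.range l₁ ⊆ Set.range (f ⁻¹ᵁ U.1).ι := by
      rintro _ ⟨z, rfl⟩
      rw [Scheme.Opens.range_ι]
      change f (l₁ z) ∈ U.1
      rw [← Scheme.Hom.comp_apply, hl₁, ← Category.assoc, Scheme.Hom.comp_apply]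
      exact ((Spec.map φ ≫ g) z).2
    let l₂ := IsOpenImmersion.lift (f ⁻¹ᵁ U.1).ι l₁ hr
    obtain ⟨i, hi⟩ := C.exists_eq (l₂ (closedPoint W))
    obtain ⟨l₃, hl₃⟩ := exists_lift_of_closedPoint (C.f i) l₂ hi
    have key : ∀ i', i' = i → ∃ l' : Spec W ⟶ C.X i', l' ≫ C.f i' = l₂ := by
      rintro _ rfl
      exact ⟨l₃, hl₃⟩
    obtain ⟨l', hl'⟩ := key _ (e.symm_apply_apply i)
    refine ⟨W, hW, hW', φ, hφ, e i, l', ?_⟩
    rw [← cancel_mono U.1.ι]
    change (l' ≫ C.f (e.symm (e i)) ≫ (f ∣_ U.1)) ≫ U.1.ι = _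
    rw [← Category.assoc l', hl', Category.assoc, morphismRestrict_ι, IsOpenImmersion.lift_fac_assoc, hl₁, Category.assoc]
  · change (C.f (e.symm j) ≫ (f ⁻¹ᵁ U.1).ι) ≫ f = (C.f (e.symm j) ≫ (f ∣_ U.1)) ≫ U.1.ι
    rw [Category.assoc, Category.assoc, morphismRestrict_ι]

theorem hasValLift_iff_specializes (f : X ⟶ Y) :
    HasValLift (PreZeroHypercover.singleton.{w} f) ↔
      ∀ (Z : Scheme.{u}) (g : Z ⟶ Y) (z' z : Z), z' ⤳ z → ∃ w' w : ↑(pullback g f),
        w' ⤳ w ∧ pullback.fst g f w' = z' ∧ pullback.fst g f w = z := by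
  refine ⟨fun h Z g z' z hz => ?_, fun h V _ _ g => ?_⟩
  · obtain ⟨A, l, hl, hcl⟩ := exists_valuationSubring_of_specializes hz
    haveI : ValuationRing (CommRingCat.of A) := inferInstanceAs (ValuationRing A)
    obtain ⟨W, _, _, φ, hφ, j, g', hg'⟩ := h (CommRingCat.of A) (l ≫ g)
    let g₁ : Spec W ⟶ X := g'
    have hg₁ : g₁ ≫ f = Spec.map φ ≫ l ≫ g := hg'
    let m := pullback.lift (Spec.map φ ≫ l) g₁ (by rw [Category.assoc, hg₁])
    have hm : m ≫ pullback.fst g f = Spec.map φ ≫ l := pullback.lift_fst _ _ _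
    refine ⟨m (⊥ : PrimeSpectrum W), m (closedPoint W),
      (IsLocalRing.specializes_closedPoint _).map m.continuous, ?_, ?_⟩
    · rw [← Scheme.Hom.comp_apply, hm, Scheme.Hom.comp_apply]
      have e : (Spec.map φ) (⊥ : PrimeSpectrum W) = (⊥ : PrimeSpectrum A) :=
        PrimeSpectrum.ext ((RingHom.injective_iff_ker_eq_bot _).mp hφ.1)
      let p : PrimeSpectrum (Z.residueField z') := ⊥
      have e' : (Spec.map (CommRingCat.ofHom A.subtype)) p = (⊥ : PrimeSpectrum A) :=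
        PrimeSpectrum.ext ((RingHom.injective_iff_ker_eq_bot A.subtype).mp Subtype.val_injective)
      rw [e, ← e', ← Scheme.Hom.comp_apply, hl]
      exact Scheme.fromSpecResidueField_apply _ _
    · haveI := hφ.2
      rw [← Scheme.Hom.comp_apply, hm, Scheme.Hom.comp_apply]
      exact (congrArg l (IsLocalRing.comap_closedPoint φ.hom)).trans hcl
  · obtain ⟨w', w, hw, hw', hwz⟩ := h (Spec V) g (⊥ : PrimeSpectrum V) (closedPoint V) (IsLocalRing.specializes_closedPoint _)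
    obtain ⟨W, hW, hW', φ, l, hφ, hl, -⟩ := exists_ext_of_points (pullback.fst g f) hw hw' hwz
    refine ⟨W, hW, hW', φ, hφ, PUnit.unit, l ≫ pullback.snd g f, ?_⟩
    change (l ≫ pullback.snd g f) ≫ f = _
    rw [Category.assoc, ← pullback.condition, ← Category.assoc, hl]

theorem tfae_singleton (f : X ⟶ Y) [QuasiCompact f] :
    (IsVCover (PreZeroHypercover.singleton.{w} f) ↔ HasValLift (PreZeroHypercover.singleton.{w} f)) ∧
      (HasValLift (PreZeroHypercover.singleton.{w} f) ↔ ∀ (Z : Scheme.{u}) (g : Z ⟶ Y) (z' z : Z), z' ⤳ z →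
        ∃ w' w : ↑(pullback g f), w' ⤳ w ∧ pullback.fst g f w' = z' ∧ pullback.fst g f w = z) :=
  ⟨⟨hasValLift_of_isVCover, isVCover_of_hasValLift f⟩, hasValLift_iff_specializes f⟩

end Groth.Agent.HTopCov
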