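import Mathlib.RingTheory.Valuation.ValuationSubring
import Mathlib.Order.Filter.Ultrafilter.Basic
import Mathlib.Order.Filter.AtTopBot.Finset

/-!
# Compactness of the space of valuation subrings
-/

universe u v w

namespace Groth.Agent.HTopCov

open Filter

theorem exists_finite_valCover {K : Type u} [Field K] {A : Type v} [CommRing A] (φ : A →+* K)
    {ι : Type w} (x : ι → Finset K)
    (h : ∀ W : ValuationSubring K, (∀ a, φ a ∈ W) → ∃ i, ∀ y ∈ x i, y ∈ W) :
    ∃ (s : Finset ι) (E : Finset A), ∀ W : ValuationSubring K, (∀ a ∈ E, φ a ∈ W) →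
      ∃ i ∈ s, ∀ y ∈ x i, y ∈ W := by
  classical
  by_contra hc
  simp only [not_exists, not_forall, not_and] at hc
  choose W hW hno using hc
  let U : Ultrafilter (Finset ι × Finset A) := Ultrafilter.of atTop
  have hU : (U : Filter (Finset ι × Finset A)) ≤ atTop := Ultrafilter.of_le _
  let V : ValuationSubring K :=
    { carrier := {y | ∀ᶠ p in (U : Filter (Finset ι × Finset A)), y ∈ W p.1 p.2}
      mul_mem' := fun {a b} ha hb => (ha.and hb).mono fun p hp => (W p.1 p.2).mul_mem _ _ hp.1 hp.2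
      one_mem' := Eventually.of_forall fun p => one_mem _
      add_mem' := fun {a b} ha hb => (ha.and hb).mono fun p hp => (W p.1 p.2).add_mem _ _ hp.1 hp.2
      zero_mem' := Eventually.of_forall fun p => zero_mem _
      neg_mem' := fun {a} ha => ha.mono fun p hp => (W p.1 p.2).neg_mem _ hp
      mem_or_inv_mem' := fun a => Ultrafilter.eventually_or.1
        (Eventually.of_forall fun p => (W p.1 p.2).mem_or_inv_mem a) }
  obtain ⟨i, hi⟩ := h V fun a => hU ((eventually_ge_atTop ((∅ : Finset ι), {a})).mono fun p hp =>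
    hW p.1 p.2 a (hp.2 (Finset.mem_singleton_self a)))
  have h₁ : ∀ᶠ p in (U : Filter (Finset ι × Finset A)), ∀ y ∈ x i, y ∈ W p.1 p.2 :=
    (Filter.eventually_all_finset _).2 hi
  have h₂ : ∀ᶠ p in (U : Filter (Finset ι × Finset A)), i ∈ p.1 :=
    hU ((eventually_ge_atTop (({i} : Finset ι), (∅ : Finset A))).mono fun p hp =>
      hp.1 (Finset.mem_singleton_self i))
  obtain ⟨p, hp₁, hp₂⟩ := (h₁.and h₂).exists
  obtain ⟨y, hy, hny⟩ := hno p.1 p.2 i hp₂
  exact hny (hp₁ y hy)

end Groth.Agent.HTopCov
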