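import Groth.Agent.HTopCov.ChartImm
import Groth.Agent.H23.RedSub
import Mathlib.RingTheory.Valuation.LocalSubring
import Mathlib.AlgebraicGeometry.ValuativeCriterion

/-!
# A proper model from finitely many points with values in a field

Given affine schemes of finite type over an affine base with points in a field `K` such that every
valuation subring of `K` over the base is the centre of one of them, some proper scheme over the base
is covered by opens mapping to these schemes.
-/

set_option backward.isDefEq.respectTransparency false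
set_option backward.isDefEq.respectTransparency.types false
set_option linter.style.haveILetI false

universe u

open CategoryTheory CategoryTheory.Limits AlgebraicGeometry TopologicalSpace IsLocalRing

namespace Groth.Agent.HTopCov

theorem exists_product {A : Type u} [CommRing A] {T : Scheme.{u}} (t : T ⟶ Spec (CommRingCat.of A)) (N : ℕ)
    (P : Fin N → Scheme.{u}) (q : ∀ k, P k ⟶ Spec (CommRingCat.of A)) (hq : ∀ k, IsProper (q k))
    (η : ∀ k, T ⟶ P k) (hη : ∀ k, η k ≫ q k = t) :
    ∃ (Q : Scheme.{u}) (g : Q ⟶ Spec (CommRingCat.of A)) (pr : ∀ k, Q ⟶ P k) (e : T ⟶ Q),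
      IsProper g ∧ (∀ k, pr k ≫ q k = g) ∧ (∀ k, e ≫ pr k = η k) ∧ e ≫ g = t := by
  induction N with
  | zero => exact ⟨_, 𝟙 _, fun k => k.elim0, t, inferInstance, fun k => k.elim0, fun k => k.elim0, Category.comp_id _⟩
  | succ N ih =>
    obtain ⟨Q, g, pr, e, hg, hpr, he, het⟩ :=
      ih (fun k => P k.succ) (fun k => q k.succ) (fun k => hq _) (fun k => η k.succ) (fun k => hη _)
    haveI := hq 0
    refine ⟨pullback (q 0) g, pullback.snd _ _ ≫ g,
      Fin.cases (pullback.fst _ _) (fun k => pullback.snd _ _ ≫ pr k),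
      pullback.lift (η 0) e (by rw [hη, het]), inferInstance, ?_, ?_, ?_⟩
    · refine Fin.cases ?_ fun k => ?_
      · exact pullback.condition
      · dsimp only
        rw [Fin.cases_succ, Category.assoc, hpr]
    · refine Fin.cases ?_ fun k => ?_
      · exact pullback.lift_fst _ _ _
      · dsimp only
        rw [Fin.cases_succ, pullback.lift_snd_assoc, he]
    · rw [pullback.lift_snd_assoc, het]

/-- The centre of a valuation on the closure of a point with values in a field. -/
theorem exists_valuation_centre {K : Type u} [Field K] {Z : Scheme.{u}} (η : Spec (CommRingCat.of K) ⟶ Z) {z : Z}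
    (h : η (closedPoint K) ⤳ z) :
    ∃ (W : ValuationSubring K) (l : Spec (CommRingCat.of W) ⟶ Z),
      Spec.map (CommRingCat.ofHom W.subtype) ≫ l = η ∧ l (closedPoint W) = z := by
  let ψ := Z.descResidueField (Scheme.stalkClosedPointTo η)
  have hψ : Spec.map ψ ≫ Z.fromSpecResidueField (η (closedPoint K)) = η :=
    Scheme.descResidueField_stalkClosedPointTo_fromSpecResidueField K Z η
  let r : Z.presheaf.stalk z ⟶ CommRingCat.of K := Z.presheaf.stalkSpecializes h ≫ Z.residue _ ≫ ψ
  obtain ⟨W, hW, hW'⟩ := exists_factor_valuationRing r.hom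
  let r' : Z.presheaf.stalk z ⟶ CommRingCat.of W := CommRingCat.ofHom (r.hom.codRestrict W.toSubring hW)
  refine ⟨W, Spec.map r' ≫ Z.fromSpecStalk z, ?_, ?_⟩
  · have e : r' ≫ CommRingCat.ofHom W.subtype = r := rfl
    rw [← Category.assoc, ← Spec.map_comp, e, Spec.map_comp, Spec.map_comp, Category.assoc, Category.assoc,
      Scheme.SpecMap_stalkSpecializes_fromSpecStalk]
    exact hψ
  · rw [Scheme.Hom.comp_apply]
    have : Spec.map r' (closedPoint W) = closedPoint (Z.presheaf.stalk z) :=
      comap_closedPoint (S := W) (r.hom.codRestrict W.toSubring hW)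
    rw [this, Z.fromSpecStalk_closedPoint]

theorem exists_model {A : Type u} [CommRing A] {K : Type u} [Field K] (θ : A →+* K) {N : ℕ}
    (X : Fin N → Scheme.{u}) (hX : ∀ k, IsAffine (X k)) (f : ∀ k, X k ⟶ Spec (CommRingCat.of A))
    (hf : ∀ k, LocallyOfFiniteType (f k)) (η : ∀ k, Spec (CommRingCat.of K) ⟶ X k)
    (hη : ∀ k, η k ≫ f k = Spec.map (CommRingCat.ofHom θ))
    (hcov : ∀ W : ValuationSubring K, (∀ a, θ a ∈ W) → ∃ (k : Fin N) (l : Spec (CommRingCat.of W) ⟶ X k),
      Spec.map (CommRingCat.ofHom W.subtype) ≫ l = η k) :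
    ∃ (Z : Scheme.{u}) (g : Z ⟶ Spec (CommRingCat.of A)), IsProper g ∧
      Spec.map (CommRingCat.ofHom θ) (closedPoint K) ∈ Set.range g ∧
      ∀ z : Z, ∃ O : Z.Opens, z ∈ O ∧ ∃ (k : Fin N) (l : O.toScheme ⟶ X k), l ≫ f k = O.ι ≫ g := by
  choose P q i hq hi hiq using fun k =>
    haveI := hX k
    haveI := hf k
    exists_immersion_proper (f k)
  obtain ⟨Q, g, pr, e, hg, hpr, he, het⟩ := exists_product (Spec.map (CommRingCat.ofHom θ)) N P q hq
    (fun k => η k ≫ i k) (fun k => by rw [Category.assoc, hiq, hη])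
  let C : Closeds Q := ⟨closure {e (closedPoint K)}, isClosed_closure⟩
  let Z := (Scheme.IdealSheafData.vanishingIdeal C).subscheme
  let c : Z ⟶ Q := (Scheme.IdealSheafData.vanishingIdeal C).subschemeι
  have hc : Set.range c = closure {e (closedPoint K)} := H23.RedSub.range_vanishingIdeal _
  haveI : IsReduced Z := H23.RedSub.isReduced_vanishingIdeal _
  haveI : IsClosedImmersion c := inferInstanceAs (IsClosedImmersion (Scheme.IdealSheafData.subschemeι _))
  obtain ⟨ζ, hζ⟩ := H23.RedSub.exists_lift_closed e c (by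
    rintro _ ⟨t, rfl⟩
    rw [hc, Subsingleton.elim t (closedPoint K)]
    exact subset_closure rfl)
  refine ⟨Z, c ≫ g, inferInstance, ⟨ζ (closedPoint K), ?_⟩, fun z => ?_⟩
  · rw [← Scheme.Hom.comp_apply, reassoc_of% hζ, het]
  have hspec : ∀ z : Z, ζ (closedPoint K) ⤳ z := fun z => by
    rw [← c.isClosedEmbedding.isInducing.specializes_iff, ← Scheme.Hom.comp_apply, hζ,
      specializes_iff_mem_closure]
    exact hc.le ⟨z, rfl⟩
  obtain ⟨W, l, hl, hlz⟩ := exists_valuation_centre ζ (hspec z)
  have hθ : ∀ a, θ a ∈ W := fun a => by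
    have h1 : Spec.preimage (l ≫ c ≫ g) ≫ CommRingCat.ofHom W.subtype = CommRingCat.ofHom θ := by
      refine Spec.map_injective ?_
      rw [Spec.map_comp, Spec.map_preimage, reassoc_of% hl, reassoc_of% hζ, het]
    have h2 : ((Spec.preimage (l ≫ c ≫ g)) a : K) = θ a := congrArg (fun φ => φ.hom a) h1
    rw [← h2]
    exact Subtype.prop _
  obtain ⟨k, lk, hlk⟩ := hcov W hθ
  haveI := hi k
  haveI : (P k).IsSeparated := ⟨by
    haveI := hq k
    rw [← terminal.comp_from (q k)]
    exact MorphismProperty.comp_mem @IsSeparated _ _ inferInstance inferInstance⟩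
  haveI : IsDominant (Spec.map (CommRingCat.ofHom W.subtype)) := ⟨by
    have h0 : (Spec.map (CommRingCat.ofHom W.subtype)) (⊥ : PrimeSpectrum K) = (⊥ : PrimeSpectrum W) :=
      PrimeSpectrum.ext ((RingHom.injective_iff_ker_eq_bot W.subtype).mp Subtype.val_injective)
    refine dense_iff_closure_eq.mpr (Set.eq_univ_of_forall fun x => ?_)
    have hb : ((⊥ : PrimeSpectrum W) : Spec (CommRingCat.of W)) ∈
        Set.range (Spec.map (CommRingCat.ofHom W.subtype)) := ⟨(⊥ : PrimeSpectrum K), h0⟩
    refine closure_mono (Set.singleton_subset_iff.2 hb) ?_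
    exact (specializes_iff_mem_closure.1 ((PrimeSpectrum.le_iff_specializes _ _).1 bot_le))⟩
  have heq : lk ≫ i k = l ≫ c ≫ pr k := by
    refine ext_of_isDominant (Spec.map (CommRingCat.ofHom W.subtype)) ?_
    rw [reassoc_of% hlk, reassoc_of% hl, reassoc_of% hζ, he]
  let O : Z.Opens := (c ≫ pr k) ⁻¹ᵁ (i k).coborderRange
  have hzO : z ∈ O := by
    show (c ≫ pr k) z ∈ (i k).coborderRange
    rw [← hlz, ← Scheme.Hom.comp_apply, ← heq, Scheme.Hom.comp_apply]
    exact subset_coborder ⟨_, rfl⟩
  haveI : IsReduced O.toScheme := isReduced_of_isOpenImmersion O.ι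
  obtain ⟨m, hm⟩ := H23.RedSub.exists_lift (O.ι ≫ c ≫ pr k) (i k) (by
    rintro _ ⟨o, rfl⟩
    have h1 : (c ≫ pr k) (ζ (closedPoint K)) ∈ Set.range (i k) := by
      rw [← Scheme.Hom.comp_apply, reassoc_of% hζ, he, Scheme.Hom.comp_apply]
      exact ⟨_, rfl⟩
    rw [Scheme.Hom.comp_apply]
    have h2 : (c ≫ pr k) o.1 ∈ closure (Set.range (i k)) :=
      closure_mono (Set.singleton_subset_iff.2 h1)
        (specializes_iff_mem_closure.1 ((hspec o.1).map (c ≫ pr k).continuous))
    exact closure_inter_coborder.le ⟨h2, o.2⟩)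
  refine ⟨O, hzO, k, m, ?_⟩
  rw [← hiq k, reassoc_of% hm, hpr]

end Groth.Agent.HTopCov
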