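import Groth.Agent.HTopCov.ValSection
import Groth.Agent.HTopCov.ValCompact
import Groth.Agent.HTopCov.ValModel
import Groth.Agent.HTopCov.PhBind
import Groth.Agent.HTopCov.Spec
import Mathlib.Topology.Spectral.ConstructibleTopology
import Mathlib.FieldTheory.IsAlgClosed.AlgebraicClosure
import Mathlib.RingTheory.Jacobson.Ring
import Mathlib.AlgebraicGeometry.Morphisms.FinitePresentation

/-!
# Finitely presented V coverings are refined by proper surjective morphisms
-/

set_option backward.isDefEq.respectTransparency false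
set_option backward.isDefEq.respectTransparency.types false
set_option linter.style.haveILetI false

universe w u

open CategoryTheory CategoryTheory.Limits AlgebraicGeometry TopologicalSpace IsLocalRing HTop MvPolynomial

namespace Groth.Agent.HTopCov

theorem isProper_sigmaDesc {T : Scheme.{u}} {ι : Type u} [Finite ι] {Z : ι → Scheme.{u}} (g : ∀ k, Z k ⟶ T)
    (hg : ∀ k, IsProper (g k)) : IsProper (Limits.Sigma.desc g) := by
  haveI := hg
  haveI : IsProper (Limits.Sigma.map g) := ModPairLib.isProper_sigmaMap g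
  haveI : IsFinite (Limits.Sigma.desc fun _ : ι => 𝟙 T) :=
    SGA1Q.isFinite_sigmaDesc _ fun _ => inferInstance
  rw [show Limits.Sigma.desc g = Limits.Sigma.map g ≫ Limits.Sigma.desc (fun _ : ι => 𝟙 T) from
    Limits.Sigma.hom_ext _ _ fun k => by
      rw [Sigma.ι_desc, Sigma.ι_map_assoc, Sigma.ι_desc, Category.comp_id]]
  infer_instance

section Point

variable {A : Type u} [CommRing A] {n : ℕ} {m : Fin n → ℕ} {B : Fin n → Type u}
  [∀ a, CommRing (B a)] (ev : ∀ a, MvPolynomial (Fin (m a)) A →+* B a)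

/-- The structure maps of the members. -/
noncomputable def memberMap (a : Fin n) : Spec (CommRingCat.of (B a)) ⟶ Spec (CommRingCat.of A) :=
  Spec.map (CommRingCat.ofHom ((ev a).comp MvPolynomial.C))

theorem exists_model_at (hev : ∀ a, Function.Surjective (ev a))
    (R : ∀ a, Finset (MvPolynomial (Fin (m a)) A)) (hR : ∀ a, RingHom.ker (ev a) = Ideal.span (R a : Set _))
    (hlift : HasValLift (⟨Fin n, fun a => Spec (CommRingCat.of (B a)), memberMap ev⟩ :
      PreZeroHypercover.{0} (Spec (CommRingCat.of A))))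
    (y : PrimeSpectrum A) :
    ∃ (Z : Scheme.{u}) (g : Z ⟶ Spec (CommRingCat.of A)), IsProper g ∧ LocallyOfFinitePresentation g ∧
      y ∈ Set.range g ∧ IsCompact (Set.range g)ᶜ ∧
      ∀ z : Z, ∃ O : Z.Opens, z ∈ O ∧ ∃ (a : Fin n) (l : O.toScheme ⟶ Spec (CommRingCat.of (B a))),
        l ≫ memberMap ev a = O.ι ≫ g := by
  classical
  let K := AlgebraicClosure (FractionRing (A ⧸ y.asIdeal))
  let θ : A →+* K := (algebraMap (FractionRing (A ⧸ y.asIdeal)) K).comp
    ((algebraMap (A ⧸ y.asIdeal) (FractionRing (A ⧸ y.asIdeal))).comp (Ideal.Quotient.mk y.asIdeal))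
  have hθy : RingHom.ker θ = y.asIdeal := by
    ext a
    simp only [θ, RingHom.mem_ker, RingHom.comp_apply, map_eq_zero, IsFractionRing.to_map_eq_zero_iff,
      Ideal.Quotient.eq_zero_iff_mem]
  let Pt := Σ a : Fin n, {v : Fin (m a) → K // ∀ r ∈ R a, eval₂Hom θ v r = 0}
  let x : Pt → Finset K := fun p => Finset.univ.image p.2.1
  have hpt : ∀ W : ValuationSubring K, (∀ a, θ a ∈ W) → ∃ p : Pt, ∀ k ∈ x p, k ∈ W := by
    intro W hW
    let θW : A →+* W := θ.codRestrict W.toSubring hW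
    haveI : ValuationRing (CommRingCat.of W) := inferInstanceAs (ValuationRing W)
    obtain ⟨W', _, _, φ, hφ, a, l, hl⟩ := hlift (CommRingCat.of W) (Spec.map (CommRingCat.ofHom θW))
    let χB : B a →+* W' := (Spec.preimage (show Spec W' ⟶ Spec (CommRingCat.of (B a)) from l)).hom
    have hχB : χB.comp ((ev a).comp MvPolynomial.C) = φ.hom.comp θW := by
      have := congrArg Spec.preimage hl
      have h' : CommRingCat.ofHom ((ev a).comp MvPolynomial.C) ≫
          Spec.preimage (show Spec W' ⟶ Spec (CommRingCat.of (B a)) from l) = CommRingCat.ofHom θW ≫ φ := by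
        refine Spec.map_injective ?_
        rw [Spec.map_comp, Spec.map_comp, Spec.map_preimage]
        exact hl
      exact congrArg (fun ψ => ψ.hom) h'
    let I : Ideal (MvPolynomial (Fin (m a)) W) :=
      Ideal.span ((R a : Set (MvPolynomial (Fin (m a)) A)).image (MvPolynomial.map θW))
    let e : MvPolynomial (Fin (m a)) W →+* W' := eval₂Hom φ.hom fun j => χB (ev a (MvPolynomial.X j))
    have he : e.comp (MvPolynomial.map θW) = χB.comp (ev a) := by
      refine MvPolynomial.ringHom_ext (fun c => ?_) fun j => ?_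
      · simp only [RingHom.comp_apply, MvPolynomial.map_C, e, eval₂Hom_C]
        exact (RingHom.congr_fun hχB c).symm
      · simp only [RingHom.comp_apply, MvPolynomial.map_X, e, eval₂Hom_X']
    let χ : MvPolynomial (Fin (m a)) W ⧸ I →+* W' := Ideal.Quotient.lift I e (by
      intro r hr
      have : I ≤ RingHom.ker e := Ideal.span_le.2 (by
        rintro _ ⟨r, hr, rfl⟩
        have h0 : ev a r = 0 := RingHom.mem_ker.1 ((hR a).ge (Ideal.subset_span hr))
        rw [SetLike.mem_coe, RingHom.mem_ker, ← RingHom.comp_apply, he, RingHom.comp_apply, h0, map_zero])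
      exact RingHom.mem_ker.1 (this hr))
    have hχ : χ.comp (algebraMap W (MvPolynomial (Fin (m a)) W ⧸ I)) = φ.hom := RingHom.ext fun c => by
      show χ (Ideal.Quotient.mk I (MvPolynomial.C c)) = φ c
      rw [Ideal.Quotient.lift_mk]
      exact eval₂Hom_C _ _ _
    have h1 : Function.Injective (χ.comp (algebraMap W (MvPolynomial (Fin (m a)) W ⧸ I))) := by
      rw [hχ]; exact hφ.1
    have h2 : IsLocalHom (χ.comp (algebraMap W (MvPolynomial (Fin (m a)) W ⧸ I))) := by
      rw [hχ]; exact hφ.2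
    obtain ⟨ψ⟩ := exists_algHom_of_point W (C := MvPolynomial (Fin (m a)) W ⧸ I) (W := W') χ h1 h2
    let v : Fin (m a) → K := fun j => (ψ (Ideal.Quotient.mk I (MvPolynomial.X j)) : W)
    refine ⟨⟨a, v, fun r hr => ?_⟩, ?_⟩
    · have h1 : eval₂Hom θ v = (W.subtype.comp (ψ.toRingHom.comp (Ideal.Quotient.mk I))).comp
          (MvPolynomial.map θW) := by
        refine MvPolynomial.ringHom_ext (fun c => ?_) fun j => ?_
        · simp only [RingHom.comp_apply, MvPolynomial.map_C, eval₂Hom_C]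
          exact (congrArg W.subtype (ψ.commutes (θW c))).symm
        · simp only [RingHom.comp_apply, MvPolynomial.map_X, eval₂Hom_X']
          rfl
      rw [h1]
      simp only [RingHom.comp_apply]
      rw [show Ideal.Quotient.mk I (MvPolynomial.map θW r) = 0 from
        Ideal.Quotient.eq_zero_iff_mem.2 (Ideal.subset_span ⟨r, hr, rfl⟩), map_zero, map_zero]
    · intro k hk
      obtain ⟨j, -, rfl⟩ := Finset.mem_image.1 hk
      exact Subtype.prop _
  obtain ⟨s, E, hsE⟩ := exists_finite_valCover θ x hpt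
  let co : Finset A := E ∪ Finset.univ.biUnion fun a => (R a).biUnion fun r => r.support.image fun d => r.coeff d
  let A₁ := Algebra.adjoin ℤ (co : Set A)
  haveI : IsNoetherianRing A₁ := by
    haveI : Algebra.FiniteType ℤ A₁ :=
      A₁.fg_iff_finiteType.1 (Subalgebra.fg_adjoin_finset co)
    exact Algebra.FiniteType.isNoetherianRing ℤ A₁
  let ρ₀ : A₁ →+* A := A₁.val.toRingHom
  have hco : ∀ a ∈ co, a ∈ Set.range ρ₀ := fun a ha => ⟨⟨a, Algebra.subset_adjoin ha⟩, rfl⟩
  let I₁ : ∀ a, Ideal (MvPolynomial (Fin (m a)) A₁) := fun a =>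
    RingHom.ker ((ev a).comp (MvPolynomial.map ρ₀))
  let X₁ : Fin n → Scheme.{u} := fun a => Spec (CommRingCat.of (MvPolynomial (Fin (m a)) A₁ ⧸ I₁ a))
  let f₁ : ∀ a, X₁ a ⟶ Spec (CommRingCat.of A₁) := fun a =>
    Spec.map (CommRingCat.ofHom ((Ideal.Quotient.mk (I₁ a)).comp MvPolynomial.C))
  let θ₁ : A₁ →+* K := θ.comp ρ₀
  have hzero : ∀ (a : Fin n) (v : Fin (m a) → K), (∀ r ∈ R a, eval₂Hom θ v r = 0) →
      ∀ r ∈ I₁ a, eval₂Hom θ₁ v r = 0 := by
    intro a v hv r hr
    have h1 : MvPolynomial.map ρ₀ r ∈ RingHom.ker (eval₂Hom θ v) := by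
      have h2 : RingHom.ker (ev a) ≤ RingHom.ker (eval₂Hom θ v) := by
        rw [hR a, Ideal.span_le]
        exact fun r hr => RingHom.mem_ker.2 (hv r hr)
      exact h2 (RingHom.mem_ker.2 hr)
    rw [RingHom.mem_ker, MvPolynomial.eval₂Hom_map_hom] at h1
    exact h1
  let e := s.equivFin.symm
  let idx : Fin s.card → Fin n := fun k => (e k).1.1
  let χ₁ : ∀ k, MvPolynomial (Fin (m (idx k))) A₁ ⧸ I₁ (idx k) →+* K := fun k =>
    Ideal.Quotient.lift _ (eval₂Hom θ₁ (e k).1.2.1) (hzero _ _ (e k).1.2.2)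
  obtain ⟨Z₁, g₁, hg₁, hy₁, hloc⟩ := exists_model θ₁ (fun k => X₁ (idx k)) (fun k => inferInstance)
    (fun k => f₁ (idx k))
    (fun k => by
      show LocallyOfFiniteType (Spec.map _)
      rw [HasRingHomProperty.Spec_iff (P := @LocallyOfFiniteType)]
      exact (RingHom.FiniteType.of_surjective _ Ideal.Quotient.mk_surjective).comp
        (RingHom.finiteType_algebraMap.mpr
          (inferInstance : Algebra.FiniteType A₁ (MvPolynomial (Fin (m (idx k))) A₁))))
    (fun k => Spec.map (CommRingCat.ofHom (χ₁ k)))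
    (fun k => by
      show _ ≫ Spec.map _ = _
      rw [← Spec.map_comp]
      refine congrArg Spec.map (CommRingCat.hom_ext (RingHom.ext fun c => ?_))
      show χ₁ k (Ideal.Quotient.mk _ (MvPolynomial.C c)) = _
      rw [Ideal.Quotient.lift_mk, eval₂Hom_C]
      rfl)
    (fun W hW => by
      obtain ⟨p, hp, hpW⟩ := hsE W fun a ha => by
        obtain ⟨a₁, rfl⟩ := hco a (Finset.mem_union_left _ ha)
        exact hW a₁
      refine ⟨s.equivFin ⟨p, hp⟩, ?_⟩
      have hk : ∀ j, (e (s.equivFin ⟨p, hp⟩)).1.2.1 j ∈ W := by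
        have he : e (s.equivFin ⟨p, hp⟩) = ⟨p, hp⟩ := Equiv.symm_apply_apply _ _
        rw [he]
        exact fun j => hpW _ (Finset.mem_image_of_mem _ (Finset.mem_univ j))
      generalize s.equivFin ⟨p, hp⟩ = k at hk ⊢
      let θ₁W : A₁ →+* W := θ₁.codRestrict W.toSubring hW
      let vW : Fin (m (idx k)) → W := fun j => ⟨_, hk j⟩
      have hvW : W.subtype.comp (eval₂Hom θ₁W vW) = eval₂Hom θ₁ (e k).1.2.1 :=
        MvPolynomial.ringHom_ext
          (fun c => by
            simp only [RingHom.comp_apply, eval₂Hom_C]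
            exact (eval₂Hom_C θ₁ (e k).1.2.1 c).symm)
          fun j => by
            simp only [RingHom.comp_apply, eval₂Hom_X']
            exact (eval₂Hom_X' θ₁ (e k).1.2.1 j).symm
      refine ⟨Spec.map (CommRingCat.ofHom (Ideal.Quotient.lift (I₁ (idx k)) (eval₂Hom θ₁W vW) fun r hr => ?_)), ?_⟩
      · refine Subtype.val_injective ?_
        exact (RingHom.congr_fun hvW r).trans (hzero _ _ (e k).1.2.2 r hr)
      · rw [← Spec.map_comp]
        refine congrArg Spec.map (CommRingCat.hom_ext (Ideal.Quotient.ringHom_ext ?_))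
        exact hvW)
  let ρ : Spec (CommRingCat.of A) ⟶ Spec (CommRingCat.of A₁) := Spec.map (CommRingCat.ofHom ρ₀)
  haveI := hg₁
  haveI : IsNoetherianRing (CommRingCat.of A₁) := ‹IsNoetherianRing A₁›
  haveI : LocallyOfFinitePresentation g₁ := inferInstance
  have hrange : Set.range (pullback.snd g₁ ρ) = ρ ⁻¹' Set.range g₁ := Scheme.Pullback.range_snd _ _
  refine ⟨pullback g₁ ρ, pullback.snd g₁ ρ, inferInstance, inferInstance, ?_, ?_, fun z => ?_⟩
  · rw [hrange, Set.mem_preimage]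
    convert hy₁ using 1
    have hy : Spec.map (CommRingCat.ofHom θ) (closedPoint K) = y :=
      PrimeSpectrum.ext (show (IsLocalRing.maximalIdeal K).comap θ = y.asIdeal by
        rw [IsLocalRing.maximalIdeal_eq_bot]
        exact (RingHom.ker_eq_comap_bot θ).symm.trans hθy)
    refine (congrArg ρ hy.symm).trans ?_
    rw [← Scheme.Hom.comp_apply, ← Spec.map_comp, ← CommRingCat.ofHom_comp]
  · rw [hrange, ← Set.preimage_compl]
    haveI : NoetherianSpace (Spec (CommRingCat.of A₁)) := inferInstanceAs (NoetherianSpace (PrimeSpectrum A₁))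
    exact Scheme.Hom.isCompact_preimage ρ (U := ⟨_, (g₁.isClosedMap.isClosed_range).isOpen_compl⟩)
      (NoetherianSpace.isCompact _)
  · obtain ⟨O₁, hz, k, l₁, hl₁⟩ := hloc (pullback.fst g₁ ρ z)
    let a := idx k
    let O : (pullback g₁ ρ).Opens := pullback.fst g₁ ρ ⁻¹ᵁ O₁
    let lO : O.toScheme ⟶ X₁ a := (pullback.fst g₁ ρ ∣_ O₁) ≫ l₁
    let gO : O.toScheme ⟶ Spec (CommRingCat.of A) := O.ι ≫ pullback.snd g₁ ρ
    have hsq : lO ≫ f₁ a = gO ≫ ρ := by
      show ((pullback.fst g₁ ρ ∣_ O₁) ≫ l₁) ≫ f₁ (idx k) = (O.ι ≫ pullback.snd g₁ ρ) ≫ ρ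
      rw [Category.assoc, hl₁, morphismRestrict_ι_assoc, Category.assoc, pullback.condition]
    let α : A →+* Γ(O.toScheme, ⊤) := ((Scheme.ΓSpecIso (CommRingCat.of A)).inv ≫ gO.appTop).hom
    let β : MvPolynomial (Fin (m a)) A₁ ⧸ I₁ a →+* Γ(O.toScheme, ⊤) :=
      ((Scheme.ΓSpecIso (CommRingCat.of (MvPolynomial (Fin (m a)) A₁ ⧸ I₁ a))).inv ≫ lO.appTop).hom
    have hαβ : α.comp ρ₀ = β.comp ((Ideal.Quotient.mk (I₁ a)).comp MvPolynomial.C) := by
      have h' := congrArg (fun f => (Scheme.ΓSpecIso (CommRingCat.of A₁)).inv ≫ Scheme.Hom.appTop f) hsq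
      simp only [f₁, ρ, Scheme.Hom.comp_appTop, ← Scheme.ΓSpecIso_inv_naturality_assoc] at h'
      exact (congrArg (fun f => f.hom) h').symm
    let u : Fin (m a) → Γ(O.toScheme, ⊤) := fun j => β (Ideal.Quotient.mk _ (MvPolynomial.X j))
    have hu : (eval₂Hom α u).comp (MvPolynomial.map ρ₀) = β.comp (Ideal.Quotient.mk (I₁ a)) :=
      MvPolynomial.ringHom_ext
        (fun c => by
          simp only [RingHom.comp_apply, MvPolynomial.map_C, eval₂Hom_C]
          exact RingHom.congr_fun hαβ c)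
        fun j => by simp only [RingHom.comp_apply, MvPolynomial.map_X, eval₂Hom_X', u]
    have hker : RingHom.ker (ev a) ≤ RingHom.ker (eval₂Hom α u) := by
      rw [hR a, Ideal.span_le]
      intro r hr
      obtain ⟨r₁, rfl⟩ : r ∈ Set.range (MvPolynomial.map ρ₀) := by
        rw [MvPolynomial.mem_range_map_iff_coeffs_subset]
        intro c hc
        obtain ⟨d, hd, rfl⟩ := MvPolynomial.mem_coeffs_iff.1 hc
        exact hco _ (Finset.mem_union_right _ (Finset.mem_biUnion.2 ⟨a, Finset.mem_univ a,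
          Finset.mem_biUnion.2 ⟨r, hr, Finset.mem_image_of_mem _ hd⟩⟩))
      rw [SetLike.mem_coe, RingHom.mem_ker, ← RingHom.comp_apply, hu, RingHom.comp_apply,
        show Ideal.Quotient.mk (I₁ a) r₁ = 0 from Ideal.Quotient.eq_zero_iff_mem.2 (RingHom.mem_ker.2
          (RingHom.mem_ker.1 ((hR a).ge (Ideal.subset_span hr)))), map_zero]
    let χ : B a →+* Γ(O.toScheme, ⊤) := (ev a).liftOfSurjective (hev a) ⟨eval₂Hom α u, hker⟩
    refine ⟨O, hz, a, O.toScheme.toSpecΓ ≫ Spec.map (CommRingCat.ofHom χ), ?_⟩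
    refine ext_of_isAffine ?_
    show _ = gO.appTop
    rw [memberMap, Category.assoc, ← Spec.map_comp, ← CommRingCat.ofHom_comp]
    have hχ : χ.comp ((ev a).comp MvPolynomial.C) = α := RingHom.ext fun c => by
      show χ (ev a (MvPolynomial.C c)) = α c
      rw [RingHom.liftOfSurjective_comp_apply]
      exact eval₂Hom_C _ _ _
    rw [hχ, Scheme.Hom.comp_appTop, Scheme.toSpecΓ_appTop]
    simp [α, Scheme.ΓSpecIso_naturality]

end Point

/-- Finitely many affine schemes of finite presentation lifting all valuations are refined by proper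
finitely presented morphisms covering the base. -/
theorem exists_proper_fp_of_hasValLift {T : Scheme.{u}} [IsAffine T] {n : ℕ} (X : Fin n → Scheme.{u})
    (hX : ∀ a, IsAffine (X a)) (f : ∀ a, X a ⟶ T) (hf : ∀ a, LocallyOfFinitePresentation (f a))
    (hlift : HasValLift (⟨Fin n, X, f⟩ : PreZeroHypercover.{0} T)) :
    ∃ (ι : Type u) (_ : Finite ι) (Z : ι → Scheme.{u}) (g : ∀ k, Z k ⟶ T),
      (∀ k, IsProper (g k) ∧ LocallyOfFinitePresentation (g k)) ∧ (∀ t, ∃ (k : ι) (z : Z k), g k z = t) ∧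
      ∀ (k : ι) (z : Z k), ∃ O : (Z k).Opens, z ∈ O ∧
        ∃ (a : Fin n) (l : O.toScheme ⟶ X a), l ≫ f a = O.ι ≫ g k := by
  classical
  let A : Type u := Γ(T, ⊤)
  let B : Fin n → Type u := fun a => Γ(X a, ⊤)
  letI : ∀ a, CommRing (B a) := fun a => inferInstanceAs (CommRing Γ(X a, ⊤))
  let φ : ∀ a, A →+* B a := fun a => (f a).appTop.hom
  haveI := hX
  have hφ : ∀ a, (φ a).FinitePresentation := fun a =>
    (HasRingHomProperty.iff_of_isAffine (P := @LocallyOfFinitePresentation)).1 (hf a)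
  have hpres : ∀ a, ∃ (m : ℕ) (ev : MvPolynomial (Fin m) A →+* B a) (R : Finset (MvPolynomial (Fin m) A)),
      Function.Surjective ev ∧ RingHom.ker ev = Ideal.span (R : Set _) ∧ ev.comp MvPolynomial.C = φ a := fun a => by
    letI := (φ a).toAlgebra
    haveI : Algebra.FinitePresentation A (B a) := hφ a
    obtain ⟨m, π, hπ, R, hR⟩ := Algebra.FinitePresentation.out (R := A) (A := B a)
    exact ⟨m, π.toRingHom, R, hπ, hR.symm, RingHom.ext fun c => π.commutes c⟩
  choose m ev R hev hR hC using hpres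
  have hfe : ∀ a, (X a).isoSpec.hom ≫ memberMap ev a = f a ≫ T.isoSpec.hom := fun a => by
    rw [memberMap, hC a]
    exact Scheme.isoSpec_hom_naturality (f a)
  have hlift' : HasValLift (⟨Fin n, fun a => Spec (CommRingCat.of (B a)), memberMap ev⟩ :
      PreZeroHypercover.{0} (Spec (CommRingCat.of A))) := fun V _ _ g => by
    obtain ⟨W, hW, hW', ψ, hψ, a, l, hl⟩ := hlift V (g ≫ T.isoSpec.inv)
    refine ⟨W, hW, hW', ψ, hψ, a, (show Spec W ⟶ X a from l) ≫ (X a).isoSpec.hom, ?_⟩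
    show (_ ≫ (X a).isoSpec.hom) ≫ memberMap ev a = _
    rw [Category.assoc, hfe]
    have := congrArg (· ≫ T.isoSpec.hom) hl
    simpa using this
  choose Z g hg hgfp hy hcpt hloc using exists_model_at ev hev R hR hlift'
  let S : PrimeSpectrum A → Set (WithConstructibleTopology (PrimeSpectrum A)) := fun y =>
    (fun x => WithTopology.ofTopology x) ⁻¹' Set.range (g y)
  obtain ⟨s, hs⟩ := (isCompact_univ (X := WithConstructibleTopology (PrimeSpectrum A))).elim_finite_subcover S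
    (fun y => WithConstructibleTopology.isOpen_iff.2 (by
      haveI := hg y
      exact (hcpt y).isOpen_constructibleTopology_of_isClosed (g y).isClosedMap.isClosed_range))
    (fun y _ => Set.mem_iUnion.2 ⟨WithTopology.ofTopology y, hy _⟩)
  refine ⟨{y // y ∈ s}, inferInstance, fun y => Z y.1, fun y => g y.1 ≫ T.isoSpec.inv,
    fun y => ⟨?_, ?_⟩, fun t => ?_, fun y z => ?_⟩
  · haveI := hg y.1; infer_instance
  · haveI := hgfp y.1; infer_instance
  · obtain ⟨y, hys, hyt⟩ := Set.mem_iUnion₂.1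
      (hs (Set.mem_univ (WithTopology.toTopology (constructibleTopology (PrimeSpectrum A)) (T.isoSpec.hom t))))
    obtain ⟨z, hz⟩ := hyt
    refine ⟨⟨y, hys⟩, z, ?_⟩
    show (g y ≫ T.isoSpec.inv) z = t
    rw [Scheme.Hom.comp_apply, hz]
    show (T.isoSpec.hom ≫ T.isoSpec.inv) t = t
    rw [Iso.hom_inv_id]
    rfl
  · obtain ⟨O, hz, a, l, hl⟩ := hloc y.1 z
    refine ⟨O, hz, a, l ≫ (X a).isoSpec.inv, ?_⟩
    have : (X a).isoSpec.inv ≫ f a = memberMap ev a ≫ T.isoSpec.inv := by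
      rw [Iso.inv_comp_eq, reassoc_of% (hfe a), Iso.hom_inv_id, Category.comp_id]
    rw [Category.assoc, this, reassoc_of% hl]

/-- V coverings by finitely presented morphisms are refined over affines by proper surjective
families of finite presentation. -/
theorem exists_proper_fp_refining {X T : Scheme.{u}} [IsAffine T] (h : T ⟶ X) (E : PreZeroHypercover.{w} X)
    (hfp : ∀ i, LocallyOfFinitePresentation (E.f i)) (hE : IsVCover E) :
    ∃ (ι : Type u) (_ : Finite ι) (Z : ι → Scheme.{u}) (g : ∀ k, Z k ⟶ T),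
      (∀ k, IsProper (g k) ∧ LocallyOfFinitePresentation (g k)) ∧ (∀ t, ∃ (k : ι) (z : Z k), g k z = t) ∧
      ∀ (k : ι) (z : Z k), ∃ O : (Z k).Opens, z ∈ O ∧
        ∃ (i : E.I₀) (l : O.toScheme ⟶ E.X i), l ≫ E.f i = O.ι ≫ g k ≫ h := by
  classical
  obtain ⟨F, hF, hr⟩ := IsVCover.exists_refine hE h
  choose i k hk using hr
  haveI := hF.isAffine_obj
  haveI := hF.finite_index
  let P : F.I₀ → Scheme.{u} := fun j => pullback (E.f (i j)) h
  let q : ∀ j, F.X j ⟶ P j := fun j => pullback.lift (k j) (F.f j) (hk j)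
  have hV : ∀ (j : F.I₀) (x : F.X j), ∃ V : (P j).Opens, IsAffineOpen V ∧ q j x ∈ V := fun j x => by
    obtain ⟨V, hV, hx, -⟩ := exists_isAffineOpen_mem_and_subset (U := ⊤) (x := q j x) trivial
    exact ⟨V, hV, hx⟩
  choose V hVa hVx using hV
  choose s hs using fun j => (isCompact_univ (X := F.X j)).elim_finite_subcover
    (fun x => ((q j ⁻¹ᵁ V j x : (F.X j).Opens) : Set (F.X j))) (fun x => (q j ⁻¹ᵁ V j x).2)
    (fun x _ => Set.mem_iUnion.2 ⟨x, hVx j x⟩)
  haveI := Fintype.ofFinite F.I₀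
  let e := (Fintype.equivFin (Σ j, {x // x ∈ s j})).symm
  let M : Fin _ → Scheme.{u} := fun a => (V (e a).1 (e a).2.1).toScheme
  let f : ∀ a, M a ⟶ T := fun a => (V (e a).1 (e a).2.1).ι ≫ pullback.snd _ _
  obtain ⟨ι, hι, Z, g, hg, hgs, hloc⟩ := exists_proper_fp_of_hasValLift M (fun a => hVa _ _) f
    (fun a => by
      haveI := hfp (i (e a).1)
      haveI : LocallyOfFinitePresentation (pullback.snd (E.f (i (e a).1)) h) :=
        MorphismProperty.pullback_snd _ _ (hfp _)
      exact inferInstanceAs (LocallyOfFinitePresentation (_ ≫ _)))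
    (fun W _ _ γ => by
      obtain ⟨W', hW, hW', φ, hφ, j, l, hl⟩ := hF.lift W γ
      obtain ⟨x, hx, hxV⟩ := Set.mem_iUnion₂.1 (hs j (Set.mem_univ ((show Spec W' ⟶ F.X j from l) (closedPoint W'))))
      obtain ⟨l', hl'⟩ := exists_lift_of_closedPoint (V j x).ι ((show Spec W' ⟶ F.X j from l) ≫ q j)
        (by rw [Scheme.Opens.range_ι, Scheme.Hom.comp_apply]; exact hxV)
      have key : ∀ p : (Σ j, {x // x ∈ s j}), p = ⟨j, x, hx⟩ → ∃ l'' : Spec W' ⟶ (V p.1 p.2.1).toScheme,
          l'' ≫ (V p.1 p.2.1).ι ≫ pullback.snd _ _ = Spec.map φ ≫ γ := by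
        rintro _ rfl
        refine ⟨l', ?_⟩
        rw [reassoc_of% hl', pullback.lift_snd]
        exact hl
      obtain ⟨l'', hl''⟩ := key _ (e.apply_symm_apply ⟨j, x, hx⟩)
      exact ⟨W', hW, hW', φ, hφ, e.symm ⟨j, x, hx⟩, l'', hl''⟩)
  refine ⟨ι, hι, Z, g, hg, hgs, fun κ z => ?_⟩
  obtain ⟨O, hz, a, l, hl⟩ := hloc κ z
  refine ⟨O, hz, i (e a).1, l ≫ (V (e a).1 (e a).2.1).ι ≫ pullback.fst _ _, ?_⟩
  rw [Category.assoc, Category.assoc, pullback.condition]
  exact (by simpa [f] using congrArg (· ≫ h) hl)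

/-- A finitely presented family is a ph covering iff it is a V covering. -/
theorem isPhCover_of_isVCover {X : Scheme.{u}} (E : PreZeroHypercover.{w} X)
    (hfp : ∀ i, LocallyOfFinitePresentation (E.f i)) (hE : IsVCover E) : IsPhCover E := by
  refine ⟨fun i => haveI := hfp i; inferInstance, fun U => ?_⟩
  haveI : IsAffine (U.1 : Scheme) := U.2
  obtain ⟨ι, _, Z, g, hg, hgs, hloc⟩ := exists_proper_fp_refining U.1.ι E hfp hE
  obtain ⟨F, hF, ⟨φ⟩⟩ := exists_standardPh_of_family Z g (fun k => (hg k).1) hgs (E.pullback₁ U.1.ι)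
    fun k z => by
      obtain ⟨O, hz, i, l, hl⟩ := hloc k z
      exact ⟨O, hz, i, pullback.lift (O.ι ≫ g k) l (by rw [Category.assoc, hl]), pullback.lift_fst _ _ _⟩
  refine ⟨F, hF, fun j => ⟨φ.s₀ j,
    (show F.X j ⟶ pullback U.1.ι (E.f (φ.s₀ j)) from φ.h₀ j) ≫ pullback.snd _ _, ?_⟩⟩
  have hw : (show F.X j ⟶ pullback U.1.ι (E.f (φ.s₀ j)) from φ.h₀ j) ≫ pullback.fst _ _ = F.f j := φ.w₀ j
  rw [Category.assoc, ← pullback.condition, ← Category.assoc, hw]

theorem isVCover_of_isPhCover {X : Scheme.{u}} (E : PreZeroHypercover.{w} X) (hE : IsPhCover E) :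
    IsVCover E := fun U => by
  obtain ⟨F, hF, hr⟩ := hE.2 U
  exact ⟨F, standardV_of_standardPh F hF, hr⟩

theorem exists_proper_fp_affineCover {X : Scheme.{u}} [IsAffine X] (E : PreZeroHypercover.{w} X)
    (hfp : ∀ i, LocallyOfFinitePresentation (E.f i)) (hE : IsVCover E) :
    ∃ (Y : Scheme.{u}) (g : Y ⟶ X) (n : ℕ) (V : Fin n → Y.Opens), IsProper g ∧ Surjective g ∧
      LocallyOfFinitePresentation g ∧ (∀ j, IsAffineOpen (V j)) ∧ ⨆ j, V j = ⊤ ∧
      ∀ j, ∃ (i : E.I₀) (h : ((V j : Y.Opens) : Scheme.{u}) ⟶ E.X i), h ≫ E.f i = (V j).ι ≫ g := by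
  classical
  obtain ⟨ι, _, Z, g, hg, hgs, hloc⟩ := exists_proper_fp_refining (𝟙 X) E hfp hE
  haveI : IsProper (Limits.Sigma.desc g) := isProper_sigmaDesc g fun k => (hg k).1
  haveI : CompactSpace (↑(∐ Z) : Type u) := QuasiCompact.compactSpace_of_compactSpace (Limits.Sigma.desc g)
  have h : ∀ y : (∐ Z : Scheme.{u}), ∃ V : (∐ Z : Scheme.{u}).Opens, IsAffineOpen V ∧ y ∈ V ∧
      ∃ (i : E.I₀) (h : V.toScheme ⟶ E.X i), h ≫ E.f i = V.ι ≫ Limits.Sigma.desc g := fun y => by
    obtain ⟨k, z, rfl⟩ := (sigmaOpenCover Z).exists_eq y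
    obtain ⟨O, hz, i, l, hl⟩ := hloc k z
    obtain ⟨O', hO', hz', hle⟩ := exists_isAffineOpen_mem_and_subset hz
    refine ⟨Limits.Sigma.ι Z k ''ᵁ O', hO'.image_of_isOpenImmersion _, ⟨z, hz', rfl⟩, i,
      ((Limits.Sigma.ι Z k).isoImage O').inv ≫ (Z k).homOfLE hle ≫ l, ?_⟩
    rw [Category.comp_id] at hl
    rw [Category.assoc, Category.assoc, hl, Scheme.homOfLE_ι_assoc,
      ← Scheme.Hom.isoImage_inv_ι_assoc, Sigma.ι_desc]
  choose V hVa hVy i l hl using h
  obtain ⟨s, hs⟩ := (isCompact_univ (X := (∐ Z : Scheme.{u}))).elim_finite_subcover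
    (fun y => (V y : Set (∐ Z : Scheme.{u}))) (fun y => (V y).2) fun y _ => Set.mem_iUnion.2 ⟨y, hVy y⟩
  refine ⟨∐ Z, Limits.Sigma.desc g, s.card, fun j => V (s.equivFin.symm j).1, inferInstance,
    Surjective.sigmaDesc_of_union_range_eq_univ (Set.eq_univ_of_forall fun x => ?_),
    IsZariskiLocalAtSource.sigmaDesc fun k => (hg k).2, fun j => hVa _, top_le_iff.1 fun y _ => ?_,
    fun j => ⟨_, _, hl _⟩⟩
  · obtain ⟨k, z, hz⟩ := hgs x
    exact Set.mem_iUnion.2 ⟨k, z, hz⟩
  · obtain ⟨y', hy', hyy'⟩ := Set.mem_iUnion₂.1 (hs (Set.mem_univ y))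
    refine Opens.mem_iSup.2 ⟨s.equivFin ⟨y', hy'⟩, ?_⟩
    show y ∈ V (s.equivFin.symm (s.equivFin ⟨y', hy'⟩)).1
    rw [Equiv.symm_apply_apply]
    exact hyy'

end Groth.Agent.HTopCov
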