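import Groth.Agent.HTopCov.Points
import Groth.Agent.S2121
import Groth.Agent.S4450
import Groth.Prelude.Def_SGA1
import Groth.Prelude.Def_BlowUp2
import Mathlib.AlgebraicGeometry.Noetherian
import Mathlib.AlgebraicGeometry.IdealSheaf.Functorial

/-!
Universally submersive families lift discrete valuation rings.
-/

set_option backward.isDefEq.respectTransparency false
set_option backward.isDefEq.respectTransparency.types false

universe w u

namespace Groth.Agent.HTopCov

open CategoryTheory CategoryTheory.Limits AlgebraicGeometry IsLocalRing Scheme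

variable {X Y : Scheme.{u}}

theorem exists_specializes_of_isQuotientMap {R : CommRingCat.{u}} [IsDomain R] [IsDiscreteValuationRing R]
    {P : Scheme.{u}} (π : P ⟶ Spec R) (hπ : Topology.IsQuotientMap π) :
    ∃ q p : P, q ⤳ p ∧ π q = (⊥ : PrimeSpectrum R) ∧ π p = closedPoint R := by
  obtain ⟨ϖ, hϖ⟩ := IsDiscreteValuationRing.exists_irreducible R
  have hm : maximalIdeal R = Ideal.span {ϖ} := hϖ.maximalIdeal_eq
  have hpt : ∀ z : PrimeSpectrum R, z = ⊥ ∨ z = closedPoint R := by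
    intro z
    rcases eq_or_ne z.asIdeal ⊥ with h | h
    · exact Or.inl (PrimeSpectrum.ext h)
    · exact Or.inr (PrimeSpectrum.ext (IsLocalRing.eq_maximalIdeal (z.isPrime.isMaximal h)))
  have hne : (⊥ : PrimeSpectrum R) ≠ closedPoint R := fun h =>
    IsDiscreteValuationRing.not_a_field R (congrArg PrimeSpectrum.asIdeal h).symm
  let D : (Spec R).Opens := PrimeSpectrum.basicOpen ϖ
  have hD : ∀ z : PrimeSpectrum R, (show Spec R from z) ∈ D ↔ z = ⊥ := by
    intro z
    change ϖ ∉ z.asIdeal ↔ _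
    constructor
    · intro hz
      rcases hpt z with h | h
      · exact h
      · exact absurd (hm.ge (Ideal.mem_span_singleton_self ϖ) : ϖ ∈ (closedPoint R).asIdeal) (by subst h; exact hz)
    · rintro rfl
      exact hϖ.ne_zero
  by_contra hcon
  have hclosed : IsClosed (π ⁻¹' ({(⊥ : PrimeSpectrum R)} : Set (Spec R))) := by
    refine closure_subset_iff_isClosed.mp fun p hp => ?_
    rcases hpt (π p) with h | h
    · exact h
    exfalso
    obtain ⟨V, hV, hpV, -⟩ := exists_isAffineOpen_mem_and_subset (U := ⊤) (x := p) trivial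
    let f := (V.ι ≫ π) ⁻¹ᵁ D
    haveI : IsAffine (V : Scheme.{u}) := hV
    haveI : IsAffine (f : Scheme.{u}) := by
      have hD' : IsAffineOpen D := by
        rw [show D = PrimeSpectrum.basicOpen ϖ from rfl, ← basicOpen_eq_of_affine]
        exact (isAffineOpen_top _).basicOpen _
      exact hD'.preimage (V.ι ≫ π)
    haveI : QuasiCompact f.ι := inferInstance
    have hp' : (⟨p, hpV⟩ : V) ∈ closure (Set.range f.ι) := by
      rw [Scheme.Opens.range_ι, V.ι.isOpenEmbedding.isInducing.closure_eq_preimage_closure_image, Set.mem_preimage]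
      rw [mem_closure_iff] at hp ⊢
      intro o ho hpo
      obtain ⟨z, ⟨hzo, hzV⟩, hz⟩ := hp (o ∩ V) (ho.inter V.2) ⟨hpo, hpV⟩
      exact ⟨z, hzo, ⟨z, hzV⟩, (hD _).mpr hz, rfl⟩
    obtain ⟨A, _, _, _, x, y, hxy, hy⟩ := Groth.Agent.S2121.result f.ι (⟨p, hpV⟩ : V) hp'
    let η : PrimeSpectrum (FractionRing A) := ⊥
    refine hcon ⟨V.ι (f.ι (x η)), p, ?_, (hD _).mp (x η).2, h⟩
    rw [← Scheme.Hom.comp_apply x f.ι, hxy, Scheme.Hom.comp_apply]
    have hs : (y (Spec.map (CommRingCat.ofHom (algebraMap A (FractionRing A))) η)) ⤳ (⟨p, hpV⟩ : V) :=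
      hy ▸ (IsLocalRing.specializes_closedPoint _).map y.continuous
    exact hs.map V.ι.continuous
  rw [hπ.isClosed_preimage] at hclosed
  have := (IsLocalRing.specializes_closedPoint (⊥ : PrimeSpectrum R)).mem_closed hclosed rfl
  exact hne this.symm

variable {E : PreZeroHypercover.{u} X}

theorem surjective_of_univSubmersive (hE : SGA1.UnivSubmersive (Sigma.desc E.f)) (x : X) :
    ∃ (i : E.I₀) (u : E.X i), E.f i u = x := by
  have h := hE _ _ _ (IsPullback.id_vert (Sigma.desc E.f))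
  obtain ⟨z, rfl⟩ := h.surjective x
  obtain ⟨i, u, rfl⟩ := (sigmaOpenCover E.X).exists_eq z
  exact ⟨i, u, by rw [← Sigma.ι_desc E.f i]; rfl⟩

theorem exists_lift_dvr (hE : SGA1.UnivSubmersive (Sigma.desc E.f)) (R : CommRingCat.{u}) [IsDomain R]
    [IsDiscreteValuationRing R] (g : Spec R ⟶ X) :
    ∃ (W : CommRingCat.{u}) (_ : IsDomain W) (_ : ValuationRing W) (φ : R ⟶ W),
      HTop.IsExtVal R W φ ∧ ∃ (i : E.I₀) (l : Spec W ⟶ E.X i), l ≫ E.f i = Spec.map φ ≫ g := by
  obtain ⟨q, p, hqp, hq, hp⟩ := exists_specializes_of_isQuotientMap (pullback.fst g (Sigma.desc E.f))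
    (hE _ _ _ (IsPullback.of_hasPullback g (Sigma.desc E.f)))
  obtain ⟨W, hW, hW', φ, l, hφ, hl, -⟩ := exists_ext_of_points (pullback.fst g (Sigma.desc E.f)) hqp hq hp
  let m := l ≫ pullback.snd g (Sigma.desc E.f)
  have hm : m ≫ Sigma.desc E.f = Spec.map φ ≫ g := by
    rw [Category.assoc, ← pullback.condition, ← Category.assoc, hl]
  obtain ⟨i, hi⟩ := (sigmaOpenCover E.X).exists_eq (m (closedPoint W))
  obtain ⟨l', hl'⟩ := exists_lift_of_closedPoint (Sigma.ι E.X i) m hi
  refine ⟨W, hW, hW', φ, hφ, i, l', ?_⟩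
  rw [← hm, ← hl', Category.assoc, Sigma.ι_desc]

theorem exists_specializes_over_generic [IsLocallyNoetherian X]
    (hE : SGA1.UnivSubmersive (Sigma.desc E.f)) (x : X) :
    ∃ (i : E.I₀) (ξ u : E.X i), ξ ⤳ u ∧ E.f i u = x ∧ closure {E.f i ξ} ∈ irreducibleComponents ↥X := by
  let C := irreducibleComponent x
  have hC : IsIrreducible C := isIrreducible_irreducibleComponent
  let η := hC.genericPoint
  have hη : closure {η} = C := by
    have := hC.isGenericPoint_genericPoint_closure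
    rwa [isClosed_irreducibleComponent.closure_eq] at this
  have hmem : closure {η} ∈ irreducibleComponents ↥X := hη ▸ irreducibleComponent_mem_irreducibleComponents x
  have hsp : η ⤳ x := specializes_iff_mem_closure.mpr (hη ▸ mem_irreducibleComponent)
  by_cases hne : x = η
  · obtain ⟨i, u, hu⟩ := surjective_of_univSubmersive hE x
    exact ⟨i, u, u, specializes_rfl, hu, by rw [hu, hne]; exact hmem⟩
  obtain ⟨A, h, hA, hh, hgen⟩ := Groth.Agent.S4450.result (𝟙 X) η x hsp hne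
  haveI := hA
  haveI : IsDiscreteValuationRing (CommRingCat.of A) := hA
  obtain ⟨W, _, _, φ, hφ, i, l, hl⟩ := exists_lift_dvr hE (CommRingCat.of A) h
  refine ⟨i, l (⊥ : PrimeSpectrum W), l (closedPoint W), (IsLocalRing.specializes_closedPoint _).map l.continuous, ?_, ?_⟩
  · haveI := hφ.2
    rw [← Scheme.Hom.comp_apply, hl, Scheme.Hom.comp_apply]
    exact (congrArg h (IsLocalRing.comap_closedPoint φ.hom)).trans hh
  · have e : (Spec.map φ) (⊥ : PrimeSpectrum W) = (⊥ : PrimeSpectrum A) :=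
      PrimeSpectrum.ext ((RingHom.injective_iff_ker_eq_bot _).mp hφ.1)
    let z : PrimeSpectrum (X.residueField η) := ⊥
    have e' : (Spec.map (CommRingCat.ofHom A.subtype)) z = (⊥ : PrimeSpectrum A) :=
      PrimeSpectrum.ext ((RingHom.injective_iff_ker_eq_bot A.subtype).mp Subtype.val_injective)
    have h0 : h (⊥ : PrimeSpectrum A) = η := by
      rw [← e', ← Scheme.Hom.comp_apply, hgen, Category.comp_id]
      exact Scheme.fromSpecResidueField_apply _ _
    rw [← Scheme.Hom.comp_apply, hl, Scheme.Hom.comp_apply, e, h0]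
    exact hmem

/-- The inverse image ideal between affine schemes. -/
theorem ideal_comap_of_isAffine [IsAffine X] [IsAffine Y] (f : X ⟶ Y) (I : Y.IdealSheafData) :
    (I.comap f).ideal ⟨⊤, isAffineOpen_top X⟩ = (I.ideal ⟨⊤, isAffineOpen_top Y⟩).map f.appTop.hom := by
  have H : IsAffineOpen (f ⁻¹ᵁ ⊤) := isAffineOpen_top X
  refine le_antisymm ?_ (Ideal.map_le_iff_le_comap.mpr ?_)
  · let K := IdealSheafData.ofIdealTop ((I.ideal ⟨⊤, isAffineOpen_top Y⟩).map f.appTop.hom)
    have hK : K.ideal ⟨⊤, isAffineOpen_top X⟩ = (I.ideal ⟨⊤, isAffineOpen_top Y⟩).map f.appTop.hom :=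
      IdealSheafData.equivOfIsAffine.apply_symm_apply _
    have : I.comap f ≤ K := by
      rw [← IdealSheafData.le_map_iff_comap_le]
      refine IdealSheafData.le_of_isAffine ?_
      rw [IdealSheafData.ideal_map K f ⟨⊤, isAffineOpen_top Y⟩ H]
      exact Ideal.le_comap_map.trans (Ideal.comap_mono hK.ge)
    exact (this _).trans hK.le
  · exact (I.le_map_comap f _).trans (IdealSheafData.ideal_map _ f ⟨⊤, isAffineOpen_top Y⟩ H).le

theorem isEffCartier_comap_of_valuationRing {X' : Scheme.{u}} (J : X'.IdealSheafData)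
    (hJ : BlowUp.IsEffCartierIdeal J) {W : CommRingCat.{u}} [IsDomain W] [ValuationRing W] (l : Spec W ⟶ X')
    (h : l (⊥ : PrimeSpectrum W) ∉ J.support) : BlowUp.IsEffCartierIdeal (J.comap l) := by
  obtain ⟨U, hU, f, -, hIU⟩ := hJ (l (closedPoint W))
  haveI : IsAffine (U.1 : Scheme.{u}) := U.2
  obtain ⟨l', hl'⟩ := exists_lift_of_closedPoint U.1.ι l ⟨⟨_, hU⟩, rfl⟩
  have e : U.1.ι ''ᵁ (⊤ : (U.1 : Scheme.{u}).Opens) = U.1 := by simp
  have hU' : (⟨U.1.ι ''ᵁ ⊤, (isAffineOpen_top (U.1 : Scheme.{u})).image_of_isOpenImmersion U.1.ι⟩ : X'.affineOpens) = U :=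
    Subtype.ext e
  obtain ⟨g, hg⟩ : ∃ g, J.ideal ⟨U.1.ι ''ᵁ ⊤, (isAffineOpen_top (U.1 : Scheme.{u})).image_of_isOpenImmersion U.1.ι⟩ =
      Ideal.span {g} := by
    have key : ∀ U' : X'.affineOpens, U' = U → ∃ g, J.ideal U' = Ideal.span {g} := by
      rintro _ rfl
      exact ⟨f, hIU⟩
    exact key _ hU'
  intro _
  let w := l'.appTop ((U.1.ι.appIso ⊤).hom g)
  have hw : (J.comap l).ideal ⟨⊤, isAffineOpen_top _⟩ = Ideal.span {w} := by
    rw [← hl', IdealSheafData.comap_comp, ideal_comap_of_isAffine,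
      IdealSheafData.ideal_comap_of_isOpenImmersion J U.1.ι ⟨⊤, isAffineOpen_top _⟩, hg]
    have hc : (Ideal.span {g}).comap (U.1.ι.appIso ⊤).inv.hom = Ideal.span {(U.1.ι.appIso ⊤).hom g} := by
      have := Ideal.map_comap_of_equiv (I := Ideal.span {g}) (U.1.ι.appIso ⊤).commRingCatIsoToRingEquiv
      rw [Ideal.map_span, Set.image_singleton] at this
      exact this.symm
    rw [hc, Ideal.map_span, Set.image_singleton]
  haveI : IsDomain Γ(Spec W, ⊤) :=
    (Scheme.ΓSpecIso W).commRingCatIsoToRingEquiv.toMulEquiv.isDomain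
  refine ⟨⟨⊤, isAffineOpen_top _⟩, trivial, w, mem_nonZeroDivisors_of_ne_zero fun h0 => h ?_, hw⟩
  rw [h0, Ideal.span_singleton_zero] at hw
  have hbot : J.comap l = ⊥ := IdealSheafData.ext_of_isAffine (by rw [hw, IdealSheafData.ideal_bot]; rfl)
  have : (show Spec W from (⊥ : PrimeSpectrum W)) ∈ (J.comap l).support := by
    rw [hbot, IdealSheafData.support_bot]
    trivial
  rw [IdealSheafData.support_comap] at this
  exact this

theorem eq_of_isBlowUp {X' : Scheme.{u}} {𝓘 : X.IdealSheafData} {b : X' ⟶ X} (hb : BlowUp.IsBlowUp b 𝓘)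
    {W : CommRingCat.{u}} [IsDomain W] [ValuationRing W] (l₁ l₂ : Spec W ⟶ X') (h : l₁ ≫ b = l₂ ≫ b)
    (h' : b (l₁ (⊥ : PrimeSpectrum W)) ∉ 𝓘.support) : l₁ = l₂ := by
  have hc : BlowUp.IsEffCartierIdeal (𝓘.comap (l₁ ≫ b)) := by
    rw [IdealSheafData.comap_comp]
    refine isEffCartier_comap_of_valuationRing _ hb.1 l₁ ?_
    rw [IdealSheafData.support_comap]
    exact h'
  obtain ⟨m, -, hm⟩ := hb.2 _ (l₁ ≫ b) hc
  exact (hm l₁ rfl).trans (hm l₂ h.symm).symm

theorem exists_generization_notMem_support {X' : Scheme.{u}} (J : X'.IdealSheafData)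
    (hJ : BlowUp.IsEffCartierIdeal J) (x : X') : ∃ ξ : X', ξ ⤳ x ∧ ξ ∉ J.support := by
  obtain ⟨U, hxU, f, hf, hI⟩ := hJ x
  let p := U.2.primeIdealOf ⟨x, hxU⟩
  obtain ⟨q, hq, hqp⟩ := Ideal.exists_minimalPrimes_le (I := ⊥) (J := p.asIdeal) bot_le
  haveI := hq.1.1
  have hfq : f ∉ q := fun hfq =>
    Set.disjoint_left.mp (Ideal.disjoint_nonZeroDivisors_of_mem_minimalPrimes hq) hfq hf
  refine ⟨U.2.fromSpec (⟨q, hq.1.1⟩ : PrimeSpectrum Γ(X', U.1)), ?_, fun hmem => hfq ?_⟩
  · have := ((PrimeSpectrum.le_iff_specializes (⟨q, hq.1.1⟩ : PrimeSpectrum Γ(X', U.1)) p).mp hqp).map U.2.fromSpec.continuous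
    rwa [U.2.fromSpec_primeIdealOf ⟨x, hxU⟩] at this
  · have h2 := (Set.ext_iff.mp (U.2.fromSpec_image_zeroLocus _) _).mpr
      ((IdealSheafData.coe_support_inter J U).subset ⟨hmem, U.2.range_fromSpec.subset (Set.mem_range_self _)⟩)
    obtain ⟨q', hq', he⟩ := h2
    have := U.2.fromSpec.isOpenEmbedding.injective he
    subst this
    exact hq' (hI.symm ▸ Ideal.mem_span_singleton_self f)

theorem eq_top_of_blowUp {X' : Scheme.{u}} [IsLocallyNoetherian X'] {𝓘 : X.IdealSheafData} {b : X' ⟶ X}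
    (hb : BlowUp.IsBlowUp b 𝓘) (U : X'.Opens) (hU : SGA1.UnivSubmersive (U.ι ≫ b)) : U = ⊤ := by
  refine top_le_iff.mp fun x _ => ?_
  obtain ⟨ξ, hξx, hξ⟩ := exists_generization_notMem_support _ hb.1 x
  rw [IdealSheafData.support_comap] at hξ
  by_cases hne : x = ξ
  · subst hne
    have hs := hU _ _ _ (IsPullback.id_vert (U.ι ≫ b))
    obtain ⟨u, hu⟩ := hs.surjective (b x)
    obtain ⟨z, hz₁, hz₂⟩ := Scheme.Pullback.exists_preimage_pullback (f := b) (g := U.ι ≫ b) x u hu.symm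
    haveI : ValuationRing ((pullback b (U.ι ≫ b)).residueField z) := inferInstance
    let s := (pullback b (U.ι ≫ b)).fromSpecResidueField z
    have hs' : ∀ t, s t = z := fun t => Scheme.fromSpecResidueField_apply _ _
    have he : s ≫ pullback.fst _ _ = (s ≫ pullback.snd _ _) ≫ U.ι := by
      refine eq_of_isBlowUp hb _ _ (by rw [Category.assoc, Category.assoc, Category.assoc, pullback.condition]) ?_
      rw [Scheme.Hom.comp_apply, hs', hz₁]
      exact hξ
    have := congr($he (closedPoint ((pullback b (U.ι ≫ b)).residueField z)))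
    rw [Scheme.Hom.comp_apply, Scheme.Hom.comp_apply, Scheme.Hom.comp_apply, hs', hz₁, hz₂] at this
    rw [this]
    exact u.2
  obtain ⟨A, h, hA, hh, hgen⟩ := Groth.Agent.S4450.result (𝟙 X') ξ x hξx hne
  haveI : IsDiscreteValuationRing (CommRingCat.of A) := hA
  obtain ⟨q, p, hqp, hq, hp⟩ := exists_specializes_of_isQuotientMap (pullback.fst (h ≫ b) (U.ι ≫ b))
    (hU _ _ _ (IsPullback.of_hasPullback (h ≫ b) (U.ι ≫ b)))
  obtain ⟨W, _, _, φ, l, hφ, hl, -⟩ := exists_ext_of_points (pullback.fst (h ≫ b) (U.ι ≫ b)) hqp hq hp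
  let l' := l ≫ pullback.snd (h ≫ b) (U.ι ≫ b)
  have he : Spec.map φ ≫ h = l' ≫ U.ι := by
    refine eq_of_isBlowUp hb _ _ (by rw [Category.assoc, Category.assoc, Category.assoc, ← pullback.condition, ← Category.assoc l, hl]) ?_
    have e : (Spec.map φ) (⊥ : PrimeSpectrum W) = (⊥ : PrimeSpectrum A) :=
      PrimeSpectrum.ext ((RingHom.injective_iff_ker_eq_bot _).mp hφ.1)
    let z : PrimeSpectrum (X'.residueField ξ) := ⊥
    have e' : (Spec.map (CommRingCat.ofHom A.subtype)) z = (⊥ : PrimeSpectrum A) :=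
      PrimeSpectrum.ext ((RingHom.injective_iff_ker_eq_bot A.subtype).mp Subtype.val_injective)
    have h0 : h (⊥ : PrimeSpectrum A) = ξ := by
      rw [← e', ← Scheme.Hom.comp_apply, hgen, Category.comp_id]
      exact Scheme.fromSpecResidueField_apply _ _
    change b ((Spec.map φ ≫ h) (⊥ : PrimeSpectrum W)) ∉ 𝓘.support
    rw [Scheme.Hom.comp_apply, e, h0]
    exact hξ
  haveI := hφ.2
  have hc : h (Spec.map φ (closedPoint W)) = x := (congrArg h (IsLocalRing.comap_closedPoint φ.hom)).trans hh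
  rw [← hc, ← Scheme.Hom.comp_apply, he]
  exact (l' (closedPoint W)).2

end Groth.Agent.HTopCov
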