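import Groth.Prelude.Def_SGA1
import Groth.Agent.HTopCov.DVR
import Groth.Agent.S1454
import Groth.Agent.S13731

/-!
qfh coverings of a geometrically unibranch irreducible scheme.
-/

set_option backward.isDefEq.respectTransparency false
set_option backward.isDefEq.respectTransparency.types false
set_option linter.style.haveILetI false

universe u

namespace Groth.Agent.HTopCov

open CategoryTheory CategoryTheory.Limits AlgebraicGeometry

theorem univSubmersive_of_open {X Y : Scheme.{u}} (f : X ⟶ Y) [UniversallyOpen f] [Surjective f] :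
    SGA1.UnivSubmersive f := by
  intro X' Y' i₁ i₂ f' sq
  haveI : UniversallyOpen f' := MorphismProperty.of_isPullback sq.flip ‹UniversallyOpen f›
  haveI : Surjective f' := MorphismProperty.of_isPullback sq.flip ‹Surjective f›
  exact (Scheme.Hom.isOpenMap f').isQuotientMap f'.continuous f'.surjective

theorem univSubmersive_of_comp {X Y Z : Scheme.{u}} (j : X ⟶ Y) (g : Y ⟶ Z)
    (h : SGA1.UnivSubmersive (j ≫ g)) : SGA1.UnivSubmersive g := by
  intro X' Y' i₁ i₂ f' sq
  have := h _ _ _ ((IsPullback.of_hasPullback j i₁).paste_vert sq.flip).flip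
  exact Topology.IsQuotientMap.of_comp (pullback.snd j i₁).continuous f'.continuous this

theorem isDominant_of_specializes_generic {X Y : Scheme.{u}} [IrreducibleSpace Y] (f : X ⟶ Y) (ξ : X)
    (h : closure {f ξ} ∈ irreducibleComponents ↥Y) : IsDominant f := by
  rw [irreducibleComponents_eq_singleton] at h
  refine ⟨dense_iff_closure_eq.2 (Set.eq_univ_of_univ_subset ?_)⟩
  rw [← Set.mem_singleton_iff.1 h]
  exact closure_mono (Set.singleton_subset_iff.2 ⟨ξ, rfl⟩)

theorem universallyOpen_of_dominant {X U : Scheme.{u}} [IsNoetherian X] [IrreducibleSpace X]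
    (hX : ∀ x : X, CAlg2.IsGeomUnibranch (X.presheaf.stalk x)) (f : U ⟶ X) [LocallyOfFiniteType f]
    [LocallyQuasiFinite f] [IrreducibleSpace U] [IsDominant f] : UniversallyOpen f := by
  refine Groth.Agent.S1454.result f hX fun Z hZ x hx => ?_
  rw [irreducibleComponents_eq_singleton] at hZ ⊢
  obtain rfl := Set.mem_singleton_iff.1 hZ
  refine ⟨Set.univ, rfl, ?_⟩
  show closure {f x} = Set.univ
  refine Set.eq_univ_of_univ_subset ?_
  calc (Set.univ : Set X) = closure (Set.range f) := f.denseRange.closure_eq.symm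
    _ = closure (f '' closure {x}) := by rw [hx, Set.image_univ]
    _ ⊆ closure (closure (f '' {x})) := closure_mono (image_closure_subset_closure_image f.continuous)
    _ = closure {f x} := by rw [closure_closure, Set.image_singleton]

theorem univSubmersive_iff_dominant {X : Scheme.{u}} [IsNoetherian X] [X.IsSeparated] [IrreducibleSpace ↥X]
    (hX : ∀ x : X, CAlg2.IsGeomUnibranch (X.presheaf.stalk x)) (E : PreZeroHypercover.{u} X) [Finite E.I₀]
    [∀ i, LocallyOfFiniteType (E.f i)] [∀ i, QuasiCompact (E.f i)] [∀ i, LocallyQuasiFinite (E.f i)]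
    [∀ i, IsSeparated (E.f i)] [∀ i, IrreducibleSpace ↥(E.X i)] :
    (SGA1.UnivSubmersive (Sigma.desc E.f) ↔ ∀ x : X, ∃ (i : E.I₀) (u : E.X i), IsDominant (E.f i) ∧ E.f i u = x) ∧
      ((∀ x : X, ∃ (i : E.I₀) (u : E.X i), IsDominant (E.f i) ∧ E.f i u = x) →
        SGA1.UnivSubmersive (Sigma.desc fun j : {i : E.I₀ // IsDominant (E.f i)} => E.f j.1)) := by
  have key : (∀ x : X, ∃ (i : E.I₀) (u : E.X i), IsDominant (E.f i) ∧ E.f i u = x) →
      SGA1.UnivSubmersive (Limits.Sigma.desc fun j : {i : E.I₀ // IsDominant (E.f i)} => E.f j.1) := fun h => by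
    haveI : UniversallyOpen (Limits.Sigma.desc fun j : {i : E.I₀ // IsDominant (E.f i)} => E.f j.1) :=
      IsZariskiLocalAtSource.sigmaDesc fun j => haveI := j.2; universallyOpen_of_dominant hX (E.f j.1)
    haveI : Surjective (Limits.Sigma.desc fun j : {i : E.I₀ // IsDominant (E.f i)} => E.f j.1) :=
      Surjective.sigmaDesc_of_union_range_eq_univ (Set.eq_univ_of_forall fun x => by
        obtain ⟨i, u, hi, hu⟩ := h x
        exact Set.mem_iUnion.2 ⟨⟨i, hi⟩, u, hu⟩)
    exact univSubmersive_of_open _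
  refine ⟨⟨fun hE x => ?_, fun h => ?_⟩, key⟩
  · obtain ⟨i, ξ, u, -, hu, hξ⟩ := Groth.Agent.S13731.result E hE x
    exact ⟨i, u, isDominant_of_specializes_generic (E.f i) ξ hξ, hu⟩
  · refine univSubmersive_of_comp (Limits.Sigma.desc fun j : {i : E.I₀ // IsDominant (E.f i)} =>
      Limits.Sigma.ι E.X j.1) _ ?_
    convert key h using 1
    ext j
    simp

end Groth.Agent.HTopCov
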