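import Groth.Agent.HTopCov.Misc
import Groth.Agent.HTopCov.Spec
import Groth.Agent.HTopCov.AlmostBlowUp
import Groth.Agent.HTopAwn.SchemeProps
import Groth.Agent.S12442
import Mathlib.CategoryTheory.Sites.Over

/-!
h sheaves turn almost blow up squares and abstract blow up squares into cartesian squares.
-/

set_option backward.isDefEq.respectTransparency false
set_option backward.isDefEq.respectTransparency.types false

universe w u

namespace Groth.Agent.HTopCov

open CategoryTheory CategoryTheory.Limits AlgebraicGeometry IsLocalRing HTop Opposite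

variable {S T : Scheme.{u}}

theorem isVCover_of_proper_family (E : PreZeroHypercover.{u} T) [Finite E.I₀] (hp : ∀ i, IsProper (E.f i))
    (hs : ∀ t, ∃ i x, E.f i x = t) : IsVCover E := by
  haveI : QuasiCompact (Sigma.desc E.f) := (quasiCompact_iff _).mpr fun U hU hc => by
    have e : (Sigma.desc E.f) ⁻¹' U = ⋃ i, Sigma.ι E.X i '' (E.f i ⁻¹' U) := by
      ext z
      obtain ⟨i, y, hy⟩ := (sigmaOpenCover E.X).exists_eq z
      subst hy
      simp only [Set.mem_preimage, Set.mem_iUnion]
      constructor
      · intro h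
        refine ⟨i, y, ?_, rfl⟩
        change E.f i y ∈ U
        rw [← Sigma.ι_desc E.f i]
        exact h
      · rintro ⟨j, x, hx, hxy⟩
        change Sigma.desc E.f (Sigma.ι E.X i y) ∈ U
        rw [show Sigma.ι E.X i y = Sigma.ι E.X j x from hxy.symm]
        change (Sigma.ι E.X j ≫ Sigma.desc E.f) x ∈ U
        rw [Sigma.ι_desc]
        exact hx
    rw [e]
    exact isCompact_iUnion fun i => ((E.f i).isCompact_preimage (U := ⟨U, hU⟩) hc).image (Sigma.ι E.X i).continuous
  refine (isVCover_singleton_sigmaDesc_iff E).mp (isVCover_of_hasValLift _ fun V _ _ g => ?_)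
  obtain ⟨i, u, hu⟩ := hs (g (⊥ : PrimeSpectrum V))
  obtain ⟨q, hq, -⟩ := Scheme.Pullback.exists_preimage_pullback (f := g) (g := E.f i)
    ((⊥ : PrimeSpectrum V) : Spec V) u hu.symm
  haveI := hp i
  have hsp : (pullback.fst g (E.f i)) q ⤳ closedPoint V := by
    rw [hq]
    exact IsLocalRing.specializes_closedPoint _
  obtain ⟨p, hqp, hp'⟩ := (pullback.fst g (E.f i)).isClosedMap.specializingMap hsp
  obtain ⟨W, hW, hW', φ, l, hφ, hl, -⟩ := exists_ext_of_points (pullback.fst g (E.f i)) hqp hq hp'
  refine ⟨W, hW, hW', φ, hφ, PUnit.unit, l ≫ pullback.snd g (E.f i) ≫ Sigma.ι E.X i, ?_⟩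
  change (l ≫ pullback.snd g (E.f i) ≫ Sigma.ι E.X i) ≫ Sigma.desc E.f = _
  rw [Category.assoc, Category.assoc, Sigma.ι_desc, ← pullback.condition, ← Category.assoc, hl]

theorem isSheafFor_of_proper_family (F : ShH S) {X : Over S} {ι : Type u} [Finite ι] (Z : ι → Over S) (g : ∀ i, Z i ⟶ X)
    (hp : ∀ i, IsProper (g i).left) (hfp : ∀ i, LocallyOfFinitePresentation (g i).left)
    (hs : ∀ t : X.left, ∃ i x, (g i).left x = t) : Presieve.IsSheafFor F.obj (Presieve.ofArrows Z g) := by
  let E : PreZeroHypercover.{u} X.left := ⟨ι, fun i => (Z i).left, fun i => (g i).left⟩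
  haveI : Finite E.I₀ := ‹Finite ι›
  have hE : IsHCover E := ⟨hfp, isVCover_of_proper_family E hp hs⟩
  rw [Presieve.isSheafFor_iff_generate]
  refine (isSheaf_iff_isSheaf_of_type _ _).mp F.property _ ?_
  rw [GrothendieckTopology.mem_over_iff]
  refine hPrecoverage.toGrothendieck.superset_covering (le_of_eq (Sieve.overEquiv_ofArrows Z g).symm) ?_
  exact Precoverage.generate_mem_toGrothendieck ((presieve₀_mem_hPrecoverage_iff E).mpr hE)

variable {E Z X' X : Over S}

/-- The descent statement behind the two square theorems. -/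
theorem existsUnique_glue (F : ShH S) (e : E ⟶ X') (π : E ⟶ Z) (b : X' ⟶ X) (i : Z ⟶ X)
    [IsClosedImmersion i.left] [LocallyOfFinitePresentation i.left]
    [IsProper b.left] [LocallyOfFinitePresentation b.left]
    (hsq : IsPullback e.left π.left b.left i.left)
    (hsurj : ∀ x : X.left, x ∉ Set.range i.left → ∃ y, b.left y = x)
    (hinj : ∀ ⦃K : Type u⦄ [Field K] (l₁ l₂ : Spec (CommRingCat.of K) ⟶ X'.left),
      l₁ ≫ b.left = l₂ ≫ b.left → (∀ k, (l₁ ≫ b.left) k ∉ Set.range i.left) → l₁ = l₂)
    (t : F.obj.obj (op Z)) (s' : F.obj.obj (op X')) (hts : F.obj.map π.op t = F.obj.map e.op s') :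
    ∃! s : F.obj.obj (op X), F.obj.map i.op s = t ∧ F.obj.map b.op s = s' := by
  have hb : b.left ≫ X.hom = X'.hom := Over.w b
  have hi : i.left ≫ X.hom = Z.hom := Over.w i
  have hfac : ∀ {W : Over S} (g : W ⟶ X') (a : W ⟶ Z), g ≫ b = a ≫ i → F.obj.map g.op s' = F.obj.map a.op t := by
    intro W g a h
    let m : W ⟶ E := Over.homMk (hsq.lift g.left a.left congr(($h).left))
      (by rw [← Over.w e, ← Category.assoc, hsq.lift_fst]; exact Over.w g)
    have hm₁ : m ≫ e = g := Over.OverMorphism.ext (hsq.lift_fst _ _ _)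
    have hm₂ : m ≫ π = a := Over.OverMorphism.ext (hsq.lift_snd _ _ _)
    rw [← hm₁, ← hm₂, op_comp, op_comp, Functor.map_comp, Functor.map_comp]
    exact congrArg (F.obj.map m.op) hts.symm
  have hsep : ∀ {W : Over S} (g₁ g₂ : W ⟶ X'), g₁ ≫ b = g₂ ≫ b → F.obj.map g₁.op s' = F.obj.map g₂.op s' := by
    intro W g₁ g₂ h
    have h' : g₁.left ≫ b.left = g₂.left ≫ b.left := congr(($h).left)
    let d := pullback.fst (pullback.lift g₁.left g₂.left h') (pullback.diagonal b.left)
    let q := pullback.fst (g₁.left ≫ b.left) i.left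
    let Zf : ULift.{u} Bool → Over S := fun k => bif k.down then Over.mk (d ≫ W.hom) else Over.mk (q ≫ W.hom)
    let gf : ∀ k, Zf k ⟶ W := fun k => match k with
      | ⟨true⟩ => Over.homMk d rfl
      | ⟨false⟩ => Over.homMk q rfl
    haveI : IsClosedImmersion d := MorphismProperty.pullback_fst _ _ inferInstance
    haveI : IsClosedImmersion q := MorphismProperty.pullback_fst _ _ inferInstance
    haveI : LocallyOfFinitePresentation (pullback.diagonal b.left) := by
      haveI : LocallyOfFinitePresentation (pullback.diagonal b.left ≫ pullback.fst b.left b.left) := by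
        rw [pullback.diagonal_fst]
        infer_instance
      exact Groth.Agent.S12442.result _ (pullback.fst b.left b.left)
    haveI : LocallyOfFinitePresentation d := MorphismProperty.pullback_fst _ _ inferInstance
    haveI : LocallyOfFinitePresentation q := MorphismProperty.pullback_fst _ _ inferInstance
    have hsh := isSheafFor_of_proper_family F Zf gf
      (by
        rintro ⟨_ | _⟩
        · change IsProper q
          infer_instance
        · change IsProper d
          infer_instance)
      (by
        rintro ⟨_ | _⟩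
        · change LocallyOfFinitePresentation q
          infer_instance
        · change LocallyOfFinitePresentation d
          infer_instance)
      (fun w => by
        by_cases hw : b.left (g₁.left w) ∈ Set.range i.left
        · obtain ⟨z, hz⟩ := hw
          obtain ⟨p, hp, -⟩ := Scheme.Pullback.exists_preimage_pullback (f := g₁.left ≫ b.left) (g := i.left) w z hz.symm
          exact ⟨⟨false⟩, p, hp⟩
        · let k := W.left.fromSpecResidueField w
          have e : k ≫ g₁.left = k ≫ g₂.left := hinj _ _ (by rw [Category.assoc, Category.assoc, h']) fun c => by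
            have hc : k c = w := Scheme.fromSpecResidueField_apply w c
            change b.left (g₁.left (k c)) ∉ _
            exact (congrArg (fun z => b.left (g₁.left z)) hc) ▸ hw
          let m := pullback.lift (f := pullback.lift g₁.left g₂.left h') (g := pullback.diagonal b.left) k (k ≫ g₁.left)
            (pullback.hom_ext (by simp) (by simp [e]))
          refine ⟨⟨true⟩, m (closedPoint (W.left.residueField w)), ?_⟩
          change (m ≫ d) _ = w
          rw [show m ≫ d = k from pullback.lift_fst _ _ _]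
          exact Scheme.fromSpecResidueField_apply _ _)
    refine hsh.isSeparatedFor.ext ?_
    rintro _ _ ⟨k⟩
    rcases k with ⟨_ | _⟩
    · let a₁ : Over.mk (q ≫ W.hom) ⟶ Z := Over.homMk (pullback.snd (g₁.left ≫ b.left) i.left) (by
        change pullback.snd _ _ ≫ Z.hom = q ≫ W.hom
        rw [← hi, ← Category.assoc, ← pullback.condition, Category.assoc, Category.assoc, hb, Over.w g₁])
      let q' : Over.mk (q ≫ W.hom) ⟶ W := Over.homMk q rfl
      change F.obj.map q'.op (F.obj.map g₁.op s') = F.obj.map q'.op (F.obj.map g₂.op s')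
      have c₁ : (q' ≫ g₁) ≫ b = a₁ ≫ i := Over.OverMorphism.ext (by
        change (q ≫ g₁.left) ≫ b.left = pullback.snd _ _ ≫ i.left
        rw [Category.assoc, ← pullback.condition])
      have c₂ : (q' ≫ g₂) ≫ b = a₁ ≫ i := by rw [Category.assoc, ← h, ← Category.assoc, c₁]
      rw [← ConcreteCategory.comp_apply, ← ConcreteCategory.comp_apply, ← Functor.map_comp, ← Functor.map_comp,
        ← op_comp, ← op_comp, hfac _ _ c₁, hfac _ _ c₂]
    · let d' : Over.mk (d ≫ W.hom) ⟶ W := Over.homMk d rfl
      change F.obj.map d'.op (F.obj.map g₁.op s') = F.obj.map d'.op (F.obj.map g₂.op s')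
      have c : d' ≫ g₁ = d' ≫ g₂ := Over.OverMorphism.ext (by
        change d ≫ g₁.left = d ≫ g₂.left
        have hc := pullback.condition (f := pullback.lift g₁.left g₂.left h') (g := pullback.diagonal b.left)
        have h1 := congr($hc ≫ pullback.fst _ _)
        have h2 := congr($hc ≫ pullback.snd _ _)
        simp only [Category.assoc, pullback.lift_fst, pullback.lift_snd, pullback.diagonal_fst, pullback.diagonal_snd,
          Category.comp_id] at h1 h2
        exact h1.trans h2.symm)
      rw [← ConcreteCategory.comp_apply, ← ConcreteCategory.comp_apply, ← Functor.map_comp, ← Functor.map_comp,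
        ← op_comp, ← op_comp, c]
  let Zf : ULift.{u} Bool → Over S := fun k => bif k.down then X' else Z
  let gf : ∀ k, Zf k ⟶ X := fun k => match k with
    | ⟨true⟩ => b
    | ⟨false⟩ => i
  have hsh := isSheafFor_of_proper_family F Zf gf
    (by
        rintro ⟨_ | _⟩
        · change IsProper i.left
          infer_instance
        · change IsProper b.left
          infer_instance)
    (by
        rintro ⟨_ | _⟩
        · change LocallyOfFinitePresentation i.left
          infer_instance
        · change LocallyOfFinitePresentation b.left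
          infer_instance)
    (fun x => by
      by_cases hx : x ∈ Set.range i.left
      · obtain ⟨z, hz⟩ := hx
        exact ⟨⟨false⟩, z, hz⟩
      · obtain ⟨y, hy⟩ := hsurj x hx
        exact ⟨⟨true⟩, y, hy⟩)
  rw [Presieve.isSheafFor_arrows_iff] at hsh
  let xf : ∀ k, F.obj.obj (op (Zf k)) := fun k => match k with
    | ⟨true⟩ => s'
    | ⟨false⟩ => t
  obtain ⟨s, hs, huniq⟩ := hsh xf (by
    rintro ⟨_ | _⟩ ⟨_ | _⟩ W g₁ g₂ h
    · haveI : Mono i := Over.mono_of_mono_left i
      rw [show g₁ = g₂ from (cancel_mono i).mp h]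
    · exact (hfac g₂ g₁ h.symm).symm
    · exact hfac g₁ g₂ h
    · exact hsep g₁ g₂ h)
  exact ⟨s, ⟨hs ⟨false⟩, hs ⟨true⟩⟩, fun y hy => huniq y (by rintro ⟨_ | _⟩; exacts [hy.1, hy.2])⟩

theorem isEffCartier_top (X : Scheme.{u}) : BlowUp.IsEffCartierIdeal (⊤ : X.IdealSheafData) := fun x => by
  obtain ⟨U, hU, hx, -⟩ := exists_isAffineOpen_mem_and_subset (U := ⊤) (x := x) trivial
  refine ⟨⟨U, hU⟩, hx, 1, one_mem _, ?_⟩
  rw [Ideal.span_singleton_one, Scheme.IdealSheafData.ideal_top]
  rfl

theorem isEffCartier_comap_of_avoid {Y W : Scheme.{u}} (I : Y.IdealSheafData) (g : W ⟶ Y)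
    (h : ∀ x, g x ∉ I.support) : BlowUp.IsEffCartierIdeal (I.comap g) := by
  have : I.comap g = ⊤ := by
    rw [← Scheme.IdealSheafData.support_eq_bot_iff, Scheme.IdealSheafData.support_comap]
    exact TopologicalSpace.Closeds.ext (Set.eq_empty_iff_forall_notMem.mpr h)
  exact this ▸ isEffCartier_top W

theorem existsUnique_glue_almostBlowUp (F : ShH S) (e : E ⟶ X') (π : E ⟶ Z) (b : X' ⟶ X) (i : Z ⟶ X)
    (h : IsAlmostBlowUpSquare e.left π.left b.left i.left)
    (t : F.obj.obj (op Z)) (s' : F.obj.obj (op X')) (hts : F.obj.map π.op t = F.obj.map e.op s') :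
    ∃! s : F.obj.obj (op X), F.obj.map i.op s = t ∧ F.obj.map b.op s = s' := by
  haveI := h.isClosedImmersion
  haveI := h.finitePresentation_base
  haveI := h.isProper
  haveI := h.finitePresentation
  have hsupp : ∀ x, x ∈ i.left.ker.support ↔ x ∈ Set.range i.left := fun x => by
    rw [← SetLike.mem_coe, Scheme.Hom.support_ker, i.left.isClosedEmbedding.isClosed_range.closure_eq]
  refine existsUnique_glue F e π b i h.isPullback (fun x hx => ?_) (fun K _ l₁ l₂ hl hav => ?_) t s' hts
  · obtain ⟨l, hl, -⟩ := h.isBlowUp.2 _ (X.left.fromSpecResidueField x) (isEffCartier_comap_of_avoid _ _ fun c => by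
      rw [Scheme.fromSpecResidueField_apply, hsupp]
      exact hx)
    refine ⟨(Scheme.IdealSheafData.subschemeι _) (l (closedPoint (X.left.residueField x))), ?_⟩
    change (l ≫ _ ≫ b.left) _ = x
    rw [hl, Scheme.fromSpecResidueField_apply]
  · exact hom_ext_of_isBlowUp h.isBlowUp l₁ l₂ hl (isEffCartier_comap_of_avoid _ _ fun c => by
      rw [hsupp]
      exact hav c)

theorem existsUnique_glue_isIso (F : ShH S) (e : E ⟶ X') (π : E ⟶ Z) (f : X' ⟶ X) (i : Z ⟶ X)
    [IsProper f.left] [Surjective f.left] [LocallyOfFinitePresentation f.left]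
    [IsClosedImmersion i.left] [LocallyOfFinitePresentation i.left]
    (hsq : IsPullback e.left π.left f.left i.left)
    (U : X.left.Opens) (hU : (U : Set X.left) = (Set.range i.left.base)ᶜ) (hiso : IsIso (f.left ∣_ U))
    (t : F.obj.obj (op Z)) (s' : F.obj.obj (op X')) (hts : F.obj.map π.op t = F.obj.map e.op s') :
    ∃! s : F.obj.obj (op X), F.obj.map i.op s = t ∧ F.obj.map f.op s = s' := by
  refine existsUnique_glue F e π f i hsq (fun x _ => f.left.surjective x) (fun K _ l₁ l₂ hl hav => ?_) t s' hts
  have hr : ∀ (l : Spec (CommRingCat.of K) ⟶ X'.left), l ≫ f.left = l₁ ≫ f.left →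
      Set.range l ⊆ Set.range (f.left ⁻¹ᵁ U).ι := by
    rintro l hl' _ ⟨c, rfl⟩
    rw [Scheme.Opens.range_ι]
    change f.left (l c) ∈ (U : Set X.left)
    rw [hU, ← Scheme.Hom.comp_apply, hl']
    exact hav c
  haveI := hiso
  have : IsOpenImmersion.lift _ l₁ (hr l₁ rfl) = IsOpenImmersion.lift _ l₂ (hr l₂ hl.symm) := by
    rw [← cancel_mono (f.left ∣_ U), ← cancel_mono U.ι, Category.assoc, Category.assoc, morphismRestrict_ι,
      IsOpenImmersion.lift_fac_assoc, IsOpenImmersion.lift_fac_assoc, hl]
  have := congr($this ≫ (f.left ⁻¹ᵁ U).ι)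
  simpa using this

end Groth.Agent.HTopCov
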