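import Groth.Agent.ExistEasy.ChowNR.Closed
import Groth.Agent.PnCoh.Chow.Exists
import Groth.Agent.H23.RedSub

/-!
# Chow covers over an arbitrary affine base

A separated scheme of finite type over an affine scheme is covered by finitely many schemes proper
over it which map monomorphically into schemes proper over the base.
-/

set_option backward.isDefEq.respectTransparency false
set_option linter.style.haveILetI false

universe u

open CategoryTheory CategoryTheory.Limits AlgebraicGeometry TopologicalSpace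

namespace Groth.Agent.HTopCov

open Groth.Agent.ExistEasy Groth.Agent.PnCoh.Chow

theorem exists_chowLite {A : Type u} [CommRing A] {X : Scheme.{u}}
    (f : X ⟶ Spec (CommRingCat.of A)) [IsSeparated f] [LocallyOfFiniteType f] [CompactSpace X] :
    ∃ (ι : Type) (_ : Finite ι) (Z P : ι → Scheme.{u}) (π : ∀ k, Z k ⟶ X) (p : ∀ k, Z k ⟶ P k)
      (q : ∀ k, P k ⟶ Spec (CommRingCat.of A)), (∀ k, IsProper (π k)) ∧ (∀ k, IsProper (q k)) ∧
      (∀ k, Mono (p k)) ∧ (∀ k, p k ≫ q k = π k ≫ f) ∧ ∀ x, ∃ (k : ι) (z : Z k), π k z = x := by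
  classical
  obtain ⟨m, U, hU, hUc⟩ : ∃ (m : ℕ) (U : Fin m → X.Opens), (∀ i, IsAffineOpen (U i)) ∧
      ∀ x, ∃ i, x ∈ U i := by
    let C := X.affineCover.finiteSubcover
    let e := (Finite.exists_equiv_fin C.I₀).choose_spec.some
    refine ⟨_, fun i => (C.f (e.symm i)).opensRange, fun i =>
      haveI : IsAffine (C.X (e.symm i)) := inferInstanceAs (IsAffine (X.affineCover.X _))
      isAffineOpen_opensRange _, fun x => ?_⟩
    obtain ⟨i, hi⟩ := C.exists_eq x
    refine ⟨e i, ?_⟩
    show x ∈ Set.range (C.f (e.symm (e i)))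
    rw [e.symm_apply_apply]
    exact hi
  let S : Finset (Fin m) → Set X := fun I => {x | ∀ i, x ∈ U i ↔ i ∈ I}
  let C : Finset (Fin m) → Closeds X := fun I => ⟨closure (S I), isClosed_closure⟩
  let Y : Finset (Fin m) → Scheme.{u} := fun I =>
    (Scheme.IdealSheafData.vanishingIdeal (C I)).subscheme
  let c : ∀ I, Y I ⟶ X := fun I => (Scheme.IdealSheafData.vanishingIdeal (C I)).subschemeι
  have hrc : ∀ I, Set.range (c I) = closure (S I) := fun I => H23.RedSub.range_vanishingIdeal _
  let O : ∀ I, (Y I).Opens := fun I => I.inf fun i => c I ⁻¹ᵁ U i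
  have hO : ∀ I, IsCompact (O I : Set (Y I)) := fun I => by
    haveI : QuasiSeparatedSpace (Y I) :=
      quasiSeparatedSpace_of_quasiSeparated (c I ≫ f)
    haveI : CompactSpace (Y I) := QuasiCompact.compactSpace_of_compactSpace (c I)
    refine Finset.inf_induction (p := fun V : (Y I).Opens => IsCompact (V : Set (Y I))) ?_ ?_ ?_
    · simpa using isCompact_univ (X := Y I)
    · intro a ha b hb
      exact QuasiSeparatedSpace.inter_isCompact (a : Set (Y I)) b a.2 ha b.2 hb
    · exact fun i _ => ((hU i).preimage (c I)).isCompact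
  choose k s hs using fun (I : Finset (Fin m)) (i : Fin I.card) =>
    exists_gens (c I ≫ f) ((hU (I.equivFin.symm i).1).preimage (c I))
  let D : ∀ I, ChowNR.Data (c I ≫ f) := fun I => {
    W₀ := (O I).toScheme
    j := (O I).ι
    openImm := inferInstance
    compact := isCompact_iff_compactSpace.1 (hO I)
    m := I.card
    U := fun i => c I ⁻¹ᵁ U (I.equivFin.symm i).1
    hU := fun i => (hU _).preimage (c I)
    hcov := fun y _ => by
      have hy : c I y ∈ closure (S I) := (hrc I).le ⟨y, rfl⟩
      obtain ⟨i, hi⟩ := hUc (c I y)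
      obtain ⟨x, hx, hxS⟩ := mem_closure_iff.1 hy _ (U i).2 hi
      refine Set.mem_iUnion.2 ⟨I.equivFin ⟨i, (hxS i).1 hx⟩, ?_⟩
      show c I y ∈ U _
      rw [Equiv.symm_apply_apply]
      exact hi
    k := k I
    s := s I
    hgen := hs I
    hle := fun i w _ => (Finset.inf_le (I.equivFin.symm i).2 :
      O I ≤ c I ⁻¹ᵁ U (I.equivFin.symm i).1) w.2 }
  refine ⟨Finset (Fin m), inferInstance, fun I => (D I).X', fun I => CohB1.ProjSpace (D I).N A,
    fun I => (D I).π ≫ c I, fun I => (D I).p, fun I => CohB1.ProjSpace.toSpec (D I).N A,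
    fun I => inferInstance, fun I => isProper_toSpec _ _, fun I => (D I).mono_p,
    fun I => ?_, fun x => ?_⟩
  · rw [← (D I).π_f, Category.assoc]
  · let I : Finset (Fin m) := Finset.univ.filter fun i => x ∈ U i
    have hxS : x ∈ S I := fun i => by simp [I]
    obtain ⟨y, hy⟩ := (hrc I).ge (subset_closure hxS)
    have hyO : y ∈ O I := by
      refine Finset.inf_induction (p := fun V : (Y I).Opens => y ∈ V) trivial
        (fun a ha b hb => ⟨ha, hb⟩) fun i hi => ?_
      show c I y ∈ U i
      rw [hy]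
      exact (hxS i).2 hi
    refine ⟨I, (D I).γ ⟨y, hyO⟩, ?_⟩
    rw [← Scheme.Hom.comp_apply, ← Category.assoc, (D I).γ_π, Scheme.Hom.comp_apply]
    exact hy

end Groth.Agent.HTopCov
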