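import Groth.Agent.PopescuLib.FPColim
import Mathlib.AlgebraicGeometry.Morphisms.FinitePresentation
import Mathlib.AlgebraicGeometry.GammaSpecAdjunction

/-!
A morphism of affine schemes is a cofiltered limit of finitely presented ones.
-/

set_option backward.isDefEq.respectTransparency false
set_option backward.isDefEq.respectTransparency.types false
set_option linter.style.haveILetI false

universe u

open CategoryTheory Limits Opposite AlgebraicGeometry Groth.Agent.PopescuLib

namespace Groth.Agent.HTopCov

theorem exists_fp_system {U V : Scheme.{u}} [IsAffine U] [IsAffine V] (f : V ⟶ U) :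
    ∃ (I : Type u) (_ : SmallCategory I) (_ : IsCofiltered I) (D : I ⥤ Over U) (c : Cone D)
      (_ : IsLimit ((Over.forget U).mapCone c)) (_ : c.pt ≅ Over.mk f),
      (∀ i, IsAffine (D.obj i).left) ∧ ∀ i, LocallyOfFinitePresentation (D.obj i).hom := by
  let A := Γ(U, ⊤)
  let B := Γ(V, ⊤)
  letI := f.appTop.hom.toAlgebra
  let J := (FPModel A B)ᵒᵖ
  haveI : IsConnected (FPModel A B) := IsFiltered.isConnected _
  let toU : ∀ j : J, Spec (CommRingCat.of j.unop.Alg) ⟶ U :=
    fun j => Spec.map (CommRingCat.ofHom (algebraMap A j.unop.Alg)) ≫ U.isoSpec.inv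
  have htoU : ∀ {j k : J} (g : j ⟶ k),
      Spec.map ((fpDiagram A B ⋙ Under.forget _).map g.unop) ≫ toU k = toU j := fun {j k} g => by
    show _ ≫ _ ≫ _ = _ ≫ _
    rw [← Category.assoc, ← Spec.map_comp]
    exact congrArg (fun r => Spec.map r ≫ U.isoSpec.inv) (CategoryTheory.Under.w ((fpDiagram A B).map g.unop))
  let D : J ⥤ Over U :=
    { obj := fun j => Over.mk (toU j)
      map := fun {j k} g => CategoryTheory.Over.homMk (Spec.map ((fpDiagram A B ⋙ Under.forget _).map g.unop))
        (htoU g)
      map_id := fun j => Over.OverMorphism.ext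
        ((congrArg Spec.map ((fpDiagram A B ⋙ Under.forget _).map_id j.unop)).trans (Spec.map_id _))
      map_comp := fun g g' => Over.OverMorphism.ext
        ((congrArg Spec.map ((fpDiagram A B ⋙ Under.forget _).map_comp g'.unop g.unop)).trans (Spec.map_comp _ _)) }
  let ci : ∀ j : J, Spec B ⟶ Spec (CommRingCat.of j.unop.Alg) := fun j =>
    Spec.map ((Under.forget _).map ((fpCocone A B).ι.app j.unop))
  have hci : ∀ j, ci j ≫ toU j = V.isoSpec.inv ≫ f := fun j => by
    show _ ≫ _ ≫ _ = _
    rw [← Category.assoc, ← Spec.map_comp, ← Scheme.isoSpec_inv_naturality]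
    exact congrArg (fun r => Spec.map r ≫ U.isoSpec.inv) (CategoryTheory.Under.w ((fpCocone A B).ι.app j.unop))
  let c : Cone D :=
    { pt := Over.mk (V.isoSpec.inv ≫ f)
      π :=
        { app := fun j => CategoryTheory.Over.homMk (ci j) (hci j)
          naturality := fun j k g => Over.OverMorphism.ext (by
            show 𝟙 _ ≫ ci k = ci j ≫ Spec.map _
            rw [Category.id_comp, ← Spec.map_comp]
            exact congrArg Spec.map (((Under.forget _).mapCocone (fpCocone A B)).w g.unop).symm) } }
  haveI : PreservesLimitsOfSize.{u, u} Scheme.Spec.{u} := ΓSpec.adjunction.rightAdjoint_preservesLimits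
  refine ⟨J, inferInstance, inferInstance, D, c,
    isLimitOfPreserves Scheme.Spec (isColimitOfPreserves (Under.forget _) (fpIsColimit A B)).op,
    CategoryTheory.Over.isoMk V.isoSpec.symm rfl, fun j => inferInstanceAs (IsAffine (Spec _)), fun j => ?_⟩
  haveI : LocallyOfFinitePresentation (Spec.map (CommRingCat.ofHom (algebraMap A j.unop.Alg))) :=
    (LocallyOfFinitePresentation.SpecMap_iff _).2 (RingHom.finitePresentation_algebraMap.mpr inferInstance)
  show LocallyOfFinitePresentation (_ ≫ _)
  infer_instance

end Groth.Agent.HTopCov
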