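import Groth.Agent.HTopCov.LimV
import Groth.Agent.HTopCov.FPSys
import Groth.Agent.HTopCov.Sheaf
import Mathlib.CategoryTheory.Limits.Types.Filtered

/-!
Limit preserving h sheaves are V sheaves.
-/

set_option backward.isDefEq.respectTransparency false
set_option backward.isDefEq.respectTransparency.types false
set_option linter.style.haveILetI false

universe w w' u

open CategoryTheory CategoryTheory.Limits AlgebraicGeometry HTop Opposite

namespace Groth.Agent.HTopCov

/-- The condition that a presheaf on schemes over `S` commutes with cofiltered limits of affines. -/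
def LimitPres {S : Scheme.{u}} (F : (Over S)ᵒᵖ ⥤ Type w) : Prop :=
  ∀ (I : Type u) [SmallCategory I] [IsCofiltered I] (D : I ⥤ Over S),
    (∀ i, IsAffine (D.obj i).left) → ∀ (c : Cone D), IsLimit ((Over.forget S).mapCone c) →
      Nonempty (IsColimit (F.mapCocone c.op))

variable {S : Scheme.{u}} {F : (Over S)ᵒᵖ ⥤ Type w}

theorem map_comp_apply' {A B C : Over S} (f : A ⟶ B) (g : B ⟶ C) (x : F.obj (op C)) :
    F.map (f ≫ g).op x = F.map f.op (F.map g.op x) := by
  rw [op_comp]
  simp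

/-- The sheaf property of an h sheaf for an h covering family of schemes over the base. -/
theorem existsUnique_of_hSheaf (h1 : IsHSheafOver S F) {X : Over S} {ι : Type w'} (Y : ι → Over S)
    (π : ∀ i, Y i ⟶ X)
    (hπ : IsHCover (⟨ι, fun i => (Y i).left, fun i => (π i).left⟩ : PreZeroHypercover.{w'} X.left))
    (x : ∀ i, F.obj (op (Y i))) (hx : Presieve.Arrows.Compatible F π x) :
    ∃! t, ∀ i, F.map (π i).op t = x i := by
  refine (Presieve.isSheafFor_arrows_iff F π).1 (h1 _ ?_) x hx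
  rw [Presieve.map_ofArrows]
  exact (presieve₀_mem_hPrecoverage_iff
    (⟨ι, fun i => (Y i).left, fun i => (π i).left⟩ : PreZeroHypercover.{w'} X.left)).2 hπ

theorem isHCover_of_isOpenImmersion {T : Scheme.{u}} (E : PreZeroHypercover.{w'} T)
    (ho : ∀ i, IsOpenImmersion (E.f i)) (hc : ∀ t : T, ∃ i, t ∈ Set.range (E.f i)) : IsHCover E := by
  haveI := ho
  let 𝒰 : T.Cover (Scheme.precoverage @IsOpenImmersion) :=
    { toPreZeroHypercover := E
      mem₀ := by
        rw [PreZeroHypercover.presieve₀, Scheme.ofArrows_mem_precoverage_iff]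
        exact ⟨hc, ho⟩ }
  haveI : QuasiCompactCover E :=
    (QuasiCompactCover.of_isOpenMap (𝒰 := 𝒰) fun i => (E.f i).isOpenEmbedding.isOpenMap : QuasiCompactCover 𝒰.toPreZeroHypercover)
  exact ⟨fun i => inferInstance, isVCover_of_qc _ fun i => inferInstance⟩

/-- An h sheaf has unique gluing for jointly surjective families of open immersions. -/
theorem existsUnique_of_open (h1 : IsHSheafOver S F) {X : Over S} {ι : Type w'} (Y : ι → Over S)
    (π : ∀ i, Y i ⟶ X) (ho : ∀ i, IsOpenImmersion (π i).left)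
    (hc : ∀ t : X.left, ∃ i, t ∈ Set.range (π i).left)
    (x : ∀ i, F.obj (op (Y i))) (hx : Presieve.Arrows.Compatible F π x) :
    ∃! t, ∀ i, F.map (π i).op t = x i :=
  existsUnique_of_hSheaf h1 Y π (isHCover_of_isOpenImmersion _ ho hc) x hx

theorem eq_of_open (h1 : IsHSheafOver S F) {X : Over S} {ι : Type w'} (Y : ι → Over S)
    (π : ∀ i, Y i ⟶ X) (ho : ∀ i, IsOpenImmersion (π i).left)
    (hc : ∀ t : X.left, ∃ i, t ∈ Set.range (π i).left) {a b : F.obj (op X)}
    (h : ∀ i, F.map (π i).op a = F.map (π i).op b) : a = b := by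
  refine (existsUnique_of_open h1 Y π ho hc (fun i => F.map (π i).op a) ?_).unique (fun i => rfl)
    fun i => (h i).symm
  intro i j Z gi gj e
  rw [← map_comp_apply', ← map_comp_apply', e]

section Square

variable {U : Over S}

/-- The self fibre product of a scheme over `U`, as a scheme over the base. -/
noncomputable def sqFunctor (U : Over S) : Over U.left ⥤ Over S where
  obj W := Over.mk (pullback.fst W.hom W.hom ≫ W.hom ≫ U.hom)
  map {W W'} g := Over.homMk
    (pullback.map W.hom W.hom W'.hom W'.hom g.left g.left (𝟙 _)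
      (by rw [Category.comp_id, Over.w]) (by rw [Category.comp_id, Over.w])) (by
      show pullback.map _ _ _ _ _ _ _ _ _ ≫ pullback.fst _ _ ≫ W'.hom ≫ U.hom = _
      rw [pullback.lift_fst_assoc, Category.assoc, Over.w_assoc]
      rfl)
  map_id W := Over.OverMorphism.ext (by
    apply pullback.hom_ext <;> simp)
  map_comp {W W' W''} g g' := Over.OverMorphism.ext (by
    apply pullback.hom_ext <;> simp)

noncomputable def sqFst (W : Over U.left) : (sqFunctor U).obj W ⟶ (Over.map U.hom).obj W :=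
  Over.homMk (pullback.fst _ _) rfl

noncomputable def sqSnd (W : Over U.left) : (sqFunctor U).obj W ⟶ (Over.map U.hom).obj W :=
  Over.homMk (pullback.snd _ _) (by
    show pullback.snd _ _ ≫ W.hom ≫ U.hom = pullback.fst _ _ ≫ W.hom ≫ U.hom
    rw [pullback.condition_assoc])

theorem sqFst_naturality {W W' : Over U.left} (g : W ⟶ W') :
    (sqFunctor U).map g ≫ sqFst W' = sqFst W ≫ (Over.map U.hom).map g :=
  Over.OverMorphism.ext (pullback.lift_fst _ _ _)

theorem sqSnd_naturality {W W' : Over U.left} (g : W ⟶ W') :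
    (sqFunctor U).map g ≫ sqSnd W' = sqSnd W ≫ (Over.map U.hom).map g :=
  Over.OverMorphism.ext (pullback.lift_snd _ _ _)

theorem nonempty_isLimit_sq {I : Type u} [SmallCategory I] [IsCofiltered I] {D : I ⥤ Over U.left}
    (c : Cone D) (hc : IsLimit ((Over.forget U.left).mapCone c)) :
    Nonempty (IsLimit ((Over.forget S).mapCone ((sqFunctor U).mapCone c))) := by
  let p₁ (s : Cone ((D ⋙ sqFunctor U) ⋙ Over.forget S)) : Cone (D ⋙ Over.forget U.left) :=
    { pt := s.pt
      π :=
        { app := fun j => s.π.app j ≫ (sqFst (D.obj j)).left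
          naturality := fun j k g => by
            have e := congrArg (fun m => m.left) (sqFst_naturality (D.map g))
            simp only [Over.comp_left] at e
            show 𝟙 s.pt ≫ s.π.app k ≫ _ = (s.π.app j ≫ _) ≫ (D.map g).left
            rw [Category.id_comp, ← s.w g, Category.assoc, Category.assoc]
            exact congrArg (s.π.app j ≫ ·) e } }
  let p₂ (s : Cone ((D ⋙ sqFunctor U) ⋙ Over.forget S)) : Cone (D ⋙ Over.forget U.left) :=
    { pt := s.pt
      π :=
        { app := fun j => s.π.app j ≫ (sqSnd (D.obj j)).left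
          naturality := fun j k g => by
            have e := congrArg (fun m => m.left) (sqSnd_naturality (D.map g))
            simp only [Over.comp_left] at e
            show 𝟙 s.pt ≫ s.π.app k ≫ _ = (s.π.app j ≫ _) ≫ (D.map g).left
            rw [Category.id_comp, ← s.w g, Category.assoc, Category.assoc]
            exact congrArg (s.π.app j ≫ ·) e } }
  obtain ⟨i⟩ := (IsCofiltered.nonempty : Nonempty I)
  have hw : ∀ s, hc.lift (p₁ s) ≫ c.pt.hom = hc.lift (p₂ s) ≫ c.pt.hom := fun s => by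
    have h₁ : hc.lift (p₁ s) ≫ (c.π.app i).left = (p₁ s).π.app i := hc.fac (p₁ s) i
    have h₂ : hc.lift (p₂ s) ≫ (c.π.app i).left = (p₂ s).π.app i := hc.fac (p₂ s) i
    have hpt : (c.π.app i).left ≫ (D.obj i).hom = c.pt.hom := Over.w (c.π.app i)
    rw [← hpt, reassoc_of% h₁, reassoc_of% h₂]
    show (s.π.app i ≫ pullback.fst _ _) ≫ (D.obj i).hom = (s.π.app i ≫ pullback.snd _ _) ≫ (D.obj i).hom
    rw [Category.assoc, Category.assoc, pullback.condition]
  have h₁' : ∀ j, ((sqFunctor U).map (c.π.app j)).left ≫ pullback.fst _ _ =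
      pullback.fst c.pt.hom c.pt.hom ≫ (c.π.app j).left := fun j => pullback.lift_fst _ _ _
  have h₂' : ∀ j, ((sqFunctor U).map (c.π.app j)).left ≫ pullback.snd _ _ =
      pullback.snd c.pt.hom c.pt.hom ≫ (c.π.app j).left := fun j => pullback.lift_snd _ _ _
  refine ⟨⟨fun s => pullback.lift (hc.lift (p₁ s)) (hc.lift (p₂ s)) (hw s), fun s j => ?_, fun s m hm => ?_⟩⟩
  · show pullback.lift (hc.lift (p₁ s)) (hc.lift (p₂ s)) (hw s) ≫ ((sqFunctor U).map (c.π.app j)).left = s.π.app j
    apply pullback.hom_ext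
    · rw [Category.assoc, h₁', pullback.lift_fst_assoc]
      exact hc.fac (p₁ s) j
    · rw [Category.assoc, h₂', pullback.lift_snd_assoc]
      exact hc.fac (p₂ s) j
  · apply pullback.hom_ext
    · rw [pullback.lift_fst]
      refine hc.uniq (p₁ s) _ fun j => ?_
      show (m ≫ pullback.fst c.pt.hom c.pt.hom) ≫ (c.π.app j).left = s.π.app j ≫ pullback.fst _ _
      rw [Category.assoc, ← h₁', ← hm j, Category.assoc]
      rfl
    · rw [pullback.lift_snd]
      refine hc.uniq (p₂ s) _ fun j => ?_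
      show (m ≫ pullback.snd c.pt.hom c.pt.hom) ≫ (c.π.app j).left = s.π.app j ≫ pullback.snd _ _
      rw [Category.assoc, ← h₂', ← hm j, Category.assoc]
      rfl

end Square

section Singleton

variable {U V : Over S} [IsAffine U.left] [IsAffine V.left] (f : V ⟶ U)

theorem existsUnique_of_standardV (h1 : IsHSheafOver S F) (h2 : LimitPres F)
    (hf : IsStandardV (PreZeroHypercover.singleton.{w'} f.left)) :
    (∀ a b : F.obj (op U), F.map f.op a = F.map f.op b → a = b) ∧
    ∀ z : F.obj (op V),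
      (∀ (Z : Over S) (p q : Z ⟶ V), p ≫ f = q ≫ f → F.map p.op z = F.map q.op z) →
        ∃ y, F.map f.op y = z := by
  obtain ⟨I, _, _, D, c, hc, e, hA, hfp⟩ := exists_fp_system f.left
  haveI : IsConnected I := IsCofiltered.isConnected I
  haveI := hA
  have hV : ∀ i, IsStandardV (PreZeroHypercover.singleton.{w'} (D.obj i).hom) := by
    refine (isStandardV_singleton_isLimit_iff D c hc).1 ?_
    refine ⟨inferInstance, inferInstanceAs (Finite PUnit), fun _ => ?_, fun W _ _ g => ?_⟩
    · haveI : IsAffine ((Over.forget U.left).obj (Over.mk f.left)) := inferInstanceAs (IsAffine V.left)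
      exact IsAffine.of_isIso ((Over.forget _).mapIso e).hom
    · obtain ⟨W', hW, hW', φ, hφ, j, l, hl⟩ := hf.lift W g
      refine ⟨W', hW, hW', φ, hφ, PUnit.unit, (show Spec W' ⟶ V.left from l) ≫ e.inv.left, ?_⟩
      change (_ ≫ e.inv.left) ≫ c.pt.hom = _
      rw [Category.assoc, Over.w e.inv]
      exact hl
  let M : Over U.left ⥤ Over S := Over.map U.hom
  let π₀ : ∀ i, M.obj (D.obj i) ⟶ U := fun i => Over.homMk (D.obj i).hom rfl
  have hπ₀ : ∀ i, IsHCover (⟨PUnit.{1}, fun _ => (M.obj (D.obj i)).left, fun _ => (π₀ i).left⟩ :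
      PreZeroHypercover.{0} U.left) := fun i => by
    refine ⟨fun _ => hfp i, ?_⟩
    refine isVCover_of_standardV ⟨inferInstance, inferInstanceAs (Finite PUnit), fun _ => hA i, fun W _ _ g => ?_⟩
    obtain ⟨W', hW, hW', φ, hφ, j, l, hl⟩ := (hV i).lift W g
    exact ⟨W', hW, hW', φ, hφ, PUnit.unit, l, hl⟩
  have hsep : ∀ i (a b : F.obj (op U)), F.map (π₀ i).op a = F.map (π₀ i).op b → a = b := fun i a b h => by
    refine (existsUnique_of_hSheaf h1 (fun _ : PUnit.{1} => M.obj (D.obj i)) (fun _ => π₀ i) (hπ₀ i)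
      (fun _ => F.map (π₀ i).op a) ?_).unique (fun _ => rfl) fun _ => h.symm
    intro _ _ Z p q hpq
    rw [← map_comp_apply', ← map_comp_apply', hpq]
  let cS : Cone (D ⋙ M) := M.mapCone c
  obtain ⟨hcol⟩ := h2 I (D ⋙ M) (fun i => hA i) cS hc
  let eV : cS.pt ≅ V := Over.isoMk ((Over.forget _).mapIso e) (by
    show e.hom.left ≫ V.hom = c.pt.hom ≫ U.hom
    rw [← Over.w e.hom, Category.assoc]
    exact congrArg (e.hom.left ≫ ·) (Over.w f).symm)
  have hleg : ∀ i, cS.π.app i ≫ π₀ i = eV.hom ≫ f := fun i => Over.OverMorphism.ext (by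
    show (c.π.app i).left ≫ (D.obj i).hom = e.hom.left ≫ f.left
    rw [Over.w]
    exact (Over.w e.hom).symm)
  have hinj : ∀ x y : F.obj (op V), F.map eV.hom.op x = F.map eV.hom.op y → x = y := fun x y h => by
    have := congrArg (F.map eV.inv.op) h
    rwa [← map_comp_apply', ← map_comp_apply', Iso.inv_hom_id, op_id, F.map_id] at this
  refine ⟨fun a b h => ?_, fun z hz => ?_⟩
  · obtain ⟨i⟩ := (IsCofiltered.nonempty : Nonempty I)
    have h' : (F.mapCocone cS.op).ι.app (op i) (F.map (π₀ i).op a) =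
        (F.mapCocone cS.op).ι.app (op i) (F.map (π₀ i).op b) := by
      show F.map (cS.π.app i).op (F.map (π₀ i).op a) = F.map (cS.π.app i).op (F.map (π₀ i).op b)
      exact (map_comp_apply' _ _ _).symm.trans ((by rw [hleg, map_comp_apply', map_comp_apply', h] :
        F.map (cS.π.app i ≫ π₀ i).op a = F.map (cS.π.app i ≫ π₀ i).op b).trans (map_comp_apply' _ _ _))
    obtain ⟨⟨j⟩, g, hg⟩ := (Types.FilteredColimit.isColimit_eq_iff' hcol _ _).1 h'
    refine hsep j a b ?_
    have hj : M.map (D.map g.unop) ≫ π₀ i = π₀ j := Over.OverMorphism.ext (Over.w (D.map g.unop))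
    rw [← hj, map_comp_apply', map_comp_apply']
    exact hg
  · obtain ⟨⟨i⟩, z₁, hz₁⟩ := Types.jointly_surjective_of_isColimit hcol (F.map eV.hom.op z)
    obtain ⟨z₀, hz₀'⟩ : ∃ z₀ : F.obj (op (M.obj (D.obj i))),
        F.map (cS.π.app i).op z₀ = F.map eV.hom.op z := ⟨z₁, hz₁⟩
    let P : I ⥤ Over S := D ⋙ sqFunctor U
    let cP : Cone P := (sqFunctor U).mapCone c
    obtain ⟨hcP⟩ := nonempty_isLimit_sq (S := S) (U := U) c hc
    obtain ⟨hcolP⟩ := h2 I P (fun j => inferInstanceAs (IsAffine (pullback (D.obj j).hom (D.obj j).hom))) cP hcP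
    let a : ∀ j, P.obj j ⟶ M.obj (D.obj j) := fun j => sqFst (D.obj j)
    let b : ∀ j, P.obj j ⟶ M.obj (D.obj j) := fun j => sqSnd (D.obj j)
    let a' : cP.pt ⟶ cS.pt := sqFst c.pt
    let b' : cP.pt ⟶ cS.pt := sqSnd c.pt
    have ha : ∀ j, cP.π.app j ≫ a j = a' ≫ cS.π.app j := fun j => sqFst_naturality (c.π.app j)
    have hb : ∀ j, cP.π.app j ≫ b j = b' ≫ cS.π.app j := fun j => sqSnd_naturality (c.π.app j)
    have h' : (F.mapCocone cP.op).ι.app (op i) (F.map (a i).op z₀) =
        (F.mapCocone cP.op).ι.app (op i) (F.map (b i).op z₀) := by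
      show F.map (cP.π.app i).op _ = F.map (cP.π.app i).op _
      rw [← map_comp_apply', ← map_comp_apply', ha, hb, map_comp_apply', map_comp_apply']
      erw [hz₀']
      rw [        ← map_comp_apply', ← map_comp_apply']
      refine hz _ _ _ (Over.OverMorphism.ext ?_)
      show (pullback.fst _ _ ≫ e.hom.left) ≫ f.left = (pullback.snd _ _ ≫ e.hom.left) ≫ f.left
      have he : e.hom.left ≫ f.left = c.pt.hom := Over.w e.hom
      rw [Category.assoc, Category.assoc, he, pullback.condition]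
    obtain ⟨⟨j⟩, g, hg⟩ := (Types.FilteredColimit.isColimit_eq_iff' hcolP _ _).1 h'
    have hg' : F.map (a j).op (F.map (M.map (D.map g.unop)).op z₀) =
        F.map (b j).op (F.map (M.map (D.map g.unop)).op z₀) := by
      rw [← map_comp_apply', ← map_comp_apply',
        show a j ≫ M.map (D.map g.unop) = P.map g.unop ≫ a i from (sqFst_naturality _).symm,
        show b j ≫ M.map (D.map g.unop) = P.map g.unop ≫ b i from (sqSnd_naturality _).symm, map_comp_apply', map_comp_apply']
      exact hg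
    obtain ⟨y, hy, -⟩ := existsUnique_of_hSheaf h1 (fun _ : PUnit.{1} => M.obj (D.obj j)) (fun _ => π₀ j) (hπ₀ j)
      (fun _ => F.map (M.map (D.map g.unop)).op z₀) fun _ _ Z p q hpq => by
        let l : Z ⟶ P.obj j := Over.homMk (pullback.lift p.left q.left (congrArg (fun m => m.left) hpq)) (by
          show pullback.lift _ _ _ ≫ pullback.fst _ _ ≫ _ = _
          rw [pullback.lift_fst_assoc]
          exact Over.w p)
        have hp : l ≫ a j = p := Over.OverMorphism.ext (pullback.lift_fst _ _ _)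
        have hq : l ≫ b j = q := Over.OverMorphism.ext (pullback.lift_snd _ _ _)
        rw [← hp, ← hq, map_comp_apply', map_comp_apply', hg']
    refine ⟨y, hinj _ _ ?_⟩
    rw [← map_comp_apply', ← hleg j, map_comp_apply']
    erw [hy PUnit.unit]
    erw [← map_comp_apply']
    rw [
      show cS.π.app j ≫ M.map (D.map g.unop) = cS.π.app i from cS.w g.unop]; exact hz₀'

end Singleton

section General

variable (h1 : IsHSheafOver S F) (h2 : LimitPres F)
include h1 h2

/-- A standard V covering of an affine scheme over the base, as one morphism from the coproduct. -/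
theorem standardV_glue {U : Over S} [IsAffine U.left] (G : PreZeroHypercover.{0} U.left) (hG : IsStandardV G) :
    (∀ a b : F.obj (op U), (∀ j, F.map (Over.homMk (G.f j) rfl : Over.mk (G.f j ≫ U.hom) ⟶ U).op a =
        F.map (Over.homMk (G.f j) rfl : Over.mk (G.f j ≫ U.hom) ⟶ U).op b) → a = b) ∧
    ∀ z : ∀ j, F.obj (op (Over.mk (G.f j ≫ U.hom))),
      Presieve.Arrows.Compatible F (fun j => (Over.homMk (G.f j) rfl : Over.mk (G.f j ≫ U.hom) ⟶ U)) z →
        ∃ y, ∀ j, F.map (Over.homMk (G.f j) rfl : Over.mk (G.f j ≫ U.hom) ⟶ U).op y = z j := by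
  haveI := hG.finite_index
  haveI := hG.isAffine_obj
  let V : Over S := Over.mk (Sigma.desc G.f ≫ U.hom)
  haveI : IsAffine V.left := inferInstanceAs (IsAffine (∐ G.X))
  let f : V ⟶ U := Over.homMk (Sigma.desc G.f) rfl
  let γ : ∀ j, (Over.mk (G.f j ≫ U.hom) : Over S) ⟶ V := fun j => Over.homMk (Sigma.ι G.X j) (by
    show Sigma.ι G.X j ≫ Sigma.desc G.f ≫ U.hom = G.f j ≫ U.hom
    rw [Sigma.ι_desc_assoc])
  have hγ : ∀ j, γ j ≫ f = Over.homMk (G.f j) rfl := fun j => Over.OverMorphism.ext (Sigma.ι_desc _ _)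
  have ho : ∀ j, IsOpenImmersion (γ j).left := fun j => inferInstanceAs (IsOpenImmersion (Sigma.ι G.X j))
  have hc : ∀ t : V.left, ∃ j, t ∈ Set.range (γ j).left := fun t => (sigmaOpenCover G.X).exists_eq t
  have hf : IsStandardV (PreZeroHypercover.singleton.{0} f.left) := by
    refine ⟨inferInstance, inferInstanceAs (Finite PUnit), fun _ => inferInstanceAs (IsAffine (∐ G.X)),
      fun W _ _ g => ?_⟩
    obtain ⟨W', hW, hW', φ, hφ, j, l, hl⟩ := hG.lift W g
    refine ⟨W', hW, hW', φ, hφ, PUnit.unit, l ≫ Sigma.ι G.X j, ?_⟩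
    change (l ≫ Sigma.ι G.X j) ≫ Sigma.desc G.f = _
    rw [Category.assoc, Sigma.ι_desc, hl]
  obtain ⟨hsep, hglue⟩ := existsUnique_of_standardV f h1 h2 hf
  refine ⟨fun a b h => hsep a b (eq_of_open h1 _ γ ho hc fun j => ?_), fun z hz => ?_⟩
  · rw [← map_comp_apply', ← map_comp_apply', hγ]
    exact h j
  · obtain ⟨v, hv, -⟩ := existsUnique_of_open h1 _ γ ho hc z fun i j Z p q e =>
      hz i j Z p q (by dsimp only; rw [← hγ, ← hγ, reassoc_of% e])
    obtain ⟨y, hy⟩ := hglue v fun Z p q e => by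
      let N : G.I₀ × G.I₀ → Z.left.Opens := fun k =>
        p.left ⁻¹ᵁ (γ k.1).left.opensRange ⊓ q.left ⁻¹ᵁ (γ k.2).left.opensRange
      let ν : ∀ k, (Over.mk ((N k).ι ≫ Z.hom) : Over S) ⟶ Z := fun k => Over.homMk (N k).ι rfl
      refine eq_of_open h1 _ ν (fun k => inferInstanceAs (IsOpenImmersion (N k).ι)) (fun t => ?_) fun k => ?_
      · obtain ⟨i, hi⟩ := hc (p.left t)
        obtain ⟨j, hj⟩ := hc (q.left t)
        exact ⟨(i, j), ⟨t, hi, hj⟩, rfl⟩
      · haveI := ho k.1
        haveI := ho k.2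
        have hr₁ : Set.range ((N k).ι ≫ p.left) ⊆ Set.range (γ k.1).left := by
          rintro _ ⟨t, rfl⟩
          exact t.2.1
        have hr₂ : Set.range ((N k).ι ≫ q.left) ⊆ Set.range (γ k.2).left := by
          rintro _ ⟨t, rfl⟩
          exact t.2.2
        let p' : (Over.mk ((N k).ι ≫ Z.hom) : Over S) ⟶ Over.mk (G.f k.1 ≫ U.hom) :=
          Over.homMk (IsOpenImmersion.lift (γ k.1).left _ hr₁) (by
            rw [← Over.w (γ k.1), IsOpenImmersion.lift_fac_assoc, Category.assoc, Over.w p]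
            rfl)
        let q' : (Over.mk ((N k).ι ≫ Z.hom) : Over S) ⟶ Over.mk (G.f k.2 ≫ U.hom) :=
          Over.homMk (IsOpenImmersion.lift (γ k.2).left _ hr₂) (by
            rw [← Over.w (γ k.2), IsOpenImmersion.lift_fac_assoc, Category.assoc, Over.w q]
            rfl)
        have hp' : p' ≫ γ k.1 = ν k ≫ p := Over.OverMorphism.ext (IsOpenImmersion.lift_fac _ _ hr₁)
        have hq' : q' ≫ γ k.2 = ν k ≫ q := Over.OverMorphism.ext (IsOpenImmersion.lift_fac _ _ hr₂)
        rw [← map_comp_apply', ← map_comp_apply', ← hp', ← hq', map_comp_apply', map_comp_apply', hv, hv]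
        refine hz _ _ _ _ _ ?_
        dsimp only
        rw [← hγ, ← hγ, reassoc_of% hp', reassoc_of% hq', e]
    exact ⟨y, fun j => by rw [← hγ, map_comp_apply', hy, hv]⟩

omit h1 h2 in
/-- The inclusions of the affine opens. -/
def affIncl (X : Over S) (U : X.left.affineOpens) : Over.mk (U.1.ι ≫ X.hom) ⟶ X := Over.homMk U.1.ι rfl

/-- Separatedness for a V covering. -/
theorem eq_of_vCover {X : Over S} {ι : Type w'} (Y : ι → Over S) (π : ∀ i, Y i ⟶ X)
    (hπ : IsVCover (⟨ι, fun i => (Y i).left, fun i => (π i).left⟩ : PreZeroHypercover.{w'} X.left))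
    {a b : F.obj (op X)} (h : ∀ i, F.map (π i).op a = F.map (π i).op b) : a = b := by
  refine eq_of_open h1 _ (affIncl X) (fun U => inferInstanceAs (IsOpenImmersion U.1.ι)) (fun t => ?_) fun U => ?_
  · obtain ⟨U, hU, ht, -⟩ := exists_isAffineOpen_mem_and_subset (U := ⊤) (x := t) trivial
    exact ⟨⟨U, hU⟩, ⟨t, ht⟩, rfl⟩
  · haveI : IsAffine (U.1 : Scheme) := U.2
    haveI : IsAffine (Over.mk (U.1.ι ≫ X.hom) : Over S).left := U.2
    obtain ⟨G, hG, hr⟩ := hπ U
    refine (standardV_glue h1 h2 (U := Over.mk (U.1.ι ≫ X.hom)) G hG).1 _ _ fun j => ?_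
    obtain ⟨i, k, hk⟩ := hr j
    let k' : (Over.mk (G.f j ≫ U.1.ι ≫ X.hom) : Over S) ⟶ Y i := Over.homMk k (by
      show k ≫ (Y i).hom = G.f j ≫ U.1.ι ≫ X.hom
      rw [← Over.w (π i), ← Category.assoc, hk, Category.assoc])
    have e : Over.homMk (G.f j) rfl ≫ affIncl X U = k' ≫ π i := Over.OverMorphism.ext hk.symm
    rw [← map_comp_apply', ← map_comp_apply', e, map_comp_apply', map_comp_apply', h i]

/-- A limit preserving h sheaf is a V sheaf. -/
theorem existsUnique_of_vCover {X : Over S} {ι : Type w'} (Y : ι → Over S) (π : ∀ i, Y i ⟶ X)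
    (hπ : IsVCover (⟨ι, fun i => (Y i).left, fun i => (π i).left⟩ : PreZeroHypercover.{w'} X.left))
    (x : ∀ i, F.obj (op (Y i))) (hx : Presieve.Arrows.Compatible F π x) :
    ∃! t, ∀ i, F.map (π i).op t = x i := by
  suffices h : ∃ t, ∀ i, F.map (π i).op t = x i by
    obtain ⟨t, ht⟩ := h
    exact ⟨t, ht, fun t' ht' => eq_of_vCover h1 h2 Y π hπ fun i => (ht' i).trans (ht i).symm⟩
  have hloc : ∀ U : X.left.affineOpens, ∃ y : F.obj (op (Over.mk (U.1.ι ≫ X.hom))),
      ∀ (Z : Over S) (t : Z ⟶ Over.mk (U.1.ι ≫ X.hom)) (i : ι) (l : Z ⟶ Y i),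
        l ≫ π i = t ≫ affIncl X U → F.map t.op y = F.map l.op (x i) := fun U => by
    haveI : IsAffine (U.1 : Scheme) := U.2
    haveI : IsAffine (Over.mk (U.1.ι ≫ X.hom) : Over S).left := U.2
    obtain ⟨G, hG, hr⟩ := hπ U
    choose i k hk using hr
    let k' : ∀ j, (Over.mk (G.f j ≫ U.1.ι ≫ X.hom) : Over S) ⟶ Y (i j) := fun j => Over.homMk (k j) (by
      show k j ≫ (Y (i j)).hom = G.f j ≫ U.1.ι ≫ X.hom
      rw [← Over.w (π (i j)), ← Category.assoc, hk, Category.assoc])
    let g : ∀ j, (Over.mk (G.f j ≫ U.1.ι ≫ X.hom) : Over S) ⟶ Over.mk (U.1.ι ≫ X.hom) :=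
      fun j => Over.homMk (G.f j) rfl
    have e : ∀ j, k' j ≫ π (i j) = g j ≫ affIncl X U := fun j => Over.OverMorphism.ext (hk j)
    obtain ⟨y, hy⟩ := (standardV_glue h1 h2 (U := Over.mk (U.1.ι ≫ X.hom)) G hG).2
      (fun j => F.map (k' j).op (x (i j))) fun a b Z p q hpq => by
        refine ((map_comp_apply' p (k' a) _).symm.trans ?_).trans (map_comp_apply' q (k' b) _)
        refine hx _ _ _ _ _ ?_
        refine ((Category.assoc _ _ _).trans ((congrArg (p ≫ ·) (e a)).trans ?_)).trans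
          ((Category.assoc _ _ _).trans (congrArg (q ≫ ·) (e b))).symm
        exact (Category.assoc _ _ _).symm.trans ((congrArg (· ≫ affIncl X U) hpq).trans (Category.assoc _ _ _))
    refine ⟨y, fun Z t i' l hl => ?_⟩
    let Q : G.I₀ → Over S := fun j => Over.mk (pullback.fst t.left (G.f j) ≫ Z.hom)
    let ρ : ∀ j, Q j ⟶ Z := fun j => Over.homMk (pullback.fst _ _) rfl
    let σ : ∀ j, Q j ⟶ Over.mk (G.f j ≫ U.1.ι ≫ X.hom) := fun j => Over.homMk (pullback.snd _ _) (by
      show pullback.snd _ _ ≫ G.f j ≫ U.1.ι ≫ X.hom = pullback.fst _ _ ≫ Z.hom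
      rw [← Over.w t]
      exact (pullback.condition_assoc _).symm)
    have hσ : ∀ j, σ j ≫ g j = ρ j ≫ t := fun j => Over.OverMorphism.ext pullback.condition.symm
    refine eq_of_vCover h1 h2 Q ρ
      (isVCover_pullback₁ t.left G (isVCover_of_standardV hG)) fun j => ?_
    rw [← map_comp_apply', ← map_comp_apply', ← hσ, map_comp_apply']
    erw [hy]
    refine (map_comp_apply' (σ j) (k' j) _).symm.trans ?_
    refine hx _ _ _ _ _ ?_
    rw [Category.assoc, Category.assoc, e, hl, reassoc_of% (hσ j)]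
  choose y hy using hloc
  obtain ⟨t, ht, -⟩ := existsUnique_of_open h1 _ (affIncl X) (fun U => inferInstanceAs (IsOpenImmersion U.1.ι))
    (fun t => by
      obtain ⟨U, hU, ht, -⟩ := exists_isAffineOpen_mem_and_subset (U := ⊤) (x := t) trivial
      exact ⟨⟨U, hU⟩, ⟨t, ht⟩, rfl⟩) y fun U U' Z p q hpq => by
    let Q : ι → Over S := fun i => Over.mk (pullback.fst (p ≫ affIncl X U).left (π i).left ≫ Z.hom)
    let ρ : ∀ i, Q i ⟶ Z := fun i => Over.homMk (pullback.fst _ _) rfl
    let σ : ∀ i, Q i ⟶ Y i := fun i => Over.homMk (pullback.snd _ _) (by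
      show pullback.snd _ _ ≫ (Y i).hom = pullback.fst _ _ ≫ Z.hom
      rw [← Over.w (p ≫ affIncl X U), pullback.condition_assoc, Over.w (π i)])
    have hσ : ∀ i, σ i ≫ π i = ρ i ≫ p ≫ affIncl X U := fun i => Over.OverMorphism.ext pullback.condition.symm
    refine eq_of_vCover h1 h2 Q ρ (isVCover_pullback₁ (p ≫ affIncl X U).left _ hπ) fun i => ?_
    rw [← map_comp_apply', ← map_comp_apply', hy U _ _ i (σ i) (by rw [hσ, Category.assoc]),
      hy U' _ _ i (σ i) (by rw [hσ, hpq, Category.assoc])]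
  refine ⟨t, fun i => ?_⟩
  let N : X.left.affineOpens → (Y i).left.Opens := fun U => (π i).left ⁻¹ᵁ U.1
  let ν : ∀ U, (Over.mk ((N U).ι ≫ (Y i).hom) : Over S) ⟶ Y i := fun U => Over.homMk (N U).ι rfl
  refine eq_of_open h1 _ ν (fun U => inferInstanceAs (IsOpenImmersion (N U).ι)) (fun z => ?_) fun U => ?_
  · obtain ⟨U, hU, hz, -⟩ := exists_isAffineOpen_mem_and_subset (U := ⊤) (x := (π i).left z) trivial
    exact ⟨⟨U, hU⟩, ⟨z, hz⟩, rfl⟩
  · let p : (Over.mk ((N U).ι ≫ (Y i).hom) : Over S) ⟶ Over.mk (U.1.ι ≫ X.hom) :=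
      Over.homMk ((π i).left ∣_ U.1) (by
        show ((π i).left ∣_ U.1) ≫ U.1.ι ≫ X.hom = (N U).ι ≫ (Y i).hom
        rw [morphismRestrict_ι_assoc, Over.w (π i)])
    have hp : ν U ≫ π i = p ≫ affIncl X U := Over.OverMorphism.ext (morphismRestrict_ι _ _).symm
    rw [← map_comp_apply', hp, map_comp_apply', ht, hy U _ p i (ν U) hp]

end General

theorem isVSheafOver (F : (Over S)ᵒᵖ ⥤ Type w) (h1 : IsHSheafOver S F) (h2 : LimitPres F) :
    IsVSheafOver S F := by
  intro X R hR
  have e : R = Presieve.ofArrows (fun g : Σ Y : Over S, {g : Y ⟶ X // R g} => g.1) fun g => g.2.1 :=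
    le_antisymm (fun Y g hg => Presieve.ofArrows.mk (⟨Y, g, hg⟩ : Σ Y : Over S, {g : Y ⟶ X // R g}))
      fun Y g h => by
        obtain ⟨g⟩ := h
        exact g.2.2
  rw [e] at hR ⊢
  rw [Presieve.isSheafFor_arrows_iff]
  intro x hx
  refine existsUnique_of_vCover h1 h2 _ _ ((presieve₀_mem_vPrecoverage_iff _).1 ?_) x hx
  rw [Presieve.map_ofArrows] at hR
  exact hR

end Groth.Agent.HTopCov
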