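import Groth.Agent.HTopCov.ValPh
import Groth.Agent.HTopCov.LimVSheaf
import Groth.Agent.HTopCov.Sheaf
import Mathlib.AlgebraicGeometry.Sites.BigZariski

/-!
A presheaf over a base is an h sheaf iff it is a Zariski sheaf and has descent along proper
surjective finitely presented morphisms onto affines.
-/

set_option backward.isDefEq.respectTransparency false
set_option backward.isDefEq.respectTransparency.types false
set_option linter.style.haveILetI false

universe w w' u

namespace Groth.Agent.HTopCov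

open CategoryTheory CategoryTheory.Limits AlgebraicGeometry HTop Opposite

variable {S : Scheme.{u}}

theorem map_comp_app {F : (Over S)ᵒᵖ ⥤ Type w} {A B C : Over S} (f : A ⟶ B) (g : B ⟶ C) (x : F.obj (op C)) :
    F.map (f ≫ g).op x = F.map f.op (F.map g.op x) := by
  rw [op_comp]
  simp

/-- The inclusion of an open subscheme, over the base. -/
def opensIncl (X : Over S) (U : X.left.Opens) : Over.mk (U.ι ≫ X.hom) ⟶ X := Over.homMk U.ι rfl

theorem opens_mem_zariski_over (X : Over S) {ι : Type u} (U : ι → X.left.Opens) (hU : ⨆ i, U i = ⊤) :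
    Sieve.ofArrows _ (fun i => opensIncl X (U i)) ∈ Scheme.zariskiTopology.over S X := by
  rw [GrothendieckTopology.mem_over_iff, Sieve.overEquiv_ofArrows]
  exact (X.left.openCoverOfIsOpenCover U hU).mem_grothendieckTopology

theorem existsUnique_of_zariski {F : (Over S)ᵒᵖ ⥤ Type w} (hF : Presieve.IsSheaf (Scheme.zariskiTopology.over S) F)
    (X : Over S) {ι : Type u} (U : ι → X.left.Opens) (hU : ⨆ i, U i = ⊤)
    (x : ∀ i, F.obj (op (Over.mk ((U i).ι ≫ X.hom))))
    (hx : Presieve.Arrows.Compatible F (fun i => opensIncl X (U i)) x) :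
    ∃! t, ∀ i, F.map (opensIncl X (U i)).op t = x i :=
  (Presieve.isSheafFor_arrows_iff F _).1
    ((Presieve.isSheafFor_iff_generate _).2 (hF _ (opens_mem_zariski_over X U hU))) x hx

theorem eq_of_zariski {F : (Over S)ᵒᵖ ⥤ Type w} (hF : Presieve.IsSheaf (Scheme.zariskiTopology.over S) F)
    (X : Over S) {ι : Type u} (U : ι → X.left.Opens) (hU : ⨆ i, U i = ⊤) {a b : F.obj (op X)}
    (h : ∀ i, F.map (opensIncl X (U i)).op a = F.map (opensIncl X (U i)).op b) : a = b := by
  refine (existsUnique_of_zariski hF X U hU (fun i => F.map (opensIncl X (U i)).op a) ?_).unique (fun i => rfl)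
    fun i => (h i).symm
  intro i j Z gi gj e
  rw [← map_comp_app, ← map_comp_app, e]

/-- The affine open inclusions, over the base. -/
abbrev affHom (X : Over S) (U : X.left.affineOpens) : Over.mk (U.1.ι ≫ X.hom) ⟶ X := opensIncl X U.1

/-- For a Zariski sheaf, the sheaf property for a sieve may be checked over affines. -/
theorem isSheafFor_of_affine {F : (Over S)ᵒᵖ ⥤ Type w} (hF : Presieve.IsSheaf (Scheme.zariskiTopology.over S) F)
    {X : Over S} (Q : Sieve X)
    (h : ∀ (A : Over S) [IsAffine A.left] (a : A ⟶ X), Presieve.IsSheafFor F (Q.pullback a).arrows) :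
    Presieve.IsSheafFor F Q.arrows := by
  intro x hx
  have haff : ∀ (Y : Over S) (U : Y.left.affineOpens), IsAffine (Over.mk (U.1.ι ≫ Y.hom)).left := fun Y U => U.2
  have hloc : ∀ U : X.left.affineOpens, ∃ t : F.obj (op (Over.mk (U.1.ι ≫ X.hom))), ∀ (W : Over S)
      (k : W ⟶ _) (hk : Q (k ≫ affHom X U)), F.map k.op t = x _ hk := fun U => by
    haveI := haff X U
    obtain ⟨t, ht, -⟩ := h _ (affHom X U) (fun W k hk => x (k ≫ affHom X U) hk)
      (fun Y₁ Y₂ Z g₁ g₂ f₁ f₂ h₁ h₂ e => hx g₁ g₂ _ _ (by rw [← Category.assoc, e, Category.assoc]))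
    exact ⟨t, fun W k hk => ht k hk⟩
  choose t ht using hloc
  have hc : Presieve.Arrows.Compatible F (fun U => affHom X U) t := by
    intro i j W gi gj e
    refine eq_of_zariski hF W (fun C : W.left.affineOpens => C.1) (iSup_affineOpens_eq_top W.left) fun C => ?_
    haveI := haff W C
    rw [← map_comp_app, ← map_comp_app]
    refine (h _ (affHom W C ≫ gi ≫ affHom X i)).isSeparatedFor.ext fun V k hk => ?_
    rw [← map_comp_app, ← map_comp_app]
    have hk' : Q (k ≫ affHom W C ≫ gi ≫ affHom X i) := hk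
    have hi : Q ((k ≫ affHom W C ≫ gi) ≫ affHom X i) := by simpa only [Category.assoc] using hk'
    have hj : Q ((k ≫ affHom W C ≫ gj) ≫ affHom X j) := by
      simpa only [Category.assoc, ← e] using hk'
    rw [ht i V _ hi, ht j V _ hj]
    exact congr_arg_family x (by simp only [Category.assoc, e]) hi hj
  obtain ⟨s, hs, hsu⟩ := existsUnique_of_zariski hF X (fun U : X.left.affineOpens => U.1) (iSup_affineOpens_eq_top X.left) t hc
  refine ⟨s, fun W k hk => ?_, fun s' hs' => ?_⟩
  · refine eq_of_zariski hF W (fun U : X.left.affineOpens => k.left ⁻¹ᵁ U.1) ?_ fun U => ?_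
    · refine top_le_iff.1 fun w _ => ?_
      obtain ⟨U, hU⟩ := TopologicalSpace.Opens.mem_iSup.1 (show k.left w ∈ ⨆ U : X.left.affineOpens, U.1 by
        rw [iSup_affineOpens_eq_top]; trivial)
      exact TopologicalSpace.Opens.mem_iSup.2 ⟨U, hU⟩
    let d : Over.mk ((k.left ⁻¹ᵁ U.1).ι ≫ W.hom) ⟶ Over.mk (U.1.ι ≫ X.hom) :=
      Over.homMk (k.left ∣_ U.1) (by
        show (k.left ∣_ U.1) ≫ U.1.ι ≫ X.hom = _
        rw [morphismRestrict_ι_assoc, Over.w]
        rfl)
    have e : opensIncl W (k.left ⁻¹ᵁ U.1) ≫ k = d ≫ affHom X U := Over.OverMorphism.ext (morphismRestrict_ι _ _).symm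
    have hd : Q (d ≫ affHom X U) := e ▸ Q.downward_closed hk _
    rw [← map_comp_app, e, map_comp_app, hs U, ht U _ d hd,
      hx (opensIncl W (k.left ⁻¹ᵁ U.1)) (𝟙 _) hk hd (by rw [Category.id_comp, e]), op_id]
    simp
  · refine eq_of_zariski hF X (fun U : X.left.affineOpens => U.1) (iSup_affineOpens_eq_top X.left) fun U => ?_
    haveI := haff X U
    refine (h _ (affHom X U)).isSeparatedFor.ext fun V k hk => ?_
    rw [hs U, ← map_comp_app, hs' _ hk, ht U V k hk]
where
  congr_arg_family {F : (Over S)ᵒᵖ ⥤ Type w} {X V : Over S} {Q : Presieve X} (x : Presieve.FamilyOfElements F Q)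
      {k k' : V ⟶ X} (e : k = k') (h : Q k) (h' : Q k') : x k h = x k' h' := by
    subst e
    rfl

/-- The topology on schemes whose restriction over `S` makes `F` a sheaf. -/
def finOver (F : (Over S)ᵒᵖ ⥤ Type w) : GrothendieckTopology Scheme.{u} where
  sieves T := {R | ∀ (A : Over S) (f : A.left ⟶ T),
    (Sieve.overEquiv A).symm (R.pullback f) ∈ Sheaf.finestTopologySingle F A}
  top_mem' T A f := by
    rw [Sieve.pullback_top, map_top]
    exact GrothendieckTopology.top_mem _ _
  pullback_stable' T T' R f hR A g := by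
    rw [← Sieve.pullback_comp]
    exact hR A (g ≫ f)
  transitive' T R hR R' hR' A f := by
    refine GrothendieckTopology.transitive _ (hR A f) _ fun B h hh => ?_
    rw [← Sieve.overEquiv_symm_pullback, ← Sieve.pullback_comp]
    have := hR' hh B (𝟙 B.left)
    exact (Sieve.pullback_id (S := R'.pullback (h.left ≫ f)) ▸ this :)

theorem over_le_finest {F : (Over S)ᵒᵖ ⥤ Type w} {K : GrothendieckTopology Scheme.{u}} (hK : K ≤ finOver F) :
    K.over S ≤ Sheaf.finestTopologySingle F := fun X R hR => by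
  rw [GrothendieckTopology.mem_over_iff] at hR
  have := hK _ hR X (𝟙 _)
  rwa [Sieve.pullback_id, OrderIso.symm_apply_apply] at this

theorem le_finOver {F : (Over S)ᵒᵖ ⥤ Type w} {K : GrothendieckTopology Scheme.{u}}
    (hK : Presieve.IsSheaf (K.over S) F) : K ≤ finOver F := fun T R hR A f Y g => by
  refine hK _ ((K.over S).pullback_stable g ?_)
  rw [GrothendieckTopology.mem_over_iff, OrderIso.apply_symm_apply]
  exact K.pullback_stable f hR

theorem mem_finOver_of_affine {F : (Over S)ᵒᵖ ⥤ Type w} (hF : Presieve.IsSheaf (Scheme.zariskiTopology.over S) F)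
    {T : Scheme.{u}} (R : Sieve T)
    (h : ∀ (A : Over S) [IsAffine A.left] (f : A.left ⟶ T),
      Presieve.IsSheafFor F ((Sieve.overEquiv A).symm (R.pullback f)).arrows) :
    R ∈ finOver F T := fun A f Y g => isSheafFor_of_affine hF _ fun B _ b => by
  rw [← Sieve.pullback_comp, ← Sieve.overEquiv_symm_pullback, ← Sieve.pullback_comp]
  exact h B _

theorem singleton_mem_finOver {F : (Over S)ᵒᵖ ⥤ Type w} (hF : Presieve.IsSheaf (Scheme.zariskiTopology.over S) F)
    (hP : ∀ (U V : Over S) (f : V ⟶ U), IsAffine U.left → IsProper f.left → Surjective f.left →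
      LocallyOfFinitePresentation f.left → Presieve.IsSheafFor F (Presieve.singleton f))
    {T Z : Scheme.{u}} (π : Z ⟶ T) [IsProper π] [Surjective π] [LocallyOfFinitePresentation π] :
    (PreZeroHypercover.singleton.{0} π).sieve₀ ∈ finOver F T := by
  refine mem_finOver_of_affine hF _ fun A hA f => ?_
  haveI : LocallyOfFinitePresentation (pullback.fst f π) := MorphismProperty.pullback_fst _ _ ‹_›
  let V : Over S := Over.mk (pullback.fst f π ≫ A.hom)
  let v : V ⟶ A := Over.homMk (pullback.fst f π) rfl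
  have := (Presieve.isSheafFor_iff_generate _).1
    (hP A V v hA (inferInstanceAs (IsProper (pullback.fst f π))) (inferInstanceAs (Surjective (pullback.fst f π)))
      (inferInstanceAs (LocallyOfFinitePresentation (pullback.fst f π))))
  convert this using 2
  rw [← sieve₀_pullback₁, OrderIso.symm_apply_eq]
  rw [← Presieve.ofArrows_pUnit.{0} v]
  exact (Sieve.overEquiv_ofArrows (fun _ : PUnit.{1} => V) fun _ => v).symm

theorem isSheaf_Jh_iff (F : (Over S)ᵒᵖ ⥤ Type w) :
    Presieve.IsSheaf (HTop.Jh S) F ↔ (Presieve.IsSheaf (Scheme.zariskiTopology.over S) F ∧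
      ∀ (U V : Over S) (f : V ⟶ U), IsAffine U.left → IsProper f.left → Surjective f.left →
        LocallyOfFinitePresentation f.left → Presieve.IsSheafFor F (Presieve.singleton f)) := by
  constructor
  · intro h
    refine ⟨fun X R hR => h R ?_, fun U V f _ hp hs hfp => ?_⟩
    · rw [GrothendieckTopology.mem_over_iff] at hR ⊢
      refine (Precoverage.toGrothendieck_le_iff_le_toPrecoverage.2 fun T P hP => ?_ :
        Scheme.zariskiTopology ≤ hTopology) _ hR
      obtain ⟨E, hE, rfl⟩ : ∃ E : PreZeroHypercover.{u + 1} T, ((∀ t : T, ∃ i, t ∈ Set.range (E.f i)) ∧ ∀ i, IsOpenImmersion (E.f i)) ∧ P = E.presieve₀ := by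
        obtain ⟨ι, X, f, rfl⟩ := Presieve.exists_eq_ofArrows P
        exact ⟨⟨ι, X, f⟩, ((Scheme.ofArrows_mem_precoverage_iff _).1 hP), rfl⟩
      rw [GrothendieckTopology.mem_toPrecoverage_iff]
      exact Precoverage.generate_mem_toGrothendieck
        ((presieve₀_mem_hPrecoverage_iff E).2 (isHCover_of_isOpenImmersion E hE.2 hE.1))
    · rw [Presieve.isSheafFor_iff_generate]
      refine h _ ?_
      rw [GrothendieckTopology.mem_over_iff, ← Presieve.ofArrows_pUnit.{0} f]
      change Sieve.overEquiv U (Sieve.ofArrows (fun _ : PUnit.{1} => V) fun _ => f) ∈ _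
      rw [Sieve.overEquiv_ofArrows]
      refine Precoverage.generate_mem_toGrothendieck (R := (PreZeroHypercover.singleton.{0} f.left).presieve₀) ?_
      exact (presieve₀_mem_hPrecoverage_iff _).2 ⟨fun _ => hfp, isVCover_of_proper f.left⟩
  · rintro ⟨hz, hP⟩ X R hR
    have hle : hTopology ≤ finOver F := Precoverage.toGrothendieck_le_iff_le_toPrecoverage.2 fun T P hPm => by
      obtain ⟨E, hE, rfl⟩ := PreZeroHypercoverFamily.mem_precoverage_iff.mp hPm
      rw [GrothendieckTopology.mem_toPrecoverage_iff]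
      change E.sieve₀ ∈ _
      have hzK := le_finOver hz
      let C := T.openCoverOfIsOpenCover (fun U : T.affineOpens => U.1) (iSup_affineOpens_eq_top T)
      refine (finOver F).transitive (hzK _ C.mem_grothendieckTopology) _ ?_
      rintro W _ ⟨_, a, _, ⟨U⟩, rfl⟩
      rw [Sieve.pullback_comp]
      refine (finOver F).pullback_stable a ?_
      haveI : IsAffine (U.1 : Scheme) := U.2
      obtain ⟨ι, _, Z, g, hg, hgs, hloc⟩ := exists_proper_fp_refining U.1.ι E hE.1 hE.2
      haveI : IsProper (Limits.Sigma.desc g) := isProper_sigmaDesc g fun k => (hg k).1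
      haveI : Surjective (Limits.Sigma.desc g) :=
        Surjective.sigmaDesc_of_union_range_eq_univ (Set.eq_univ_of_forall fun x => by
          obtain ⟨k, z, hz⟩ := hgs x
          exact Set.mem_iUnion.2 ⟨k, z, hz⟩)
      haveI : LocallyOfFinitePresentation (Limits.Sigma.desc g) :=
        IsZariskiLocalAtSource.sigmaDesc fun k => (hg k).2
      refine (finOver F).transitive (singleton_mem_finOver hz hP (Limits.Sigma.desc g)) _ ?_
      rintro W' _ ⟨_, b, _, ⟨⟨⟩⟩, rfl⟩
      rw [Sieve.pullback_comp]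
      refine (finOver F).pullback_stable b ?_
      choose O hzO i l hl using hloc
      let D : (∐ Z : Scheme.{u}).OpenCover := .mkOfCovers (Σ k, Z k) (fun p => (O p.1 p.2).toScheme)
        (fun p => (O p.1 p.2).ι ≫ Limits.Sigma.ι Z p.1)
        (fun y => by
          obtain ⟨k, z, rfl⟩ := (sigmaOpenCover Z).exists_eq y
          exact ⟨⟨k, z⟩, ⟨z, hzO k z⟩, rfl⟩)
        (fun p => inferInstance)
      refine (finOver F).superset_covering ((Sieve.generate_le_iff _ _).mpr <| Presieve.ofArrows_le_iff.mpr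
        fun p => ?_) (hzK _ D.mem_grothendieckTopology)
      refine ⟨_, l p.1 p.2, E.f (i p.1 p.2), ⟨_⟩, ?_⟩
      change l p.1 p.2 ≫ E.f _ = (((O p.1 p.2).ι ≫ Limits.Sigma.ι Z p.1) ≫ Limits.Sigma.desc g) ≫ U.1.ι
      rw [Category.assoc (O p.1 p.2).ι, Limits.Sigma.ι_desc, hl, Category.assoc]
    exact isSheafFor_of_fin (over_le_finest hle _ hR)
where
  isSheafFor_of_fin {F : (Over S)ᵒᵖ ⥤ Type w} {X : Over S} {R : Sieve X}
      (h : R ∈ Sheaf.finestTopologySingle F X) : Presieve.IsSheafFor F R.arrows := by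
    simpa using h X (𝟙 X)

end Groth.Agent.HTopCov
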