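import Groth.Agent.HTopCov.ValPh
import Groth.Agent.HTopCov.FPSys
import Groth.Agent.ConsPropLib.CoreProper
import Groth.Agent.Approx.Over
import Groth.Agent.S1297
import Groth.Agent.S14771
import Groth.Prelude.Def_SGA1

/-!
Being locally of finite type descends along universally submersive morphisms of Noetherian schemes.
-/

set_option backward.isDefEq.respectTransparency false
set_option backward.isDefEq.respectTransparency.types false
set_option linter.style.haveILetI false

universe u

namespace Groth.Agent.HTopCov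

open CategoryTheory CategoryTheory.Limits AlgebraicGeometry HTop Groth.Agent.ConsPropLib Groth.Agent.MorLib

/-- A variant of the Artin–Tate lemma. -/
theorem finiteType_of_comp_finite {R A C : Type u} [CommRing R] [CommRing A] [CommRing C] [IsNoetherianRing R]
    [IsNoetherianRing A] (φ : R →+* A) (ψ : A →+* C) (h : (ψ.comp φ).Finite) (hK : RingHom.ker ψ ≤ nilradical A) :
    φ.FiniteType := by
  classical
  letI := φ.toAlgebra
  letI := (ψ.comp φ).toAlgebra
  haveI : Module.Finite R C := h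
  let L : A →ₐ[R] C := { ψ with commutes' := fun _ => rfl }
  haveI : IsNoetherian R C := isNoetherian_of_isNoetherianRing_of_finite R C
  obtain ⟨T, hT⟩ := IsNoetherian.noetherian (LinearMap.range L.toLinearMap)
  have hpre : ∀ t ∈ T, ∃ a, ψ a = t := fun t ht => hT.le (Submodule.subset_span ht)
  choose pre hpre using hpre
  let K := RingHom.ker ψ
  obtain ⟨Kg, hKg⟩ := IsNoetherian.noetherian K
  let Q : Subalgebra R A := Algebra.adjoin R ((T.attach.image fun t => pre t.1 t.2) ∪ Kg : Finset A)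
  have h0 : ∀ a, ∃ c ∈ Q, a - c ∈ K := fun a => by
    have : ψ a ∈ Submodule.span R (T : Set C) := hT.symm.le ⟨a, rfl⟩
    have key : Submodule.span R (T : Set C) ≤ (Subalgebra.toSubmodule Q).map L.toLinearMap := Submodule.span_le.2
      fun t ht => ⟨pre t ht, Algebra.subset_adjoin (Finset.mem_union_left _
        (Finset.mem_image.2 ⟨⟨t, ht⟩, Finset.mem_attach _ _, rfl⟩)), hpre t ht⟩
    obtain ⟨c, hc, hca⟩ := key this
    exact ⟨c, hc, by rw [RingHom.mem_ker, map_sub, sub_eq_zero]; exact hca.symm⟩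
  have h1 : ∀ k ∈ K, ∃ c ∈ Q, k - c ∈ K ^ 2 := fun k hk => by
    rw [← hKg] at hk
    induction hk using Submodule.span_induction with
    | mem x hx => exact ⟨x, Algebra.subset_adjoin (Finset.mem_union_right _ hx), by simp⟩
    | zero => exact ⟨0, Q.zero_mem, by simp⟩
    | add x y _ _ hx hy =>
      obtain ⟨c, hc, hc'⟩ := hx
      obtain ⟨d, hd, hd'⟩ := hy
      exact ⟨c + d, Q.add_mem hc hd, by rw [add_sub_add_comm]; exact add_mem hc' hd'⟩
    | smul r x hxs hx =>
      obtain ⟨c, hc, hc'⟩ := hx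
      obtain ⟨d, hd, hd'⟩ := h0 r
      have hcK : c ∈ K := by
        have := sub_mem (hKg.le hxs) (Ideal.pow_le_self two_ne_zero hc')
        rwa [sub_sub_cancel] at this
      refine ⟨d * c, Q.mul_mem hd hc, ?_⟩
      rw [smul_eq_mul, show r * x - d * c = r * (x - c) + (r - d) * c by ring, pow_two]
      exact add_mem (Ideal.mul_mem_left _ _ (pow_two K ▸ hc')) (Ideal.mul_mem_mul hd' hcK)
  have hs : ∀ m, ∀ x ∈ K ^ m, ∃ c ∈ Q, x - c ∈ K ^ (m + 1) := by
    intro m
    induction m with
    | zero => intro x _; simpa using h0 x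
    | succ m ih =>
      intro x hx
      rw [pow_succ] at hx
      refine Submodule.mul_induction_on hx (fun y hy k hk => ?_) fun y z hy hz => ?_
      · obtain ⟨c, hc, hc'⟩ := ih y hy
        obtain ⟨d, hd, hd'⟩ := h1 k hk
        refine ⟨c * d, Q.mul_mem hc hd, ?_⟩
        have hcm : c ∈ K ^ m := by
          have := sub_mem hy (Ideal.pow_le_pow_right (Nat.le_succ m) hc')
          rwa [sub_sub_cancel] at this
        rw [show y * k - c * d = (y - c) * k + c * (k - d) by ring]
        refine add_mem (by rw [pow_succ]; exact Ideal.mul_mem_mul hc' hk) ?_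
        rw [show m + 1 + 1 = m + 2 from rfl, pow_add]
        exact Ideal.mul_mem_mul hcm hd'
      · obtain ⟨c, hc, hc'⟩ := hy
        obtain ⟨d, hd, hd'⟩ := hz
        exact ⟨c + d, Q.add_mem hc hd, by rw [add_sub_add_comm]; exact add_mem hc' hd'⟩
  have hall : ∀ m, ∀ x, ∃ c ∈ Q, x - c ∈ K ^ m := by
    intro m
    induction m with
    | zero => exact fun x => ⟨0, Q.zero_mem, by simp⟩
    | succ m ih =>
      intro x
      obtain ⟨c, hc, hc'⟩ := ih x
      obtain ⟨d, hd, hd'⟩ := hs m _ hc'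
      exact ⟨c + d, Q.add_mem hc hd, by rwa [← sub_sub]⟩
  obtain ⟨N, hN⟩ := Ideal.exists_pow_le_of_le_radical_of_fg (hK : K ≤ (⊥ : Ideal A).radical) ⟨Kg, hKg⟩
  refine ⟨⟨(T.attach.image fun t => pre t.1 t.2) ∪ Kg, top_le_iff.1 fun x _ => ?_⟩⟩
  obtain ⟨c, hc, hc'⟩ := hall N x
  rw [show x = c from sub_eq_zero.1 (by simpa using hN hc')]
  exact hc

theorem noeth_open {X Y : Scheme.{u}} [IsNoetherian Y] (f : X ⟶ Y) [IsOpenImmersion f] : IsNoetherian X :=
  { toIsLocallyNoetherian := isLocallyNoetherian_of_isOpenImmersion f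
    toCompactSpace := isCompact_univ_iff.1 (f.isOpenEmbedding.isInducing.isCompact_iff.2 (TopologicalSpace.NoetherianSpace.isCompact _)) }

/-- The case of a proper surjective morphism between affine bases. -/
theorem lft_of_proper_surjective {Z X Y : Scheme.{u}} [IsAffine X] [IsAffine Y] [IsNoetherian X] [IsNoetherian Y]
    (π : Z ⟶ X) [IsProper π] [Surjective π] (g : X ⟶ Y) [LocallyOfFiniteType (π ≫ g)] : LocallyOfFiniteType g := by
  obtain ⟨I, _, _, D, c, hc, e, hDa, hDfp⟩ := exists_fp_system g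
  let E := D ⋙ Over.forget Y
  haveI : ∀ j, IsAffine (E.obj j) := hDa
  haveI : ∀ {i j : I} (f : i ⟶ j), IsAffineHom (E.map f) := fun f => isAffineHom_of_isAffine _
  let cc := (Over.forget Y).mapCone c
  let e' : cc.pt ≅ X := (Over.forget Y).mapIso e
  have he : e'.hom ≫ g = c.pt.hom := Over.w e.hom
  let π' : Z ⟶ cc.pt := π ≫ e'.inv
  haveI : IsProper π' := inferInstanceAs (IsProper (π ≫ e'.inv))
  haveI : Surjective π' := inferInstanceAs (Surjective (π ≫ e'.inv))
  haveI : IsNoetherian cc.pt := noeth_open e'.hom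
  haveI : LocallyOfFinitePresentation π' := inferInstance
  obtain ⟨k, Z₀, f₀, gz, hm⟩ := hasModel hc π'
  haveI := hm.compactSpace
  haveI := hm.quasiSeparatedSpace
  obtain ⟨j, φ, hj⟩ := core_isProper I E cc hc (fun _ _ _ => inferInstance) k inferInstance f₀
    inferInstance inferInstance hm.lfp (Desc.of_two @IsProper hm.sq (IsPullback.of_hasPullback _ _) ‹_›)
  obtain ⟨Z₁, f₁, gz₁, hm₁, hp₁⟩ : ∃ (Z₁ : Scheme.{u}) (f₁ : Z₁ ⟶ E.obj j) (gz₁ : Z ⟶ Z₁),
      IsModel π' j f₁ gz₁ ∧ IsProper f₁ := ⟨_, _, _, hm.pushed φ, hj⟩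
  haveI := hm₁.compactSpace
  haveI := hm₁.quasiSeparatedSpace
  have hstage : ∀ i, cc.π.app i ≫ (D.obj i).hom = e'.hom ≫ g := fun i => (Over.w (c.π.app i)).trans he.symm
  have hlft : ∀ (W : Scheme.{u}) (a : Z ⟶ W) (b : W ⟶ Y), a ≫ b = π ≫ g → LocallyOfFiniteType a := fun W a b hab => by
    haveI : LocallyOfFiniteType (a ≫ b) := hab ▸ ‹_›
    exact locallyOfFiniteType_of_comp a b
  let o₀ : Over j := Over.mk (𝟙 j)
  haveI : LocallyOfFiniteType ((BC.cone E f₁ hm₁.sq).π.app o₀) := by
    refine hlft _ _ (pullback.snd f₁ (E.map o₀.hom) ≫ (D.obj j).hom) ?_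
    show BC.proj E f₁ hm₁.sq o₀ ≫ _ = _
    rw [BC.proj_snd_assoc]
    refine (congrArg (π' ≫ ·) (hstage j)).trans ?_
    simp [π']
  obtain ⟨o, -, ho⟩ := Groth.Agent.Approx.exists_closedImmersion_stage (BC.isLimitCone E f₁ hm₁.sq hc) o₀
  haveI : IsClosedImmersion (BC.proj E f₁ hm₁.sq o) := ho o (𝟙 o)
  haveI : IsProper (pullback.snd f₁ (E.map o.hom)) := MorphismProperty.pullback_snd _ _ hp₁
  let q := π' ≫ cc.π.app o.left
  haveI : IsProper q := by
    show IsProper (π' ≫ cc.π.app o.left)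
    rw [← BC.proj_snd E f₁ hm₁.sq o]
    infer_instance
  haveI : LocallyOfFiniteType (D.obj o.left).hom := haveI := hDfp o.left; inferInstance
  haveI : IsNoetherian (E.obj o.left) :=
    { toIsLocallyNoetherian := LocallyOfFiniteType.isLocallyNoetherian (D.obj o.left).hom }
  haveI : IsNoetherianRing Γ(E.obj o.left, ⊤) := IsLocallyNoetherian.component_noetherian ⟨⊤, isAffineOpen_top _⟩
  haveI : IsNoetherianRing Γ(cc.pt, ⊤) := by
    haveI : IsAffine cc.pt := IsAffine.of_isIso e'.hom
    exact IsLocallyNoetherian.component_noetherian ⟨⊤, isAffineOpen_top _⟩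
  haveI : IsAffine cc.pt := IsAffine.of_isIso e'.hom
  have hfin : q.appTop.hom.Finite := by
    have h1 := Groth.Agent.S1297.finite_appTop (q ≫ (E.obj o.left).isoSpec.hom)
    rw [Scheme.Hom.comp_appTop, CommRingCat.hom_comp] at h1
    have h2 := RingHom.Finite.of_comp_finite h1
    exact h2
  have hft : (cc.π.app o.left).appTop.hom.FiniteType := by
    refine @finiteType_of_comp_finite Γ(E.obj o.left, ⊤) Γ(cc.pt, ⊤) _ _ _ _ ‹_› ‹_› _ π'.appTop.hom ?_ fun a ha => ?_
    · rw [← CommRingCat.hom_comp, ← Scheme.Hom.comp_appTop]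
      exact hfin
    · have h0 : cc.pt.basicOpen a = ⊥ := eq_bot_iff.2 fun x hx => by
        obtain ⟨z, rfl⟩ := π'.surjective x
        have : z ∈ π' ⁻¹ᵁ cc.pt.basicOpen a := hx
        rw [Scheme.preimage_basicOpen_top, RingHom.mem_ker.1 ha, Scheme.basicOpen_zero] at this
        exact this.elim
      refine (PrimeSpectrum.basicOpen_eq_bot_iff a).1 (eq_bot_iff.2 fun p hp => ?_)
      obtain ⟨y, rfl⟩ := cc.pt.toSpecΓ.surjective p
      have : y ∈ cc.pt.toSpecΓ ⁻¹ᵁ PrimeSpectrum.basicOpen a := hp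
      rw [Scheme.toSpecΓ_preimage_basicOpen, h0] at this
      exact this.elim
  haveI : LocallyOfFiniteType (cc.π.app o.left) :=
    (@HasRingHomProperty.iff_of_isAffine @LocallyOfFiniteType _ _ _ _ _ ‹IsAffine cc.pt› _).2 hft
  rw [show g = e'.inv ≫ cc.π.app o.left ≫ (D.obj o.left).hom by rw [hstage, Iso.inv_hom_id_assoc]]
  infer_instance

theorem univSubmersive_comp {X Y Z : Scheme.{u}} {a : X ⟶ Y} {b : Y ⟶ Z} (ha : SGA1.UnivSubmersive a)
    (hb : SGA1.UnivSubmersive b) : SGA1.UnivSubmersive (a ≫ b) := by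
  intro X' Z' i₁ i₂ f' sq
  let Y' := pullback b i₂
  let a' : X' ⟶ Y' := pullback.lift (i₁ ≫ a) f' (by rw [Category.assoc]; exact sq.w.symm)
  have hsq : IsPullback a' i₁ (pullback.fst b i₂) a := by
    refine (IsPullback.of_bot ?_ (pullback.lift_fst _ _ _).symm (IsPullback.of_hasPullback b i₂)).flip
    rw [pullback.lift_snd]
    exact sq.flip
  have h1 : Topology.IsQuotientMap a' := ha _ _ _ hsq
  have h2 : Topology.IsQuotientMap (pullback.snd b i₂) := hb _ _ _ (IsPullback.of_hasPullback b i₂).flip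
  rw [← pullback.lift_snd (i₁ ≫ a) f' (by rw [Category.assoc]; exact sq.w.symm)]
  exact h2.comp h1

theorem univSubmersive_of_openCover {X Y : Scheme.{u}} (f : X ⟶ Y) [UniversallyOpen f] [Surjective f] :
    SGA1.UnivSubmersive f := by
  intro X' Y' i₁ i₂ f' sq
  haveI : UniversallyOpen f' := MorphismProperty.of_isPullback sq.flip ‹UniversallyOpen f›
  haveI : Surjective f' := MorphismProperty.of_isPullback sq.flip ‹Surjective f›
  exact (Scheme.Hom.isOpenMap f').isQuotientMap f'.continuous f'.surjective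

theorem lft_of_univSubmersive {X' X Y : Scheme.{u}} [IsNoetherian X'] [IsNoetherian X] [IsNoetherian Y]
    (f : X' ⟶ X) (hf : SGA1.UnivSubmersive f) (g : X ⟶ Y) [LocallyOfFiniteType (f ≫ g)] :
    LocallyOfFiniteType g := by
  refine IsZariskiLocalAtTarget.of_iSup_eq_top (P := @LocallyOfFiniteType) (fun V : Y.affineOpens => V.1)
    (iSup_affineOpens_eq_top Y) fun V => ?_
  haveI : IsAffine (V.1 : Scheme.{u}) := V.2
  refine IsZariskiLocalAtSource.of_iSup_eq_top (P := @LocallyOfFiniteType)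
    (fun U : (g ⁻¹ᵁ V.1).toScheme.affineOpens => U.1) (iSup_affineOpens_eq_top _) fun U => ?_
  haveI : IsAffine (U.1 : Scheme.{u}) := U.2
  let j : U.1.toScheme ⟶ X := U.1.ι ≫ (g ⁻¹ᵁ V.1).ι
  let g' : U.1.toScheme ⟶ V.1.toScheme := U.1.ι ≫ (g ∣_ V.1)
  haveI : IsNoetherian (U.1.toScheme) := noeth_open j
  haveI : IsNoetherian (V.1.toScheme) := noeth_open V.1.ι
  let P := pullback f j
  haveI : IsNoetherian P := noeth_open (pullback.fst f j)
  let C := P.affineCover.finiteSubcover
  let w := Limits.Sigma.desc C.f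
  haveI : UniversallyOpen w := IsZariskiLocalAtSource.sigmaDesc fun i => inferInstance
  haveI : Surjective w := Surjective.sigmaDesc_of_union_range_eq_univ C.iUnion_range
  haveI : ∀ i, IsAffine (C.X i) := fun i => inferInstanceAs (IsAffine (P.affineCover.X _))
  haveI : IsAffine (∐ C.X) := inferInstance
  let q : (∐ C.X) ⟶ U.1.toScheme := w ≫ pullback.snd f j
  have hq : SGA1.UnivSubmersive q := univSubmersive_comp (univSubmersive_of_openCover w)
    (fun _ _ _ _ _ sq => hf _ _ _ (sq.paste_vert (IsPullback.of_hasPullback f j).flip))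
  haveI : LocallyOfFiniteType w := IsZariskiLocalAtSource.sigmaDesc fun i => inferInstance
  haveI : LocallyOfFiniteType (q ≫ g') := by
    have e : (q ≫ g') ≫ V.1.ι = w ≫ pullback.fst f j ≫ f ≫ g := by
      simp only [q, g', Category.assoc, morphismRestrict_ι]
      rw [reassoc_of% (pullback.condition (f := f) (g := j))]
      simp [j]
    haveI : LocallyOfFiniteType ((q ≫ g') ≫ V.1.ι) := by rw [e]; infer_instance
    exact locallyOfFiniteType_of_comp _ V.1.ι
  haveI : LocallyOfFiniteType q := locallyOfFiniteType_of_comp q g'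
  haveI : IsNoetherian (∐ C.X) :=
    { toIsLocallyNoetherian := LocallyOfFiniteType.isLocallyNoetherian q }
  haveI : LocallyOfFinitePresentation q := inferInstance
  haveI : QuasiCompact q := inferInstance
  have hV : IsVCover (PreZeroHypercover.singleton.{0} q) := isVCover_of_hasValLift q
    ((hasValLift_iff_specializes q).2 fun W γ z' z hz => by
      have hsub : Subtr.UnivSSubtrusive q := ((Groth.Agent.S14771.result q).out 0 1 rfl rfl).1 hq
      obtain ⟨x, x', h1, h2, h3⟩ := hsub _ _ _ (IsPullback.of_hasPullback γ q) hz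
      exact ⟨x', x, h1, h3, h2⟩)
  obtain ⟨Z, π, n, O, hπ, hπs, hπfp, -, hO, hl⟩ :=
    exists_proper_fp_affineCover (PreZeroHypercover.singleton.{0} q) (fun _ => ‹LocallyOfFinitePresentation q›) hV
  haveI := hπ
  haveI := hπs
  haveI : LocallyOfFiniteType (π ≫ g') := by
    refine IsZariskiLocalAtSource.of_iSup_eq_top (P := @LocallyOfFiniteType) O hO fun i => ?_
    obtain ⟨a, l, hl⟩ := hl i
    let l' : (O i).toScheme ⟶ ∐ C.X := l
    have hl' : l' ≫ q = (O i).ι ≫ π := hl
    haveI : LocallyOfFiniteType (l' ≫ q) := by rw [hl']; infer_instance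
    haveI : LocallyOfFiniteType l' := locallyOfFiniteType_of_comp l' q
    rw [← Category.assoc, ← hl', Category.assoc]
    infer_instance
  exact lft_of_proper_surjective π g'

end Groth.Agent.HTopCov
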