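import Groth.Agent.HTopCov.Spec
import Mathlib.AlgebraicGeometry.AffineTransitionLimit
import Mathlib.CategoryTheory.Filtered.Connected
import Mathlib.AlgebraicGeometry.Limits

/-!
Standard V coverings and cofiltered limits of affine schemes.
-/

set_option backward.isDefEq.respectTransparency false
set_option backward.isDefEq.respectTransparency.types false
set_option linter.style.haveILetI false

universe w u

namespace Groth.Agent.HTopCov

open CategoryTheory CategoryTheory.Limits AlgebraicGeometry IsLocalRing HTop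

/-- No nonzero element of `V` kills an element congruent to `1` modulo the maximal ideal. -/
def LiftCond (V : CommRingCat.{u}) [IsLocalRing V] {R : CommRingCat.{u}} (φ : V ⟶ R) : Prop :=
  ∀ s : V, s ≠ 0 → ∀ x ∈ (maximalIdeal V).map φ.hom, φ s * (1 - x) ≠ 0

theorem liftCond_of_extVal {V W R : CommRingCat.{u}} [IsDomain V] [ValuationRing V] [IsDomain W]
    [ValuationRing W] {φ : V ⟶ R} {ψ : V ⟶ W} (hψ : IsExtVal V W ψ) (χ : R ⟶ W) (h : φ ≫ χ = ψ) :
    LiftCond V φ := by
  intro s hs x hx h0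
  have hφ : ∀ a, χ (φ a) = ψ a := fun a => by rw [← h]; rfl
  have e := congrArg χ h0
  rw [map_mul, map_sub, map_one, map_zero, mul_eq_zero, hφ, sub_eq_zero] at e
  rcases e with e | e
  · exact hs (hψ.1 (e.trans (map_zero ψ.hom).symm))
  · haveI := hψ.2
    have hm : χ x ∈ maximalIdeal W := by
      have hle : ((maximalIdeal V).map φ.hom).map χ.hom ≤ maximalIdeal W := by
        rw [Ideal.map_map, Ideal.map_le_iff_le_comap]
        intro a ha
        show χ (φ a) ∈ maximalIdeal W
        rw [hφ]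
        exact map_nonunit ψ.hom a ha
      exact hle (Ideal.mem_map_of_mem _ hx)
    rw [← e] at hm
    exact hm isUnit_one

theorem exists_primes_of_liftCond {V R : CommRingCat.{u}} [IsDomain V] [ValuationRing V]
    {φ : V ⟶ R} (h : LiftCond V φ) :
    ∃ q p : PrimeSpectrum R, q ⤳ p ∧ Spec.map φ q = (⊥ : PrimeSpectrum V) ∧
      Spec.map φ p = closedPoint V := by
  let J : Ideal R :=
    { carrier := {r | ∃ s : V, s ≠ 0 ∧ φ s * r = 0}
      add_mem' := by
        rintro a b ⟨s, hs, ha⟩ ⟨t, ht, hb⟩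
        refine ⟨s * t, mul_ne_zero hs ht, ?_⟩
        rw [map_mul, mul_add, mul_right_comm, ha, zero_mul, zero_add, mul_assoc, hb, mul_zero]
      zero_mem' := ⟨1, one_ne_zero, mul_zero _⟩
      smul_mem' := by
        rintro c a ⟨s, hs, ha⟩
        exact ⟨s, hs, by rw [smul_eq_mul, mul_left_comm, ha, mul_zero]⟩ }
  have hne : J ⊔ (maximalIdeal V).map φ.hom ≠ ⊤ := fun he => by
    obtain ⟨a, ⟨s, hs, ha⟩, x, hx, hax⟩ := Submodule.mem_sup.1 ((Ideal.eq_top_iff_one _).1 he)
    refine h s hs x hx ?_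
    rw [← hax, add_sub_cancel_right, ha]
  obtain ⟨p, hp, hle⟩ := Ideal.exists_le_maximal _ hne
  haveI := hp.isPrime
  let S : Submonoid R := ((nonZeroDivisors V).map φ.hom.toMonoidHom) ⊔ p.primeCompl
  have hS : Disjoint ((⊥ : Ideal R) : Set R) (S : Set R) := by
    rw [Set.disjoint_left]
    intro r hr hrS
    obtain rfl : r = 0 := hr
    obtain ⟨_, ⟨s, hs, rfl⟩, t, ht, hst⟩ := Submonoid.mem_sup.1 hrS
    exact ht (hle (Ideal.mem_sup_left ⟨s, nonZeroDivisors.ne_zero hs, hst⟩))
  obtain ⟨q, hq, -, hqd⟩ := Ideal.exists_le_prime_disjoint _ _ hS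
  refine ⟨⟨q, hq⟩, ⟨p, inferInstance⟩, ?_, PrimeSpectrum.ext ?_, PrimeSpectrum.ext ?_⟩
  · refine (PrimeSpectrum.le_iff_specializes _ _).1 fun r hr => ?_
    by_contra hrp
    exact Set.disjoint_left.1 hqd hr (Submonoid.mem_sup_right hrp)
  · show q.comap φ.hom = ⊥
    refine eq_bot_iff.2 fun s hs => ?_
    by_contra hs0
    exact Set.disjoint_left.1 hqd hs
      (Submonoid.mem_sup_left ⟨s, mem_nonZeroDivisors_of_ne_zero hs0, rfl⟩)
  · show p.comap φ.hom = maximalIdeal V
    exact ((maximalIdeal.isMaximal V).eq_of_le (Ideal.comap_ne_top _ hp.ne_top)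
      (Ideal.map_le_iff_le_comap.1 (le_sup_right.trans hle))).symm

/-- The ring map of a morphism to the spectrum of `V`. -/
noncomputable def toΓ {V : CommRingCat.{u}} {P : Scheme.{u}} (π : P ⟶ Spec V) : V ⟶ Γ(P, ⊤) :=
  (Scheme.ΓSpecIso V).inv ≫ π.appTop

theorem liftCond_of_lift {V W : CommRingCat.{u}} [IsDomain V] [ValuationRing V] [IsDomain W]
    [ValuationRing W] {P : Scheme.{u}} (π : P ⟶ Spec V) (ψ : V ⟶ W) (hψ : IsExtVal V W ψ)
    (l : Spec W ⟶ P) (hl : l ≫ π = Spec.map ψ) : LiftCond V (toΓ π) := by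
  refine liftCond_of_extVal hψ (l.appTop ≫ (Scheme.ΓSpecIso W).hom) ?_
  rw [toΓ, Category.assoc, ← Category.assoc π.appTop, ← Scheme.Hom.comp_appTop, hl,
    Scheme.ΓSpecIso_naturality, Iso.inv_hom_id_assoc]

theorem exists_lift_of_liftCond {V : CommRingCat.{u}} [IsDomain V] [ValuationRing V]
    {P : Scheme.{u}} [IsAffine P] (π : P ⟶ Spec V) (h : LiftCond V (toΓ π)) :
    ∃ (W : CommRingCat.{u}) (_ : IsDomain W) (_ : ValuationRing W) (φ : V ⟶ W) (l : Spec W ⟶ P),
      IsExtVal V W φ ∧ l ≫ π = Spec.map φ := by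
  obtain ⟨q, p, hqp, hq, hp⟩ := exists_primes_of_liftCond h
  obtain ⟨W, hW, hW', φ, l, hφ, hl, -⟩ := exists_ext_of_points (Spec.map (toΓ π)) hqp hq hp
  refine ⟨W, hW, hW', φ, l ≫ P.isoSpec.inv, hφ, ?_⟩
  rw [← hl, Category.assoc]
  congr 1
  rw [Iso.inv_comp_eq, toΓ, Spec.map_comp, ← Category.assoc, Scheme.isoSpec_hom_naturality,
    Category.assoc]
  simp [Scheme.isoSpec]

section Limit

variable {I : Type u} [SmallCategory I] [IsCofiltered I] {V : CommRingCat.{u}} [IsDomain V]
  [ValuationRing V] (D : I ⥤ Over (Spec V)) [∀ i, IsAffine (D.obj i).left] (c : Cone D)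
  (hc : IsLimit ((Over.forget (Spec V)).mapCone c))

include hc in
theorem liftCond_of_isLimit (h : ∀ i, LiftCond V (toΓ (D.obj i).hom)) :
    LiftCond V (toΓ c.pt.hom) := by
  let F : I ⥤ Scheme.{u} := D ⋙ Over.forget _
  haveI : ∀ i, IsAffine (F.obj i) := fun i => inferInstanceAs (IsAffine (D.obj i).left)
  let π : ∀ i, c.pt.left ⟶ F.obj i := fun i => (c.π.app i).left
  let t : ∀ i, V ⟶ Γ(F.obj i, ⊤) := fun i => toΓ (D.obj i).hom
  have et : ∀ i, t i ≫ (π i).appTop = toΓ c.pt.hom := fun i => by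
    show toΓ (D.obj i).hom ≫ ((c.π.app i).left).appTop = _
    rw [toΓ, Category.assoc, ← Scheme.Hom.comp_appTop, Over.w]
    rfl
  have eF : ∀ {i j} (f : j ⟶ i), t i ≫ (F.map f).appTop = t j := fun {i j} f => by
    show toΓ (D.obj i).hom ≫ ((D.map f).left).appTop = _
    rw [toΓ, Category.assoc, ← Scheme.Hom.comp_appTop, Over.w]
    rfl
  have hw : ∀ {i j} (f : j ⟶ i) (z : Γ(F.obj i, ⊤)),
      (π j).appTop ((F.map f).appTop z) = (π i).appTop z := fun {i j} f z => by
    rw [← ConcreteCategory.comp_apply, ← Scheme.Hom.comp_appTop]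
    have e : π j ≫ F.map f = π i := ((Over.forget _).mapCone c).w f
    rw [e]
  have hm : ∀ {i j} (f : j ⟶ i) {z : Γ(F.obj i, ⊤)}, z ∈ (maximalIdeal V).map (t i).hom →
      (F.map f).appTop z ∈ (maximalIdeal V).map (t j).hom := fun {i j} f {z} hz => by
    have := Ideal.mem_map_of_mem (F.map f).appTop.hom hz
    rwa [Ideal.map_map, ← CommRingCat.hom_comp, eF] at this
  intro s hs x hx h0
  have key : ∀ y ∈ (maximalIdeal V).map (toΓ c.pt.hom).hom, ∃ (i : I) (z : Γ(F.obj i, ⊤)),
      z ∈ (maximalIdeal V).map (t i).hom ∧ (π i).appTop z = y := by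
    intro y hy
    induction hy using Submodule.span_induction with
    | mem y hy =>
      obtain ⟨a, ha, rfl⟩ := hy
      obtain ⟨i⟩ := (IsCofiltered.nonempty : Nonempty I)
      exact ⟨i, _, Ideal.mem_map_of_mem _ ha, by rw [← et i]; rfl⟩
    | zero =>
      obtain ⟨i⟩ := (IsCofiltered.nonempty : Nonempty I)
      exact ⟨i, 0, zero_mem _, map_zero _⟩
    | add y y' _ _ hy hy' =>
      obtain ⟨i, z, hz, rfl⟩ := hy
      obtain ⟨i', z', hz', rfl⟩ := hy'
      exact ⟨IsCofiltered.min i i', _,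
        add_mem (hm (IsCofiltered.minToLeft i i') hz) (hm (IsCofiltered.minToRight i i') hz'),
        by rw [map_add, hw, hw]⟩
    | smul r y _ hy =>
      obtain ⟨i, z, hz, rfl⟩ := hy
      obtain ⟨i', r', rfl⟩ := exists_appTop_π_eq_of_isAffine_of_isLimit F _ hc r
      exact ⟨IsCofiltered.min i i', _,
        Ideal.mul_mem_left _ ((F.map (IsCofiltered.minToRight i i')).appTop r')
          (hm (IsCofiltered.minToLeft i i') hz),
        by rw [map_mul, hw, hw, smul_eq_mul]; rfl⟩
  obtain ⟨i, z, hz, rfl⟩ := key x hx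
  obtain ⟨j, f, hj⟩ := exists_appTop_map_eq_zero_of_isAffine_of_isLimit F _ hc i
    (t i s * (1 - z)) (by
      show (π i).appTop _ = 0
      rw [map_mul, map_sub, map_one, ← ConcreteCategory.comp_apply, et]
      exact h0)
  refine h j s hs ((F.map f).appTop z) (hm f hz) ?_
  rw [map_mul, map_sub, map_one, ← ConcreteCategory.comp_apply, eF] at hj
  exact hj

end Limit

variable {Y : Scheme.{u}} [IsAffine Y] {I : Type u} [SmallCategory I] [IsCofiltered I]

theorem isStandardV_singleton_isLimit_iff (D : I ⥤ Over Y) [∀ i, IsAffine (D.obj i).left]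
    (c : Cone D) (hc : IsLimit ((Over.forget Y).mapCone c)) :
    IsStandardV (PreZeroHypercover.singleton.{w} c.pt.hom) ↔
      ∀ i, IsStandardV (PreZeroHypercover.singleton.{w} (D.obj i).hom) := by
  haveI : IsConnected I := IsCofiltered.isConnected I
  haveI : ∀ i, IsAffine ((D ⋙ Over.forget Y).obj i) := fun i =>
    inferInstanceAs (IsAffine (D.obj i).left)
  haveI : IsAffine c.pt.left := Scheme.isAffine_of_isLimit _ hc
  constructor
  · intro h i
    refine ⟨inferInstance, inferInstanceAs (Finite PUnit), fun _ => inferInstanceAs (IsAffine (D.obj i).left),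
      fun V _ _ g => ?_⟩
    obtain ⟨W, hW, hW', φ, hφ, j, l, hl⟩ := h.lift V g
    refine ⟨W, hW, hW', φ, hφ, PUnit.unit, (show Spec W ⟶ c.pt.left from l) ≫ (c.π.app i).left, ?_⟩
    change (_ ≫ (c.π.app i).left) ≫ (D.obj i).hom = _
    rw [Category.assoc, Over.w]
    exact hl
  · intro h
    refine ⟨inferInstance, inferInstanceAs (Finite PUnit), fun _ => inferInstanceAs (IsAffine c.pt.left),
      fun V _ _ g => ?_⟩
    let D' : I ⥤ Over (Spec V) := D ⋙ Over.pullback g
    haveI : ∀ i, IsAffine (D'.obj i).left := fun i =>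
      inferInstanceAs (IsAffine (pullback (D.obj i).hom g))
    let hcY : IsLimit c := isLimitOfReflects (Over.forget Y) hc
    let hc' : IsLimit ((Over.forget (Spec V)).mapCone ((Over.pullback g).mapCone c)) :=
      isLimitOfPreserves (Over.forget (Spec V)) (isLimitOfPreserves (Over.pullback g) hcY)
    have hcond : ∀ i, LiftCond V (toΓ (D'.obj i).hom) := fun i => by
      obtain ⟨W, _, _, φ, hφ, j, l, hl⟩ := (h i).lift V g
      exact liftCond_of_lift _ φ hφ
        (pullback.lift (f := (D.obj i).hom) (show Spec W ⟶ (D.obj i).left from l) (Spec.map φ) hl)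
        (pullback.lift_snd _ _ _)
    haveI : IsAffine ((Over.pullback g).mapCone c).pt.left :=
      inferInstanceAs (IsAffine (pullback c.pt.hom g))
    obtain ⟨W, hW, hW', φ, l, hφ, hl⟩ :=
      exists_lift_of_liftCond _ (liftCond_of_isLimit D' _ hc' hcond)
    refine ⟨W, hW, hW', φ, hφ, PUnit.unit,
      (show Spec W ⟶ pullback c.pt.hom g from l) ≫ pullback.fst _ _, ?_⟩
    change (_ ≫ pullback.fst _ _) ≫ c.pt.hom = _
    rw [Category.assoc, pullback.condition, ← Category.assoc]
    exact congrArg (· ≫ g) hl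

end Groth.Agent.HTopCov
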