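import Groth.Prelude.Def_HTop
import Mathlib.AlgebraicGeometry.ValuativeCriterion
import Mathlib.AlgebraicGeometry.Morphisms.UniversallyOpen
import Mathlib.AlgebraicGeometry.PullbackCarrier

/-!
Extensions of valuation rings from specializations, and lifting along proper surjective and flat morphisms.
-/

set_option backward.isDefEq.respectTransparency false
set_option backward.isDefEq.respectTransparency.types false

universe w u

namespace Groth.Agent.HTopCov

open CategoryTheory CategoryTheory.Limits AlgebraicGeometry IsLocalRing HTop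

theorem exists_valuationSubring_of_specializes {P : Scheme.{u}} {q p : P} (h : q ⤳ p) :
    ∃ (A : ValuationSubring (P.residueField q)) (l : Spec (CommRingCat.of A) ⟶ P),
      Spec.map (CommRingCat.ofHom A.subtype) ≫ l = P.fromSpecResidueField q ∧ l (closedPoint A) = p := by
  let r : P.presheaf.stalk p ⟶ P.residueField q := P.presheaf.stalkSpecializes h ≫ P.residue q
  obtain ⟨A, hA, hA_local⟩ := exists_factor_valuationRing r.hom
  let r' : P.presheaf.stalk p ⟶ CommRingCat.of A := CommRingCat.ofHom (r.hom.codRestrict A.toSubring hA)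
  refine ⟨A, Spec.map r' ≫ P.fromSpecStalk p, ?_, ?_⟩
  · have e : r' ≫ CommRingCat.ofHom A.subtype = r := rfl
    rw [← Category.assoc, ← Spec.map_comp, e, Spec.map_comp, Category.assoc,
      Scheme.SpecMap_stalkSpecializes_fromSpecStalk]
    rfl
  · rw [Scheme.Hom.comp_apply]
    have : Spec.map r' (closedPoint A) = closedPoint (P.presheaf.stalk p) :=
      comap_closedPoint (S := A) (r.hom.codRestrict A.toSubring hA)
    rw [this, P.fromSpecStalk_closedPoint]

theorem isExtVal_of_points {V W : CommRingCat.{u}} [IsDomain V] [ValuationRing V] [IsDomain W] [ValuationRing W]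
    (φ : V ⟶ W) (h0 : Spec.map φ (⊥ : PrimeSpectrum W) = (⊥ : PrimeSpectrum V))
    (h1 : Spec.map φ (closedPoint W) = closedPoint V) : IsExtVal V W φ := by
  refine ⟨?_, ((IsLocalRing.local_hom_TFAE φ.hom).out 0 4).mpr (congrArg PrimeSpectrum.asIdeal h1)⟩
  rw [RingHom.injective_iff_ker_eq_bot]
  exact congrArg PrimeSpectrum.asIdeal h0

theorem isExtVal_comp {V W W' : CommRingCat.{u}} [IsDomain V] [ValuationRing V] [IsDomain W] [ValuationRing W]
    [IsDomain W'] [ValuationRing W'] {φ : V ⟶ W} {ψ : W ⟶ W'} (h₁ : IsExtVal V W φ) (h₂ : IsExtVal W W' ψ) :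
    IsExtVal V W' (φ ≫ ψ) := by
  haveI := h₁.2
  haveI := h₂.2
  exact ⟨h₂.1.comp h₁.1, RingHom.isLocalHom_comp ψ.hom φ.hom⟩

/-- Two points `q ⤳ p` of a scheme over `Spec V` over the generic and the closed point give an extension of
valuation rings mapping to it. -/
theorem exists_ext_of_points {V : CommRingCat.{u}} [IsDomain V] [ValuationRing V] {P : Scheme.{u}}
    (π : P ⟶ Spec V) {q p : P} (h : q ⤳ p) (hq : π q = (⊥ : PrimeSpectrum V)) (hp : π p = closedPoint V) :
    ∃ (W : CommRingCat.{u}) (_ : IsDomain W) (_ : ValuationRing W) (φ : V ⟶ W) (l : Spec W ⟶ P),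
      IsExtVal V W φ ∧ l ≫ π = Spec.map φ ∧ l (closedPoint W) = p := by
  obtain ⟨A, l, hl, hcl⟩ := exists_valuationSubring_of_specializes h
  haveI : ValuationRing (CommRingCat.of A) := inferInstanceAs (ValuationRing A)
  refine ⟨CommRingCat.of A, inferInstance, inferInstance, Spec.preimage (l ≫ π), l, ?_,
    (Spec.map_preimage _).symm, hcl⟩
  refine isExtVal_of_points _ ?_ ?_
  · rw [Spec.map_preimage]
    let z : PrimeSpectrum (P.residueField q) := ⊥
    have hz : (Spec.map (CommRingCat.ofHom A.subtype)) z = (⊥ : PrimeSpectrum A) :=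
      PrimeSpectrum.ext ((RingHom.injective_iff_ker_eq_bot A.subtype).mp Subtype.val_injective)
    change (l ≫ π) (⊥ : PrimeSpectrum A) = _
    rw [← hz, ← Scheme.Hom.comp_apply, ← Category.assoc, hl, Scheme.Hom.comp_apply]
    exact (congrArg π (Scheme.fromSpecResidueField_apply q z)).trans hq
  · rw [Spec.map_preimage, Scheme.Hom.comp_apply]
    exact (congrArg π hcl).trans hp

/-- A morphism from the spectrum of a local ring factors through every open containing the image of the closed
point. -/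
theorem exists_lift_of_closedPoint {R : CommRingCat.{u}} [IsLocalRing R] {Y U : Scheme.{u}} (i : Y ⟶ U)
    [IsOpenImmersion i] (l : Spec R ⟶ U) (h : l (closedPoint R) ∈ Set.range i) :
    ∃ l' : Spec R ⟶ Y, l' ≫ i = l := by
  refine ⟨IsOpenImmersion.lift i l ?_, IsOpenImmersion.lift_fac _ _ _⟩
  rintro _ ⟨x, rfl⟩
  exact ((IsLocalRing.specializes_closedPoint x).map l.continuous).mem_open i.isOpenEmbedding.isOpen_range h

variable {T : Scheme.{u}}

theorem exists_lift_of_proper {U : Scheme.{u}} (f : U ⟶ T) [UniversallyClosed f] [Surjective f]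
    (V : CommRingCat.{u}) [IsDomain V] [ValuationRing V] (g : Spec V ⟶ T) :
    ∃ (W : CommRingCat.{u}) (_ : IsDomain W) (_ : ValuationRing W) (φ : V ⟶ W) (l : Spec W ⟶ U),
      IsExtVal V W φ ∧ l ≫ f = Spec.map φ ≫ g := by
  obtain ⟨q, hq⟩ := (pullback.fst g f).surjective (⊥ : PrimeSpectrum V)
  have hsp : (pullback.fst g f) q ⤳ closedPoint V := by
    rw [hq]
    exact IsLocalRing.specializes_closedPoint _
  obtain ⟨p, hqp, hp⟩ := (pullback.fst g f).isClosedMap.specializingMap hsp
  obtain ⟨W, hW, hW', φ, l, hφ, hl, -⟩ := exists_ext_of_points (pullback.fst g f) hqp hq hp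
  refine ⟨W, hW, hW', φ, l ≫ pullback.snd g f, hφ, ?_⟩
  rw [Category.assoc, ← pullback.condition, ← Category.assoc, hl]

theorem exists_lift_of_flat {E : PreZeroHypercover.{w} T} (hflat : ∀ j, Flat (E.f j))
    (V : CommRingCat.{u}) [IsDomain V] [ValuationRing V] (g : Spec V ⟶ T) {j : E.I₀} (x : E.X j)
    (hx : E.f j x = g (closedPoint V)) :
    ∃ (W : CommRingCat.{u}) (_ : IsDomain W) (_ : ValuationRing W) (φ : V ⟶ W) (l : Spec W ⟶ E.X j),
      IsExtVal V W φ ∧ l ≫ E.f j = Spec.map φ ≫ g ∧ l (closedPoint W) = x := by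
  haveI := hflat j
  obtain ⟨p, hp, hp'⟩ := Scheme.Pullback.exists_preimage_pullback (f := g) (g := E.f j) (closedPoint V : Spec V) x hx.symm
  have hsp : (⊥ : PrimeSpectrum V) ⤳ (pullback.fst g (E.f j)) p := by
    rw [hp]
    exact IsLocalRing.specializes_closedPoint _
  obtain ⟨q, hqp, hq⟩ := Flat.generalizingMap (f := pullback.fst g (E.f j)) hsp
  obtain ⟨W, hW, hW', φ, l, hφ, hl, hcl⟩ := exists_ext_of_points (pullback.fst g (E.f j)) hqp hq hp
  refine ⟨W, hW, hW', φ, l ≫ pullback.snd g (E.f j), hφ, ?_, ?_⟩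
  · rw [Category.assoc, ← pullback.condition, ← Category.assoc, hl]
  · rw [Scheme.Hom.comp_apply, hcl, hp']

end Groth.Agent.HTopCov
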