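import Mathlib.AlgebraicGeometry.Normalization
import Mathlib.AlgebraicGeometry.Morphisms.QuasiFinite
import Mathlib.AlgebraicGeometry.AffineTransitionLimit
import Mathlib.RingTheory.ZariskisMainTheorem
import Mathlib.RingTheory.Valuation.LocalSubring
import Mathlib.FieldTheory.IsAlgClosed.AlgebraicClosure
import Groth.Agent.HTopCov.Spec
import Groth.Agent.HTopCov.Points
import Groth.Agent.S7382
import Groth.Agent.SGA1Q.SigmaFinite

/-!
# Finite refinements of qfh coverings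
-/

set_option autoImplicit false
set_option linter.style.haveILetI false
set_option backward.isDefEq.respectTransparency false
set_option backward.isDefEq.respectTransparency.types false

universe u

open CategoryTheory CategoryTheory.Limits AlgebraicGeometry HTop TensorProduct

namespace Groth.Agent.HTopCov

/-- An element of an extension domain integral over an algebraically closed field lies in that field. -/
theorem mem_range_of_isIntegral {Ω L : Type u} [Field Ω] [IsAlgClosed Ω] [Field L] [Algebra Ω L] {x : L}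
    (hx : IsIntegral Ω x) : x ∈ (algebraMap Ω L).range :=
  minpoly.mem_range_of_degree_eq_one Ω x
    (IsAlgClosed.degree_eq_one_of_irreducible Ω (minpoly.irreducible hx))

/-- A point in an extension of the valuation ring comes from the valuation ring. -/
theorem exists_algHom_mem {A Ω : Type u} [CommRing A] [Field Ω] [IsAlgClosed Ω] [Algebra A Ω] {B : Type u}
    [CommRing B] [Algebra A B] [Algebra.FiniteType A B] [Algebra.QuasiFinite A B] (V : ValuationSubring Ω)
    {W : Type u} [CommRing W] [IsDomain W] (ι : ↥V →+* W)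
    (hι : Function.Injective ι) [IsLocalHom ι] (φ : B →+* W)
    (hA : ∀ a, algebraMap A Ω a ∈ V) (hφ : ∀ a, φ (algebraMap A B a) = ι ⟨algebraMap A Ω a, hA a⟩) :
    ∃ φ₀ : B →ₐ[A] Ω, ∀ b, φ₀ b ∈ V := by
  have hinj : Function.Injective ((algebraMap W (FractionRing W)).comp ι) :=
    (IsFractionRing.injective W (FractionRing W)).comp hι
  letI : Algebra Ω (FractionRing W) := (IsFractionRing.lift hinj : Ω →+* FractionRing W).toAlgebra
  have hι' : ∀ v : ↥V, algebraMap Ω (FractionRing W) v = algebraMap W _ (ι v) := fun v =>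
    IsFractionRing.lift_algebraMap hinj v
  letI : Algebra A (FractionRing W) := ((algebraMap Ω (FractionRing W)).comp (algebraMap A Ω)).toAlgebra
  haveI : IsScalarTower A Ω (FractionRing W) := IsScalarTower.of_algebraMap_eq' rfl
  let φL : B →ₐ[A] FractionRing W :=
    { (algebraMap W (FractionRing W)).comp φ with
      commutes' := fun a => by
        show algebraMap W (FractionRing W) (φ (algebraMap A B a)) = algebraMap Ω _ (algebraMap A Ω a)
        rw [hφ a, ← hι'] }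
  have hrange : ∀ b, φL b ∈ (IsScalarTower.toAlgHom A Ω (FractionRing W)).range := fun b => by
    haveI : Module.Finite Ω (Ω ⊗[A] B) := Module.Finite.of_quasiFinite
    let θ : Ω ⊗[A] B →ₐ[Ω] FractionRing W := Algebra.TensorProduct.lift (Algebra.ofId Ω _) φL
      (fun _ _ => Commute.all _ _)
    have h1 : IsIntegral Ω (θ ((1 : Ω) ⊗ₜ b)) := (Algebra.IsIntegral.isIntegral _).map θ
    obtain ⟨x, hx⟩ := mem_range_of_isIntegral h1
    exact ⟨x, hx.trans (by simp [θ])⟩
  let e := AlgEquiv.ofInjective (IsScalarTower.toAlgHom A Ω (FractionRing W))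
    (algebraMap Ω (FractionRing W)).injective
  let φ₀ : B →ₐ[A] Ω := e.symm.toAlgHom.comp (φL.codRestrict _ hrange)
  have hφ₀ : ∀ b, algebraMap Ω (FractionRing W) (φ₀ b) = algebraMap W _ (φ b) := fun b =>
    congrArg Subtype.val (e.apply_symm_apply ⟨φL b, hrange b⟩)
  refine ⟨φ₀, fun b => ?_⟩
  by_contra h
  rcases V.mem_or_inv_mem (φ₀ b) with h' | h'
  · exact h h'
  · have h0 : φ₀ b ≠ 0 := fun h0 => h (h0 ▸ V.zero_mem)
    have h1 : φ b * ι ⟨_, h'⟩ = 1 := IsFractionRing.injective W (FractionRing W) (by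
      rw [map_mul, map_one, ← hι', ← hφ₀, ← map_mul, mul_inv_cancel₀ h0, map_one])
    obtain ⟨u, hu⟩ := isUnit_of_map_unit ι _ (IsUnit.of_mul_eq_one_right _ h1)
    refine h ?_
    have h2 : ((↑u⁻¹ : ↥V) : Ω) = φ₀ b := by
      have h3 : ((↑u⁻¹ : ↥V) : Ω) * (φ₀ b)⁻¹ = 1 := by
        have := congrArg (fun v : ↥V => (v : Ω)) u.inv_mul
        rwa [hu] at this
      calc ((↑u⁻¹ : ↥V) : Ω) = ((↑u⁻¹ : ↥V) : Ω) * (φ₀ b)⁻¹ * φ₀ b := by
            rw [mul_assoc, inv_mul_cancel₀ h0, mul_one]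
        _ = φ₀ b := by rw [h3, one_mul]
    exact h2 ▸ (↑u⁻¹ : ↥V).2

/-- A point whose coordinates have a common denominator factors through the localisation. -/
theorem nonempty_algHom_away {A Ω : Type u} [CommRing A] [Field Ω] [Algebra A Ω] {B : Type u} [CommRing B]
    [Algebra A B] (S : Subalgebra A Ω) (φ₀ : B →ₐ[A] Ω) (r : S) (hr0 : (r : Ω) ≠ 0)
    (h : ∀ b, ∃ m : ℕ, (r : Ω) ^ m * φ₀ b ∈ S) : Nonempty (B →ₐ[A] Localization.Away r) := by
  have hunit : ∀ y : Submonoid.powers r, IsUnit (S.val (y : S)) := by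
    rintro ⟨_, n, rfl⟩
    exact isUnit_iff_ne_zero.2 (by simpa using pow_ne_zero n hr0)
  let l : Localization.Away r →ₐ[A] Ω := IsLocalization.liftAlgHom (M := Submonoid.powers r) (f := S.val) hunit
  have hlift : ∀ a : S, l (algebraMap S _ a) = (a : Ω) := fun a => IsLocalization.lift_eq hunit a
  have hinj : Function.Injective l := by
    show Function.Injective (IsLocalization.lift hunit)
    rw [IsLocalization.lift_injective_iff]
    intro x y
    constructor
    · exact fun e => (hlift x).symm.trans ((congrArg l e).trans (hlift y))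
    · exact fun e => congrArg _ (Subtype.ext e)
  have hmem : ∀ b, φ₀ b ∈ l.range := fun b => by
    obtain ⟨m, hm⟩ := h b
    refine ⟨IsLocalization.mk' _ (⟨_, hm⟩ : S) (⟨r ^ m, m, rfl⟩ : Submonoid.powers r), ?_⟩
    show l _ = _
    refine mul_left_cancel₀ (pow_ne_zero m hr0) ?_
    have := congrArg l (IsLocalization.mk'_spec' (Localization.Away r) (⟨_, hm⟩ : S)
      (⟨r ^ m, m, rfl⟩ : Submonoid.powers r))
    rw [map_mul, hlift, hlift] at this
    simpa using this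
  exact ⟨(AlgEquiv.ofInjective l hinj).symm.toAlgHom.comp (φ₀.codRestrict _ hmem)⟩

/-- Zariski's main theorem along a valuation. -/
theorem exists_away {A Ω : Type u} [CommRing A] [Field Ω] [Algebra A Ω] {B : Type u} [CommRing B]
    [Algebra A B] [Algebra.FiniteType A B] [Algebra.QuasiFinite A B] (S : Subalgebra A Ω)
    (hS : ∀ x : Ω, IsIntegral S x → x ∈ S) (V : ValuationSubring Ω) (hA : ∀ a : S, (a : Ω) ∈ V)
    (φ₀ : B →ₐ[A] Ω) (hV : ∀ b, φ₀ b ∈ V) :
    ∃ r : S, IsUnit (⟨(r : Ω), hA r⟩ : ↥V) ∧ Nonempty (B →ₐ[A] Localization.Away r) := by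
  let θ : ↥S ⊗[A] B →ₐ[↥S] Ω := Algebra.TensorProduct.lift (Algebra.ofId _ _) φ₀ (fun _ _ => Commute.all _ _)
  have hC : ∀ c : θ.range, (c : Ω) ∈ V := by
    rintro ⟨_, x, rfl⟩
    show θ x ∈ V
    induction x using TensorProduct.induction_on with
    | zero => rw [map_zero]; exact V.zero_mem
    | tmul a b =>
      have : θ (a ⊗ₜ b) = (a : Ω) * φ₀ b := Algebra.TensorProduct.lift_tmul _ _ _ _ _
      rw [this]
      exact V.mul_mem _ _ (hA a) (hV b)
    | add x y hx hy => rw [map_add]; exact V.add_mem _ _ hx hy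
  let toV : θ.range →+* ↥V := θ.range.val.toRingHom.codRestrict V.toSubring hC
  let p : Ideal θ.range := (IsLocalRing.maximalIdeal ↥V).comap toV
  haveI : p.IsPrime := Ideal.IsPrime.comap _
  haveI : Algebra.QuasiFinite ↥S θ.range :=
    .of_surjective_algHom θ.rangeRestrict θ.rangeRestrict_surjective
  haveI : Algebra.FiniteType ↥S θ.range :=
    (inferInstance : Algebra.FiniteType ↥S (↥S ⊗[A] B)).of_surjective θ.rangeRestrict
      θ.rangeRestrict_surjective
  obtain ⟨r, hrp, hr, hx⟩ := Algebra.zariskisMainProperty_iff.1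
    (Algebra.ZariskisMainProperty.of_finiteType (R := ↥S) p)
  have hint : ∀ c : θ.range, IsIntegral ↥S c → (c : Ω) ∈ S := fun c hc => hS _ (hc.map θ.range.val)
  let r' : S := ⟨r, hint r hr⟩
  have hu : IsUnit (⟨(r' : Ω), hA r'⟩ : ↥V) :=
    not_not.1 fun h => hrp ((IsLocalRing.mem_maximalIdeal _).2 h)
  refine ⟨r', hu, nonempty_algHom_away S φ₀ r' (fun h0 => hu.ne_zero (Subtype.ext h0)) fun b => ?_⟩
  obtain ⟨m, hm⟩ := hx ⟨φ₀ b, (1 : ↥S) ⊗ₜ b, by
    show θ (1 ⊗ₜ b) = φ₀ b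
    simp [θ]⟩
  exact ⟨m, hint _ hm⟩

/-- A valuation ring dominating a prime of a subalgebra of a field. -/
theorem exists_valuation_dominating {A Ω : Type u} [CommRing A] [Field Ω] [Algebra A Ω] (S : Subalgebra A Ω)
    (q : Ideal S) [q.IsPrime] :
    ∃ (V : ValuationSubring Ω) (hA : ∀ a : S, (a : Ω) ∈ V),
      ∀ a : S, IsUnit (⟨(a : Ω), hA a⟩ : ↥V) → a ∉ q := by
  have hu : ∀ y : q.primeCompl, IsUnit (S.val.toRingHom (y : S)) := fun y => isUnit_iff_ne_zero.2 fun h => y.2 (by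
    have : (y : S) = 0 := Subtype.ext h
    rw [this]; exact q.zero_mem)
  obtain ⟨V, hmem, hloc⟩ := IsLocalRing.exists_factor_valuationRing
    (IsLocalization.lift (S := Localization.AtPrime q) hu)
  have hl : ∀ a : S, IsLocalization.lift (S := Localization.AtPrime q) hu (algebraMap S _ a) = (a : Ω) :=
    fun a => IsLocalization.lift_eq hu a
  refine ⟨V, fun a => hl a ▸ hmem (algebraMap S _ a), fun a ha hq => ?_⟩
  have h1 : algebraMap S (Localization.AtPrime q) a ∈ IsLocalRing.maximalIdeal _ :=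
    (IsLocalization.AtPrime.to_map_mem_maximal_iff _ q a).2 hq
  refine (IsLocalRing.mem_maximalIdeal _).1 h1 (hloc.map_nonunit _ ?_)
  simpa [RingHom.codRestrict, hl] using ha

/-- The neighbourhood lifting property on an affine piece. -/
theorem exists_nhd_lift_aux {Y N : Scheme.{u}} (ν : N ⟶ Y) (E : PreZeroHypercover.{u} Y)
    [∀ j, LocallyOfFiniteType (E.f j)] [∀ j, LocallyQuasiFinite (E.f j)] (hE : HasValLift E) {U : Y.Opens}
    (hU : IsAffineOpen U) {Ω : Type u} [Field Ω] [IsAlgClosed Ω] [Algebra Γ(Y, U) Ω] (S : Subalgebra Γ(Y, U) Ω)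
    (hS : ∀ x : Ω, IsIntegral S x → x ∈ S) (c : Spec (CommRingCat.of S) ⟶ N) [IsOpenImmersion c]
    (hc : c ≫ ν = Spec.map (CommRingCat.ofHom (algebraMap Γ(Y, U) S)) ≫ hU.fromSpec)
    (q : PrimeSpectrum S) :
    ∃ (W : N.Opens) (j : E.I₀) (h : (W : Scheme.{u}) ⟶ E.X j),
      c q ∈ W ∧ IsCompact (W : Set N) ∧ h ≫ E.f j = W.ι ≫ ν := by
  haveI := q.isPrime
  obtain ⟨V, hA, hdom⟩ := exists_valuation_dominating S q.asIdeal
  have hA' : ∀ a, algebraMap Γ(Y, U) Ω a ∈ V := fun a => hA (algebraMap Γ(Y, U) S a)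
  let α : Γ(Y, U) →+* ↥V := (algebraMap Γ(Y, U) Ω).codRestrict V.toSubring hA'
  haveI : ValuationRing (CommRingCat.of ↥V) := inferInstanceAs (ValuationRing ↥V)
  obtain ⟨W, _, _, φ, hφ, j, l, hl⟩ :=
    hE (CommRingCat.of ↥V) (Spec.map (CommRingCat.ofHom α) ≫ hU.fromSpec)
  haveI : IsLocalHom φ.hom := hφ.2
  have hlU : E.f j (l (IsLocalRing.closedPoint W)) ∈ U := by
    rw [← Scheme.Hom.comp_apply, hl, ← Category.assoc, Scheme.Hom.comp_apply]
    exact hU.range_fromSpec.subset ⟨_, rfl⟩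
  obtain ⟨B, hB, hlB, hBU⟩ := exists_isAffineOpen_mem_and_subset (U := E.f j ⁻¹ᵁ U) hlU
  obtain ⟨l', hl'⟩ := exists_lift_of_closedPoint hB.fromSpec l (hB.range_fromSpec ▸ hlB)
  obtain ⟨β, rfl⟩ := Spec.map_surjective l'
  have hαβ : (E.f j).appLE U B hBU ≫ β = CommRingCat.ofHom α ≫ φ := by
    apply Spec.map_injective
    rw [← cancel_mono hU.fromSpec, Spec.map_comp, Category.assoc, hU.SpecMap_appLE_fromSpec (E.f j) hB hBU,
      reassoc_of% hl', hl, Spec.map_comp, Category.assoc]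
  letI : Algebra Γ(Y, U) Γ(E.X j, B) := ((E.f j).appLE U B hBU).hom.toAlgebra
  haveI : Algebra.QuasiFinite Γ(Y, U) Γ(E.X j, B) := LocallyQuasiFinite.quasiFinite_appLE hU hB hBU
  haveI : Algebra.FiniteType Γ(Y, U) Γ(E.X j, B) := (E.f j).finiteType_appLE hU hB hBU
  obtain ⟨φ₀, hφ₀⟩ := exists_algHom_mem (A := Γ(Y, U)) V φ.hom hφ.1 β.hom hA' fun a =>
    DFunLike.congr_fun (congrArg CommRingCat.Hom.hom hαβ) a
  obtain ⟨r, hr, ⟨ψ⟩⟩ := exists_away S hS V hA φ₀ hφ₀
  let ι₀ : Spec (CommRingCat.of (Localization.Away r)) ⟶ N :=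
    Spec.map (CommRingCat.ofHom (algebraMap S (Localization.Away r))) ≫ c
  haveI : IsOpenImmersion ι₀ := inferInstance
  refine ⟨ι₀.opensRange, j, ι₀.isoOpensRange.inv ≫ Spec.map (CommRingCat.ofHom ψ.toRingHom) ≫ hB.fromSpec,
    ?_, isCompact_range ι₀.continuous, ?_⟩
  · obtain ⟨x, hx⟩ : q ∈ Set.range (PrimeSpectrum.comap (algebraMap S (Localization.Away r))) := by
      rw [PrimeSpectrum.localization_away_comap_range (Localization.Away r) r]
      exact hdom r hr
    exact ⟨x, congrArg c hx⟩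
  · rw [← cancel_epi ι₀.isoOpensRange.hom]
    simp only [Category.assoc, Iso.hom_inv_id_assoc, Scheme.Hom.isoOpensRange_hom_ι_assoc]
    rw [← hU.SpecMap_appLE_fromSpec (E.f j) hB hBU, ← Spec.map_comp_assoc]
    show _ = (Spec.map _ ≫ c) ≫ ν
    rw [Category.assoc, hc, ← Spec.map_comp_assoc]
    congr 2
    ext a
    exact ψ.commutes a

theorem isField_sections {K : Type u} [Field K] (O : (Spec (CommRingCat.of K)).Opens)
    [Nontrivial Γ(Spec (CommRingCat.of K), O)] :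
    ∃ _e : Γ(Spec (CommRingCat.of K), O) ≃+* K, True := by
  have htop : O = ⊤ := by
    haveI : Subsingleton (Spec (CommRingCat.of K)) := inferInstanceAs (Subsingleton (PrimeSpectrum K))
    by_contra h
    have hbot : O = ⊥ := by
      ext x
      exact ⟨fun hx => h (TopologicalSpace.Opens.ext (Set.eq_univ_of_forall fun y => Subsingleton.elim x y ▸ hx)),
        fun hx => hx.elim⟩
    subst hbot
    have : Subsingleton Γ(Spec (CommRingCat.of K), ⊥) :=
      CommRingCat.subsingleton_of_isTerminal (X := Γ(Spec (CommRingCat.of K), ⊥))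
        ((Spec (CommRingCat.of K)).sheaf.isTerminalOfEmpty)
    exact false_of_nontrivial_of_subsingleton Γ(Spec (CommRingCat.of K), ⊥)
  subst htop
  exact ⟨(Scheme.ΓSpecIso (CommRingCat.of K)).commRingCatIsoToRingEquiv, trivial⟩

/-- Points of the normalisation in an algebraically closed field have neighbourhoods lifting to a member. -/
theorem exists_nhd_lift {Y : Scheme.{u}} (E : PreZeroHypercover.{u} Y) [∀ j, LocallyOfFiniteType (E.f j)]
    [∀ j, LocallyQuasiFinite (E.f j)] (hE : HasValLift E) (K : Type u) [Field K] [IsAlgClosed K]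
    (g : Spec (CommRingCat.of K) ⟶ Y) [QuasiCompact g] [QuasiSeparated g] (n : g.normalization) :
    ∃ (W : g.normalization.Opens) (j : E.I₀) (h : (W : Scheme.{u}) ⟶ E.X j),
      n ∈ W ∧ IsCompact (W : Set g.normalization) ∧ h ≫ E.f j = W.ι ≫ g.fromNormalization := by
  obtain ⟨U, hU, hnU, -⟩ := exists_isAffineOpen_mem_and_subset (U := ⊤) (x := g.fromNormalization n) trivial
  letI : Algebra Γ(Y, U) Γ(Spec (CommRingCat.of K), g ⁻¹ᵁ U) := (g.app U).hom.toAlgebra
  obtain ⟨q, hq⟩ : n ∈ (g.normalizationOpenCover.f ⟨U, hU⟩).opensRange :=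
    g.fromNormalization_preimage ⟨U, hU⟩ ▸ hnU
  let q' : PrimeSpectrum (integralClosure Γ(Y, U) Γ(Spec (CommRingCat.of K), g ⁻¹ᵁ U)) := q
  haveI : Nontrivial Γ(Spec (CommRingCat.of K), g ⁻¹ᵁ U) := by
    haveI := q'.nontrivial
    exact (Subtype.val_injective :
      Function.Injective fun a : integralClosure Γ(Y, U) Γ(Spec (CommRingCat.of K), g ⁻¹ᵁ U) =>
        (a : Γ(Spec (CommRingCat.of K), g ⁻¹ᵁ U))).nontrivial
  obtain ⟨e, -⟩ := isField_sections (g ⁻¹ᵁ U)
  letI : Field Γ(Spec (CommRingCat.of K), g ⁻¹ᵁ U) := (e.toMulEquiv.isField (Field.toIsField K)).toField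
  haveI : IsAlgClosed Γ(Spec (CommRingCat.of K), g ⁻¹ᵁ U) := IsAlgClosed.of_ringEquiv K _ e.symm
  obtain ⟨W, j, h, hW, hWc, hh⟩ := exists_nhd_lift_aux g.fromNormalization E hE hU
    (integralClosure Γ(Y, U) Γ(Spec (CommRingCat.of K), g ⁻¹ᵁ U))
    (fun x hx => isIntegral_trans x hx) (g.normalizationOpenCover.f ⟨U, hU⟩)
    (g.ι_fromNormalization ⟨U, hU⟩) q'
  exact ⟨W, j, h, hq ▸ hW, hWc, hh⟩

/-- A map from an open of a limit to a scheme of finite presentation comes from a stage. -/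
theorem exists_stage_lift {Y X : Scheme.{u}} (f : X ⟶ Y) [LocallyOfFinitePresentation f] {I : Type u}
    [Category.{u} I] [IsCofiltered I] (D : I ⥤ Scheme.{u}) [∀ {a b} (f : a ⟶ b), IsAffineHom (D.map f)]
    [∀ a, CompactSpace ↥(D.obj a)] [∀ a, QuasiSeparatedSpace ↥(D.obj a)]
    (s : ∀ a, D.obj a ⟶ Y) (hs : ∀ {a b} (g : a ⟶ b), D.map g ≫ s b = s a) (c : Cone D) (hc : IsLimit c)
    {i : I} (V : (D.obj i).Opens) (hV : IsCompact (V : Set (D.obj i)))
    (h : (c.π.app i ⁻¹ᵁ V).toScheme ⟶ X) (hh : h ≫ f = (c.π.app i ⁻¹ᵁ V).ι ≫ c.π.app i ≫ s i) :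
    ∃ (l : I) (φ : l ⟶ i) (k : (D.map φ ⁻¹ᵁ V).toScheme ⟶ X), k ≫ f = (D.map φ ⁻¹ᵁ V).ι ≫ s l := by
  let D₁ := opensDiagram D i V
  haveI : ∀ o, CompactSpace ↥(D₁.obj o) := fun o =>
    isCompact_iff_compactSpace.mp ((D.map o.hom).isCompact_preimage hV)
  haveI : ∀ o, QuasiSeparatedSpace ↥(D₁.obj o) := fun o =>
    ((D.map o.hom ⁻¹ᵁ V).ι.isOpenEmbedding).quasiSeparatedSpace
  let t : D₁ ⟶ (Functor.const (Over i)).obj Y :=
    { app := fun o => (D.map o.hom ⁻¹ᵁ V).ι ≫ s o.left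
      naturality := fun o o' g => by
        show Scheme.Hom.resLE _ _ _ _ ≫ _ ≫ _ = (_ ≫ _) ≫ 𝟙 _
        rw [Scheme.Hom.resLE_comp_ι_assoc, Category.comp_id, hs g.left] }
  obtain ⟨o, k, -, hk⟩ := Scheme.exists_π_app_comp_eq_of_locallyOfFinitePresentation D₁ t f
    (opensCone D c i V) (isLimitOpensCone D c hc i V) h (by
      ext o : 2
      show Scheme.Hom.resLE _ _ _ _ ≫ _ ≫ _ = h ≫ f
      rw [Scheme.Hom.resLE_comp_ι_assoc, hh, ← hs o.hom, reassoc_of% (c.w o.hom)])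
  exact ⟨o.left, o.hom, k, hk⟩

/-- An integral morphism whose source is covered by opens with lifts is refined by a finite morphism. -/
theorem exists_finite_lift {Y N : Scheme.{u}} [IsNoetherian Y] [Y.IsSeparated] (ν : N ⟶ Y) [IsIntegralHom ν]
    (E : PreZeroHypercover.{u} Y) [∀ j, LocallyOfFiniteType (E.f j)]
    (h : ∀ n : N, ∃ (W : N.Opens) (j : E.I₀) (h : (W : Scheme.{u}) ⟶ E.X j),
      n ∈ W ∧ IsCompact (W : Set N) ∧ h ≫ E.f j = W.ι ≫ ν) :
    ∃ (P : Scheme.{u}) (p : P ⟶ Y), IsFinite p ∧ Set.range ν ⊆ Set.range p ∧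
      ∀ x : P, ∃ (W : P.Opens) (j : E.I₀) (h : (W : Scheme.{u}) ⟶ E.X j), x ∈ W ∧ h ≫ E.f j = W.ι ≫ p := by
  classical
  obtain ⟨I, _, _, _, D, c, hc, hD, ⟨e⟩⟩ := Groth.Agent.S7382.result ν
  haveI : ∀ i, IsFinite (D.obj i).hom := fun i => (hD i).1
  haveI : IsConnected Iᵒᵖ := IsCofiltered.isConnected _
  let D' := D ⋙ Over.forget Y
  let c' : Cone D' := (Over.forget Y).mapCone (c.extend e.inv)
  have hc' : IsLimit c' := isLimitOfPreserves (Over.forget Y) (hc.extendIso e.inv)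
  have hover : ∀ {a b : Iᵒᵖ} (f : a ⟶ b), D'.map f ≫ (D.obj b).hom = (D.obj a).hom := fun f => Over.w _
  haveI : ∀ {a b : Iᵒᵖ} (f : a ⟶ b), IsAffineHom (D'.map f) := fun {a b} f => by
    haveI : IsAffineHom (D'.map f ≫ (D.obj b).hom) := by rw [hover f]; infer_instance
    exact IsAffineHom.of_comp (D'.map f) (D.obj b).hom
  have hπ : ∀ i, c'.π.app i ≫ (D.obj i).hom = ν := fun i => by
    show (e.inv ≫ c.π.app i).left ≫ _ = _
    exact Over.w _
  haveI : ∀ a, CompactSpace ↥(D'.obj a) := fun a =>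
    QuasiCompact.compactSpace_of_compactSpace (D.obj a).hom
  haveI : ∀ a, QuasiSeparatedSpace ↥(D'.obj a) := fun a =>
    quasiSeparatedSpace_of_quasiSeparated (D.obj a).hom
  haveI : CompactSpace N := QuasiCompact.compactSpace_of_compactSpace ν
  choose W j h hW hWc hh using h
  obtain ⟨s, hs⟩ := isCompact_univ.elim_finite_subcover (fun n => (W n : Set N))
    (fun n => (W n).2) (fun n _ => Set.mem_iUnion.2 ⟨n, hW n⟩)
  choose i V hVc hV using fun n => exists_preimage_eq D' c' hc' (W n) (hWc n)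
  have hdesc := fun n => exists_stage_lift (E.f (j n)) D' (fun a => (D.obj a).hom) hover c' hc' (V n) (hVc n)
    (N.homOfLE (hV n).le ≫ h n) (by rw [Category.assoc, hh, Scheme.homOfLE_ι_assoc, hπ])
  choose o φ k hk using hdesc
  obtain ⟨l, hl⟩ := IsCofiltered.inf_objs_exists (s.image o)
  have f : ∀ n : ↥s, l ⟶ o n.1 := fun n => (hl (Finset.mem_image_of_mem o n.2)).some
  let π : N ⟶ D'.obj l := c'.π.app l
  haveI : IsIntegralHom π := by
    haveI : IsIntegralHom (π ≫ (D.obj l).hom) := by rw [hπ l]; infer_instance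
    exact IsIntegralHom.of_comp π (D.obj l).hom
  let J := Scheme.IdealSheafData.vanishingIdeal (X := D'.obj l)
    ⟨Set.range π, π.isClosedMap.isClosed_range⟩
  have hJ : Set.range J.subschemeι = Set.range π := by
    rw [Scheme.IdealSheafData.range_subschemeι, Scheme.IdealSheafData.coe_support_vanishingIdeal]
    rfl
  let q : J.subscheme ⟶ D'.obj l := J.subschemeι
  refine ⟨J.subscheme, q ≫ (D.obj l).hom, inferInstance, ?_, fun x => ?_⟩
  · rintro _ ⟨m, rfl⟩
    obtain ⟨x, hx⟩ : π m ∈ Set.range q := hJ ▸ ⟨_, rfl⟩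
    refine ⟨x, ?_⟩
    rw [Scheme.Hom.comp_apply, hx, ← Scheme.Hom.comp_apply, hπ l]
  · obtain ⟨m, hm⟩ : q x ∈ Set.range π := hJ ▸ ⟨x, rfl⟩
    obtain ⟨n, hns, hmn⟩ := Set.mem_iUnion₂.1 (hs (Set.mem_univ m))
    refine ⟨q ⁻¹ᵁ (D'.map (f ⟨n, hns⟩) ⁻¹ᵁ (D'.map (φ n) ⁻¹ᵁ V n)), j n,
      q ∣_ _ ≫ (D'.map (f ⟨n, hns⟩) ∣_ _) ≫ k n, ?_, ?_⟩
    · show q x ∈ D'.map (f ⟨n, hns⟩) ⁻¹ᵁ (D'.map (φ n) ⁻¹ᵁ V n)
      rw [← hm]
      show m ∈ π ⁻¹ᵁ (D'.map (f ⟨n, hns⟩) ⁻¹ᵁ (D'.map (φ n) ⁻¹ᵁ V n))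
      rw [← Scheme.Hom.comp_preimage, ← Scheme.Hom.comp_preimage,
        show (π ≫ D'.map (f ⟨n, hns⟩)) ≫ D'.map (φ n) = c'.π.app (i n) by
          rw [Category.assoc, ← Functor.map_comp]; exact c'.w _, hV n]
      exact hmn
    · rw [Category.assoc, Category.assoc, hk]
      simp only [morphismRestrict_ι_assoc]
      rw [hover (f ⟨n, hns⟩)]

/-- Over every point there is a finite morphism whose opens lift to the members. -/
theorem exists_finite_refine {Y : Scheme.{u}} [IsNoetherian Y] [Y.IsSeparated] (E : PreZeroHypercover.{u} Y)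
    [∀ j, LocallyOfFiniteType (E.f j)] [∀ j, LocallyQuasiFinite (E.f j)] (hE : HasValLift E) (η : Y) :
    ∃ (P : Scheme.{u}) (p : P ⟶ Y), IsFinite p ∧ η ∈ Set.range p ∧
      ∀ x : P, ∃ (W : P.Opens) (j : E.I₀) (h : (W : Scheme.{u}) ⟶ E.X j), x ∈ W ∧ h ≫ E.f j = W.ι ≫ p := by
  let K := AlgebraicClosure (Y.residueField η)
  let g : Spec (CommRingCat.of K) ⟶ Y :=
    Spec.map (CommRingCat.ofHom (algebraMap (Y.residueField η) K)) ≫ Y.fromSpecResidueField η
  haveI : QuasiCompact g := quasiCompact_of_compactSpace g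
  haveI : IsSeparated g := IsSeparated.of_comp g (terminal.from Y)
  obtain ⟨P, p, hp, hr, hW⟩ := exists_finite_lift g.fromNormalization E (exists_nhd_lift E hE K g)
  obtain ⟨x⟩ : Nonempty (Spec (CommRingCat.of K)) := inferInstanceAs (Nonempty (PrimeSpectrum K))
  refine ⟨P, p, hp, hr ⟨g.toNormalization x, ?_⟩, hW⟩
  rw [← Scheme.Hom.comp_apply, Scheme.Hom.toNormalization_fromNormalization]
  simp only [g, Scheme.Hom.comp_apply]
  have h1 : ∀ u : ↥(Spec (CommRingCat.of (Y.residueField η))), Y.fromSpecResidueField η u = η :=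
    fun u => Scheme.fromSpecResidueField_apply _ u
  exact h1 _

/-- A qfh covering is refined by a finite surjective morphism and an open covering. -/
theorem exists_finite_surjective_refine {Y : Scheme.{u}} [IsNoetherian Y] [Y.IsSeparated]
    (E : PreZeroHypercover.{u} Y) [∀ j, LocallyOfFiniteType (E.f j)] [∀ j, LocallyQuasiFinite (E.f j)]
    (hE : HasValLift E) :
    ∃ (Y' : Scheme.{u}) (p : Y' ⟶ Y) (n : ℕ) (V : Fin n → Y'.Opens), IsFinite p ∧ Surjective p ∧ ⨆ i, V i = ⊤ ∧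
      ∀ i, ∃ (j : E.I₀) (h : (↑(V i) : Scheme.{u}) ⟶ E.X j), h ≫ E.f j = (V i).ι ≫ p := by
  classical
  let ι := {Z : Set Y // Z ∈ irreducibleComponents Y}
  haveI : Finite ι := TopologicalSpace.NoetherianSpace.finite_irreducibleComponents.to_subtype
  choose P p hp hpη hW using fun Z : ι => exists_finite_refine E hE Z.2.1.genericPoint
  haveI : IsFinite (Sigma.desc p) := SGA1Q.isFinite_sigmaDesc p hp
  haveI : Surjective (Sigma.desc p) := by
    refine Surjective.sigmaDesc_of_union_range_eq_univ (Set.eq_univ_of_forall fun y => ?_)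
    obtain ⟨Z, hZ, hyZ⟩ := exists_mem_irreducibleComponents_subset_of_isIrreducible {y} isIrreducible_singleton
    haveI := hp ⟨Z, hZ⟩
    refine Set.mem_iUnion.2 ⟨⟨Z, hZ⟩, ?_⟩
    have hg := hZ.1.isGenericPoint_genericPoint_closure
    rw [(isClosed_of_mem_irreducibleComponents Z hZ).closure_eq] at hg
    exact (hg.specializes (hyZ rfl)).mem_closed ((p ⟨Z, hZ⟩).isClosedMap.isClosed_range) (hpη ⟨Z, hZ⟩)
  haveI : CompactSpace ↥(∐ P) := QuasiCompact.compactSpace_of_compactSpace (Sigma.desc p)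
  have hcov : ∀ y : ↥(∐ P), ∃ (O : (∐ P).Opens) (j : E.I₀) (h : (O : Scheme.{u}) ⟶ E.X j),
      y ∈ O ∧ h ≫ E.f j = O.ι ≫ Sigma.desc p := fun y => by
    obtain ⟨Z, x, rfl⟩ := (sigmaOpenCover P).exists_eq y
    obtain ⟨W, j, h, hx, hh⟩ := hW Z x
    refine ⟨(Sigma.ι P Z) ''ᵁ W, j, ((Sigma.ι P Z).isoImage W).inv ≫ h, ⟨x, hx, rfl⟩, ?_⟩
    rw [Category.assoc, hh, ← cancel_epi ((Sigma.ι P Z).isoImage W).hom, Iso.hom_inv_id_assoc,
      Scheme.Hom.isoImage_hom_ι_assoc, Sigma.ι_desc]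
  choose O j h hO hh using hcov
  obtain ⟨s, hs⟩ := isCompact_univ.elim_finite_subcover (fun y => (O y : Set ↥(∐ P))) (fun y => (O y).2)
    (fun y _ => Set.mem_iUnion.2 ⟨y, hO y⟩)
  refine ⟨∐ P, Sigma.desc p, s.card, fun i => O (s.equivFin.symm i).1, inferInstance, inferInstance, ?_,
    fun i => ⟨_, h _, hh _⟩⟩
  refine eq_top_iff.2 fun y _ => TopologicalSpace.Opens.mem_iSup.2 ?_
  obtain ⟨z, hz, hyz⟩ := Set.mem_iUnion₂.1 (hs (Set.mem_univ y))
  exact ⟨s.equivFin ⟨z, hz⟩, by simpa using hyz⟩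

end Groth.Agent.HTopCov
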