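import Groth.Agent.MorLib.IdealFG3
import Groth.Agent.HTopCov.AlmostBlowUp
import Groth.Agent.S12442
import Mathlib.AlgebraicGeometry.AffineTransitionLimit
import Mathlib.CategoryTheory.Limits.Preserves.Over

/-!
Two almost blow up squares with the same centre are dominated by a third one.
-/

set_option backward.isDefEq.respectTransparency false
set_option backward.isDefEq.respectTransparency.types false
set_option linter.style.haveILetI false

universe u

namespace Groth.Agent.HTopCov

open CategoryTheory CategoryTheory.Limits AlgebraicGeometry HTop Groth.Agent.MorLib.IdealFG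
open Scheme (IdealSheafData)

/-- A morphism from a closed subscheme to a finitely presented scheme extends to a finitely presented
closed subscheme. -/
theorem exists_extend_sub {Y T X : Scheme.{u}} [CompactSpace Y] [QuasiSeparatedSpace Y] (K : Y.IdealSheafData)
    (f : Y ⟶ X) (q : T ⟶ X) [LocallyOfFinitePresentation q] (a : K.subscheme ⟶ T)
    (ha : a ≫ q = K.subschemeι ≫ f) :
    ∃ (V : Sub K) (m : V.1.subscheme ⟶ T),
      IdealSheafData.inclusion V.2.1 ≫ m = a ∧ m ≫ q = V.1.subschemeι ≫ f := by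
  let D := subDiagram f K ⋙ Over.forget X
  haveI : IsConnected (Sub K)ᵒᵖ := IsCofiltered.isConnected _
  let hc : IsLimit ((Over.forget X).mapCone (subCone f K)) := isLimitOfPreserves _ (isLimitSubCone f K)
  haveI : ∀ j, CompactSpace (D.obj j) := fun j =>
    QuasiCompact.compactSpace_of_compactSpace j.unop.1.subschemeι
  haveI : ∀ j, QuasiSeparatedSpace (D.obj j) := fun j =>
    quasiSeparatedSpace_of_quasiSeparated j.unop.1.subschemeι
  haveI : ∀ {i j : (Sub K)ᵒᵖ} (h : i ⟶ j), IsAffineHom (D.map h) := fun h => by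
    haveI := isClosedImmersion_map f K h
    exact inferInstanceAs (IsAffineHom ((subDiagram f K).map h).left)
  obtain ⟨j, m, hm, hm'⟩ := Scheme.exists_π_app_comp_eq_of_locallyOfFinitePresentation
    D { app := fun j => ((subDiagram f K).obj j).hom
        naturality := fun i j h => (Over.w ((subDiagram f K).map h)).trans (Category.comp_id _).symm }
    q ((Over.forget X).mapCone (subCone f K)) hc a (by
      ext j
      exact (Over.w ((subCone f K).π.app j)).trans ha.symm)
  exact ⟨j.unop, m, hm, hm'⟩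

theorem exists_dominating {Z X E₁ X₁ E₂ X₂ : Scheme.{u}} [CompactSpace X] [QuasiSeparatedSpace X] (i : Z ⟶ X)
    {e₁ : E₁ ⟶ X₁} {π₁ : E₁ ⟶ Z} {b₁ : X₁ ⟶ X} (h₁ : IsAlmostBlowUpSquare e₁ π₁ b₁ i)
    {e₂ : E₂ ⟶ X₂} {π₂ : E₂ ⟶ Z} {b₂ : X₂ ⟶ X} (h₂ : IsAlmostBlowUpSquare e₂ π₂ b₂ i) :
    ∃ (E X' : Scheme.{u}) (e : E ⟶ X') (π : E ⟶ Z) (b : X' ⟶ X) (j₁ : X' ⟶ X₁) (j₂ : X' ⟶ X₂),
      IsAlmostBlowUpSquare e π b i ∧ IsClosedImmersion j₁ ∧ IsClosedImmersion j₂ ∧ j₁ ≫ b₁ = b ∧ j₂ ≫ b₂ = b := by
  haveI := h₁.isProper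
  haveI := h₁.finitePresentation
  haveI := h₂.isProper
  haveI := h₂.finitePresentation
  haveI : CompactSpace X₁ := QuasiCompact.compactSpace_of_compactSpace b₁
  haveI : QuasiSeparatedSpace X₁ := quasiSeparatedSpace_of_quasiSeparated b₁
  haveI : CompactSpace X₂ := QuasiCompact.compactSpace_of_compactSpace b₂
  haveI : QuasiSeparatedSpace X₂ := quasiSeparatedSpace_of_quasiSeparated b₂
  let K₁ := supportedOn (i.ker.comap b₁)
  let K₂ := supportedOn (i.ker.comap b₂)
  have hE₁ : BlowUp.IsEffCartierIdeal (i.ker.comap (K₁.subschemeι ≫ b₁)) := h₁.isBlowUp.1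
  obtain ⟨u, hu, -⟩ := h₂.isBlowUp.2 _ (K₁.subschemeι ≫ b₁) hE₁
  obtain ⟨v, hv, -⟩ := h₁.isBlowUp.2 _ (K₂.subschemeι ≫ b₂) h₂.isBlowUp.1
  have huv : u ≫ v = 𝟙 _ := by
    obtain ⟨_, -, hun⟩ := h₁.isBlowUp.2 _ (K₁.subschemeι ≫ b₁) hE₁
    exact (hun _ (show (u ≫ v) ≫ _ = _ by rw [Category.assoc, hv, hu])).trans (hun _ (Category.id_comp _)).symm
  obtain ⟨V, m, hVm, hm⟩ := exists_extend_sub K₁ b₁ b₂ (u ≫ K₂.subschemeι) ((Category.assoc _ _ _).trans hu)
  obtain ⟨U, n, hUn, hn⟩ := exists_extend_sub K₂ b₂ b₁ (v ≫ K₁.subschemeι) ((Category.assoc _ _ _).trans hv)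
  haveI : LocallyOfFinitePresentation V.1.subschemeι := lfp_subschemeι V.2.2
  haveI : LocallyOfFinitePresentation U.1.subschemeι := lfp_subschemeι U.2.2
  let p₁ := pullback.fst m U.1.subschemeι
  let p₂ := pullback.snd m U.1.subschemeι
  haveI : IsClosedImmersion p₁ := MorphismProperty.pullback_fst _ _ inferInstance
  haveI : LocallyOfFinitePresentation p₁ := MorphismProperty.pullback_fst _ _ inferInstance
  have hp : (p₁ ≫ V.1.subschemeι) ≫ b₁ = (p₂ ≫ n) ≫ b₁ := by
    rw [Category.assoc, Category.assoc, hn, ← hm, ← Category.assoc, pullback.condition, Category.assoc]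
  let L := pullback.lift (f := b₁) (g := b₁) (p₁ ≫ V.1.subschemeι) (p₂ ≫ n) hp
  let d := pullback.fst L (pullback.diagonal b₁)
  haveI : IsClosedImmersion d := MorphismProperty.pullback_fst _ _ inferInstance
  haveI : LocallyOfFinitePresentation (pullback.diagonal b₁) := by
    haveI : LocallyOfFinitePresentation (pullback.diagonal b₁ ≫ pullback.fst b₁ b₁) := by
      rw [pullback.diagonal_fst]
      infer_instance
    exact Groth.Agent.S12442.result _ (pullback.fst b₁ b₁)
  haveI : LocallyOfFinitePresentation d := MorphismProperty.pullback_fst _ _ inferInstance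
  let w := d ≫ p₁ ≫ V.1.subschemeι
  have hd : w = (d ≫ p₂) ≫ n := by
    have e1 := congrArg (· ≫ pullback.fst b₁ b₁) (pullback.condition (f := L) (g := pullback.diagonal b₁))
    have e2 := congrArg (· ≫ pullback.snd b₁ b₁) (pullback.condition (f := L) (g := pullback.diagonal b₁))
    simp only [L, Category.assoc, pullback.lift_fst, pullback.lift_snd, pullback.diagonal_fst,
      pullback.diagonal_snd, Category.comp_id] at e1 e2
    rw [Category.assoc]
    exact e1.trans e2.symm
  haveI : IsClosedImmersion w := inferInstanceAs (IsClosedImmersion (d ≫ p₁ ≫ V.1.subschemeι))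
  haveI : LocallyOfFinitePresentation w :=
    inferInstanceAs (LocallyOfFinitePresentation (d ≫ p₁ ≫ V.1.subschemeι))
  haveI : IsSeparated n := by
    haveI : IsSeparated (n ≫ b₁) := by rw [hn]; infer_instance
    exact IsSeparated.of_comp n b₁
  haveI : IsClosedImmersion (d ≫ p₂) := by
    haveI : IsClosedImmersion ((d ≫ p₂) ≫ n) := hd ▸ inferInstance
    exact IsClosedImmersion.of_comp (d ≫ p₂) n
  have hker : w.ker ≤ supportedOn (i.ker.comap b₁) := by
    let lP : K₁.subscheme ⟶ pullback m U.1.subschemeι :=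
      pullback.lift (IdealSheafData.inclusion V.2.1) (u ≫ IdealSheafData.inclusion U.2.1)
        (by rw [hVm, Category.assoc, IdealSheafData.inclusion_subschemeι])
    have hl : lP ≫ L = K₁.subschemeι ≫ pullback.diagonal b₁ := by
      refine pullback.hom_ext ?_ ?_ <;>
        simp only [L, lP, p₁, p₂, Category.assoc, pullback.lift_fst, pullback.lift_snd, pullback.diagonal_fst,
          pullback.diagonal_snd, Category.comp_id, pullback.lift_fst_assoc, pullback.lift_snd_assoc,
          IdealSheafData.inclusion_subschemeι]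
      rw [hUn, reassoc_of% huv]
    have hw : pullback.lift lP K₁.subschemeι hl ≫ w = K₁.subschemeι := by
      simp only [w, d, p₁, lP, pullback.lift_fst_assoc, IdealSheafData.inclusion_subschemeι]
    calc w.ker ≤ (pullback.lift lP K₁.subschemeι hl ≫ w).ker := Scheme.Hom.le_ker_comp _ _
      _ = K₁ := by rw [hw, IdealSheafData.ker_subschemeι]
  refine ⟨pullback e₁ w, _, pullback.snd e₁ w, pullback.fst e₁ w ≫ π₁, w ≫ b₁, w, (d ≫ p₂) ≫ U.1.subschemeι,
    (ker_le_iff_isAlmostBlowUpSquare h₁ w (IsPullback.of_hasPullback e₁ w)).1 hker, inferInstance, inferInstance,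
    rfl, ?_⟩
  show ((d ≫ p₂) ≫ U.1.subschemeι) ≫ b₂ = w ≫ b₁
  rw [Category.assoc, ← hn, ← Category.assoc, ← hd]

end Groth.Agent.HTopCov
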