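import Groth.Agent.Approx.Model
import Groth.Agent.ConsPropLib.Approx
import Groth.Agent.MorLib.DescendCI
import Groth.Agent.HTopCov.PhSquare

/-!
Almost blow up squares exist with any finitely presented centre.
-/

set_option backward.isDefEq.respectTransparency false
set_option backward.isDefEq.respectTransparency.types false
set_option linter.style.haveILetI false

universe u

namespace Groth.Agent.HTopCov

open CategoryTheory CategoryTheory.Limits AlgebraicGeometry HTop Groth.Agent.ConsPropLib Groth.Agent.MorLib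

/-- The blow up of a Noetherian scheme gives an almost blow up square. -/
theorem exists_square_noetherian {Z X : Scheme.{u}} [IsLocallyNoetherian X] (i : Z ⟶ X) [IsClosedImmersion i] :
    ∃ (E X' : Scheme.{u}) (e : E ⟶ X') (π : E ⟶ Z) (b : X' ⟶ X), IsAlmostBlowUpSquare e π b i := by
  obtain ⟨X', b, hb⟩ := Groth.Agent.BlowUpLib.exists_blowUp i.ker
  haveI : IsProper b := Groth.Agent.BlowUpLib.isProper_of_isBlowUp _ hb (isFiniteTypeIdeal_ker i)
  refine ⟨pullback b i, X', pullback.fst _ _, pullback.snd _ _, b, inferInstance, inferInstance,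
    IsPullback.of_hasPullback _ _, isLocPrincipal_of_isEffCartier hb.1, inferInstance, inferInstance, ?_⟩
  haveI : IsIso (⊥ : X'.IdealSheafData).subschemeι := inferInstance
  rw [supportedOn_eq_bot hb.1]
  exact Groth.Agent.BlowUpLib.isBlowUp_iso_comp _ hb

theorem exists_isAlmostBlowUpSquare {Z X : Scheme.{u}} [CompactSpace X] [QuasiSeparatedSpace X] (i : Z ⟶ X)
    [IsClosedImmersion i] [LocallyOfFinitePresentation i] :
    ∃ (E X' : Scheme.{u}) (e : E ⟶ X') (π : E ⟶ Z) (b : X' ⟶ X), IsAlmostBlowUpSquare e π b i := by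
  obtain ⟨P, g, hg, hP, hft⟩ := Groth.Agent.Approx.hasModel X
  haveI := Groth.Agent.Approx.quasiSeparatedSpace_of_ftz hft
  obtain ⟨hc⟩ := Groth.Agent.Approx.nonempty_isLimit_sch g
  haveI : ∀ j, CompactSpace ((Groth.Agent.Approx.sysSch g).obj j) := fun j => Groth.Agent.Approx.compactSpace_spec g j.unop
  haveI : ∀ j, QuasiSeparatedSpace ((Groth.Agent.Approx.sysSch g).obj j) := fun j =>
    Groth.Agent.Approx.quasiSeparatedSpace_spec g j.unop
  obtain ⟨k, Z₀, i₀, gz, hm⟩ := hasModel (c := Groth.Agent.Approx.coneSch g) hc i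
  haveI := hm.lfp
  haveI := hm.qc
  haveI := hm.qs
  obtain ⟨j, φ, hj⟩ := Desc.descend (Groth.Agent.Approx.sysSch g) _ hc (P := @IsClosedImmersion)
    (Q := @LocallyOfFiniteType) k Desc.core_closedImmersion i₀ inferInstance
    (Desc.of_two @IsClosedImmersion hm.sq (IsPullback.of_hasPullback _ _) ‹_›)
  haveI := hj
  haveI := Groth.Agent.Approx.isLocallyNoetherian_of_ftz (Groth.Agent.Approx.ftz_system g hft j.unop)
  haveI : IsLocallyNoetherian ((Groth.Agent.Approx.sysSch g).obj j) :=
    Groth.Agent.Approx.isLocallyNoetherian_of_ftz (Groth.Agent.Approx.ftz_system g hft j.unop)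
  obtain ⟨E₁, X₁, e₁, π₁, b₁, h⟩ := exists_square_noetherian (pullback.snd i₀ ((Groth.Agent.Approx.sysSch g).map φ))
  let q : X ⟶ (Groth.Agent.Approx.sysSch g).obj j := (Groth.Agent.Approx.coneSch g).π.app j
  let X' := pullback b₁ q
  let E := pullback e₁ (pullback.fst b₁ q)
  have hZ := (hm.pushed φ).sq
  refine ⟨E, X', pullback.snd e₁ _,
    hZ.lift (pullback.fst e₁ (pullback.fst b₁ q) ≫ π₁) (pullback.snd e₁ (pullback.fst b₁ q) ≫ pullback.snd b₁ q) ?_,
    pullback.snd b₁ q,
    isAlmostBlowUpSquare_baseChange h q (IsPullback.of_hasPullback b₁ q) hZ (IsPullback.of_hasPullback e₁ _)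
      (hZ.lift_snd _ _ _)⟩
  rw [Category.assoc, ← h.isPullback.w, reassoc_of% (pullback.condition (f := e₁) (g := pullback.fst b₁ q)),
    pullback.condition, Category.assoc]

end Groth.Agent.HTopCov
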