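import Groth.Agent.HTopCov.ValPh
import Groth.Agent.HTopCov.Sheaf
import Groth.Agent.LimSm.Cover
import Groth.Agent.ConsPropLib.CoreProper
import Groth.Agent.ConsPropLib.Cores

/-!
Standard h coverings descend along cofiltered limits of affine schemes.
-/

set_option backward.isDefEq.respectTransparency false
set_option backward.isDefEq.respectTransparency.types false
set_option linter.style.haveILetI false
set_option maxHeartbeats 800000

universe w u

namespace Groth.Agent.HTopCov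

open CategoryTheory CategoryTheory.Limits AlgebraicGeometry HTop IsLocalRing Groth.Agent.ConsPropLib Groth.Agent.MorLib

variable {I : Type u} [SmallCategory I] [IsCofiltered I] {D : I ⥤ Scheme.{u}} [∀ i, IsAffine (D.obj i)]
  {c : Cone D}

theorem exists_affine_model (hc : IsLimit c) {X : Scheme.{u}} [IsAffine X] (f : X ⟶ c.pt)
    [LocallyOfFinitePresentation f] :
    ∃ (i : I) (Xi : Scheme.{u}) (fi : Xi ⟶ D.obj i) (g : X ⟶ Xi), IsModel f i fi g ∧ IsAffine Xi := by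
  haveI : IsAffine c.pt := Scheme.isAffine_of_isLimit _ hc
  haveI : ∀ {i j : I} (f : i ⟶ j), IsAffineHom (D.map f) := fun f => isAffineHom_of_isAffine _
  obtain ⟨i, Xi, fi, g, hm⟩ := hasModel_of_isAffine hc f
  haveI := hm.compactSpace
  haveI := hm.quasiSeparatedSpace
  haveI : IsAffine (BC.cone D fi hm.sq).pt := inferInstanceAs (IsAffine X)
  obtain ⟨o, ho⟩ := Scheme.exists_isAffine_of_isLimit (BC.diag D fi) (BC.cone D fi hm.sq)
    (BC.isLimitCone D fi hm.sq hc)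
  exact ⟨o.left, _, _, _, hm.pushed o.hom, ho⟩

/-- A standard h covering of a limit of affine schemes comes from a stage. -/
theorem exists_standardH_descends (hc : IsLimit c) (V : PreZeroHypercover.{w} c.pt) (hV : IsStandardH V) :
    ∃ (i : I) (W : PreZeroHypercover.{w} (D.obj i)), IsStandardH W ∧ ∃ (σ : V.I₀ ≃ W.I₀)
      (e : ∀ j, V.X j ≅ pullback (c.π.app i) (W.f (σ j))),
      ∀ j, (e j).hom ≫ pullback.fst (c.π.app i) (W.f (σ j)) = V.f j := by
  classical
  haveI : ∀ {i j : I} (f : i ⟶ j), IsAffineHom (D.map f) := fun f => isAffineHom_of_isAffine _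
  haveI := hV.isAffine
  haveI := hV.finite_index
  haveI := hV.isAffine_obj
  haveI := Fintype.ofFinite V.I₀
  haveI := hV.finitePresentation
  -- models of the members
  choose m X₀ f₀ g₀ hm₀ haff₀ using fun j => exists_affine_model hc (V.f j)
  -- a proper surjective refinement
  obtain ⟨Y, g, n, O, hgp, hgs, hgfp, hOa, hO, hl⟩ :=
    exists_proper_fp_affineCover V hV.finitePresentation hV.isVCover
  choose aOf h hh using hl
  haveI := hgp; haveI := hgs; haveI := hgfp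
  obtain ⟨iy, Y₀, fy₀, gy₀, hy₀⟩ := hasModel hc g
  obtain ⟨i, hi⟩ := IsCofiltered.inf_objs_exists (insert iy (Finset.univ.image m))
  let φX : ∀ j, i ⟶ m j := fun j =>
    (hi (Finset.mem_insert_of_mem (Finset.mem_image_of_mem m (Finset.mem_univ j)))).some
  let φY : i ⟶ iy := (hi (Finset.mem_insert_self _ _)).some
  obtain ⟨Y₁, fy₁, gy₁, hy₁⟩ : ∃ (Y₁ : Scheme.{u}) (fy₁ : Y₁ ⟶ D.obj i) (gy₁ : Y ⟶ Y₁), IsModel g i fy₁ gy₁ :=
    ⟨_, _, _, hy₀.pushed φY⟩
  haveI := hy₁.lfp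
  haveI := hy₁.compactSpace
  haveI := hy₁.quasiSeparatedSpace
  obtain ⟨k₁, ψ₁, hk₁⟩ := core_isProper I D c hc (fun _ _ _ => inferInstance) i inferInstance fy₁
    inferInstance inferInstance hy₁.lfp (Desc.of_two @IsProper hy₁.sq (IsPullback.of_hasPullback _ _) hgp)
  obtain ⟨Y₂, fy₂, gy₂, hy₂, hp₂⟩ : ∃ (Y₂ : Scheme.{u}) (fy₂ : Y₂ ⟶ D.obj k₁) (gy₂ : Y ⟶ Y₂),
      IsModel g k₁ fy₂ gy₂ ∧ IsProper fy₂ := ⟨_, _, _, hy₁.pushed ψ₁, hk₁⟩
  haveI := hy₂.lfp
  haveI := hy₂.compactSpace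
  haveI := hy₂.quasiSeparatedSpace
  obtain ⟨p, ψ₂, hk₂⟩ := core_surjective I D c hc (fun _ _ _ => inferInstance) k₁ inferInstance fy₂
    inferInstance inferInstance hy₂.lfp (Desc.of_two @Surjective hy₂.sq (IsPullback.of_hasPullback _ _) hgs)
  obtain ⟨Yp, fy, gy, hy, hprop, hsurj⟩ : ∃ (Yp : Scheme.{u}) (fy : Yp ⟶ D.obj p) (gy : Y ⟶ Yp),
      IsModel g p fy gy ∧ IsProper fy ∧ Surjective fy :=
    ⟨_, _, _, hy₂.pushed ψ₂, MorphismProperty.pullback_snd _ _ hp₂, hk₂⟩
  haveI := hy.compactSpace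
  haveI := hy.quasiSeparatedSpace
  -- the opens
  choose ja φa Wa hWac hWa using fun a => IsModel.exists_open hc hy (O a) (hOa a).isCompact
  obtain ⟨q, ψ, χ, hχ⟩ := IsCofiltered.wideCospan φa
  let oq : Over p := Over.mk ψ
  let up : ∀ a, oq ⟶ Over.mk (φa a) := fun a => Over.homMk (χ a) (hχ a)
  let U₁ : ∀ a, ((BC.diag D fy).obj oq).Opens := fun a => (BC.diag D fy).map (up a) ⁻¹ᵁ Wa a
  have hU₁ : ∀ a, (BC.cone D fy hy.sq).π.app oq ⁻¹ᵁ U₁ a = O a := fun a => by
    show _ ⁻¹ᵁ ((BC.diag D fy).map (up a) ⁻¹ᵁ Wa a) = _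
    rw [← Scheme.Hom.comp_preimage, (BC.cone D fy hy.sq).w (up a)]
    exact hWa a
  obtain ⟨o, f, hf⟩ := exists_map_eq_top (BC.diag D fy) (BC.cone D fy hy.sq) (BC.isLimitCone D fy hy.sq hc)
    (i := oq) (⨆ a, U₁ a) (by
      rw [Scheme.Hom.preimage_iSup]
      simp only [hU₁]
      exact hO)
  let r := o.left
  let Yr : Scheme.{u} := pullback fy (D.map o.hom)
  let fr : Yr ⟶ D.obj r := pullback.snd fy (D.map o.hom)
  have hyr : IsModel g r fr (hy.push o.hom) := hy.pushed o.hom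
  let U : Fin n → Yr.Opens := fun a => (BC.diag D fy).map f ⁻¹ᵁ U₁ a
  have hU : ∀ a, hy.push o.hom ⁻¹ᵁ U a = O a := fun a => by
    show (BC.cone D fy hy.sq).π.app o ⁻¹ᵁ ((BC.diag D fy).map f ⁻¹ᵁ U₁ a) = _
    rw [← Scheme.Hom.comp_preimage, (BC.cone D fy hy.sq).w f]
    exact hU₁ a
  have hUtop : ∀ y : Yr, ∃ a, y ∈ U a := fun y => by
    have : y ∈ (BC.diag D fy).map f ⁻¹ᵁ ⨆ a, U₁ a := by rw [hf]; trivial
    rw [Scheme.Hom.preimage_iSup] at this
    exact TopologicalSpace.Opens.mem_iSup.1 this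
  have hUc : ∀ a, IsCompact (U a : Set Yr) := fun a =>
    Scheme.Hom.isCompact_preimage _ (Scheme.Hom.isCompact_preimage _ (hWac a))
  choose gU hgU hmU using fun a => hyr.restrict (hUc a) (hU a)
  -- the members at the stage `r`
  let θX : ∀ j, r ⟶ m j := fun j => (o.hom ≫ ψ₂ ≫ ψ₁) ≫ φX j
  let Xr : V.I₀ → Scheme.{u} := fun j => pullback (f₀ j) (D.map (θX j))
  let xr : ∀ j, Xr j ⟶ D.obj r := fun j => pullback.snd (f₀ j) (D.map (θX j))
  have hmX : ∀ j, IsModel (V.f j) r (xr j) ((hm₀ j).push (θX j)) := fun j => (hm₀ j).pushed (θX j)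
  haveI := haff₀
  haveI : ∀ j, IsAffine (Xr j) := fun j => inferInstanceAs (IsAffine (pullback _ _))
  haveI : ∀ j, LocallyOfFinitePresentation (xr j) := fun j => (hmX j).lfp
  -- descend the morphisms
  let u : ∀ a, (U a).toScheme ⟶ D.obj r := fun a => (U a).ι ≫ fr
  haveI : ∀ a, CompactSpace (U a).toScheme := fun a => isCompact_iff_compactSpace.1 (hUc a)
  haveI := hyr.quasiSeparatedSpace
  haveI : ∀ a, QuasiSeparatedSpace (U a).toScheme := fun a => quasiSeparatedSpace_of_quasiSeparated (U a).ι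
  have hmor : ∀ a, ∃ (oa : Over r) (μ : pullback (u a) (D.map oa.hom) ⟶ Xr (aOf a)),
      μ ≫ xr (aOf a) = pullback.snd (u a) (D.map oa.hom) ≫ D.map oa.hom := fun a => by
    obtain ⟨oa, μ, -, hμ⟩ := Scheme.exists_π_app_comp_eq_of_locallyOfFinitePresentation
      (BC.diag D (u a))
      (BC.toBase D (u a) ≫
        ({ app := fun o => D.map o.hom
           naturality := fun o o' φ => by
            show D.map φ.left ≫ D.map o'.hom = D.map o.hom ≫ 𝟙 _
            rw [← D.map_comp, Over.w, Category.comp_id] } : Over.forget r ⋙ D ⟶ (Functor.const (Over r)).obj (D.obj r)))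
      (xr (aOf a)) (BC.cone D (u a) (hmU a).sq) (BC.isLimitCone D (u a) (hmU a).sq hc)
      (h a ≫ (hm₀ (aOf a)).push (θX (aOf a))) (by
        ext o
        show BC.proj D (u a) (hmU a).sq o ≫ pullback.snd (u a) (D.map o.hom) ≫ D.map o.hom = _
        rw [BC.proj_snd_assoc]
        show ((O a).ι ≫ g) ≫ c.π.app o.left ≫ D.map o.hom = (h a ≫ (hm₀ (aOf a)).push _) ≫ xr (aOf a)
        rw [c.w, Category.assoc (h a), (hm₀ (aOf a)).push_snd, reassoc_of% (hh a), Category.assoc])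
    exact ⟨oa, μ, hμ⟩
  choose oa μ hμ using hmor
  obtain ⟨s, θ, χ', hχ'⟩ := IsCofiltered.wideCospan (fun a => (oa a).hom)
  let Wf : PreZeroHypercover.{w} (D.obj s) :=
    ⟨V.I₀, fun j => pullback (xr j) (D.map θ), fun j => pullback.snd (xr j) (D.map θ)⟩
  haveI : IsProper (pullback.snd fr (D.map θ)) :=
    MorphismProperty.pullback_snd _ _ (MorphismProperty.pullback_snd _ _ hprop)
  haveI : Surjective (pullback.snd fr (D.map θ)) :=
    MorphismProperty.pullback_snd _ _ (MorphismProperty.pullback_snd _ _ hsurj)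
  have hW : IsStandardV Wf := ⟨inferInstance, inferInstanceAs (Finite V.I₀),
    fun j => inferInstanceAs (IsAffine (pullback (xr j) (D.map θ))), fun R _ _ γ => by
    obtain ⟨R', hR, hR', φ, hφ, ⟨⟩, l, hl⟩ :=
      hasValLift_of_isVCover (isVCover_of_proper.{0} (pullback.snd fr (D.map θ))) R γ
    let l₁ : Spec R' ⟶ Yr := (show Spec R' ⟶ pullback fr (D.map θ) from l) ≫ pullback.fst fr (D.map θ)
    have hl₁ : l₁ ≫ fr = (Spec.map φ ≫ γ) ≫ D.map θ := by
      rw [Category.assoc, pullback.condition, ← Category.assoc]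
      exact congrArg (· ≫ D.map θ) hl
    obtain ⟨a, ha⟩ := hUtop (l₁ (closedPoint R'))
    obtain ⟨l₂, hl₂⟩ := exists_lift_of_closedPoint (U a).ι l₁ (by rw [Scheme.Opens.range_ι]; exact ha)
    let l₃ : Spec R' ⟶ pullback (u a) (D.map (oa a).hom) :=
      pullback.lift l₂ ((Spec.map φ ≫ γ) ≫ D.map (χ' a)) (by
        show l₂ ≫ (U a).ι ≫ fr = _
        rw [reassoc_of% hl₂, hl₁, Category.assoc (Spec.map φ ≫ γ), ← D.map_comp, hχ'])
    refine ⟨R', hR, hR', φ, hφ, aOf a, pullback.lift (l₃ ≫ μ a) (Spec.map φ ≫ γ) ?_, pullback.lift_snd _ _ _⟩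
    rw [Category.assoc, hμ, pullback.lift_snd_assoc, Category.assoc (Spec.map φ ≫ γ), ← D.map_comp, hχ']⟩
  refine ⟨s, Wf, ⟨inferInstance, inferInstanceAs (Finite V.I₀), hW.isAffine_obj,
    fun j => MorphismProperty.pullback_snd _ _ (hmX j).lfp, isVCover_of_standardV hW⟩, Equiv.refl _,
    fun j => ((hmX j).pushed θ).sq.flip.isoPullback, fun j => IsPullback.isoPullback_hom_fst _⟩

end Groth.Agent.HTopCov
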