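import Groth.Agent.HTopCov.Points
import Mathlib.AlgebraicGeometry.Cover.QuasiCompact

/-!
Standard V coverings and V coverings: base change, composition, basic examples.
-/

set_option backward.isDefEq.respectTransparency false
set_option backward.isDefEq.respectTransparency.types false

universe w w' u

namespace Groth.Agent.HTopCov

open CategoryTheory CategoryTheory.Limits AlgebraicGeometry IsLocalRing HTop

variable {S T : Scheme.{u}}

theorem standardV_pullback₁ [IsAffine S] (g : S ⟶ T) (E : PreZeroHypercover.{w} T) (hE : IsStandardV E) :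
    IsStandardV (E.pullback₁ g) where
  isAffine := inferInstance
  finite_index := hE.finite_index
  isAffine_obj j := by
    haveI := hE.isAffine
    haveI := hE.isAffine_obj j
    exact inferInstanceAs (IsAffine (pullback g (E.f j)))
  lift V _ _ g₀ := by
    obtain ⟨W, hW, hW', φ, hφ, j, g', hg'⟩ := hE.lift V (g₀ ≫ g)
    refine ⟨W, hW, hW', φ, hφ, j, pullback.lift (Spec.map φ ≫ g₀) g' ?_, ?_⟩
    · rw [Category.assoc, hg']
    · exact pullback.lift_fst _ _ _

theorem standardV_bind (E : PreZeroHypercover.{w} T) (hE : IsStandardV E)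
    (F : ∀ j, PreZeroHypercover.{w'} (E.X j)) (hF : ∀ j, IsStandardV (F j)) : IsStandardV (E.bind F) where
  isAffine := hE.isAffine
  finite_index := by
    haveI := hE.finite_index
    haveI := fun j => (hF j).finite_index
    exact inferInstanceAs (Finite (Σ j : E.I₀, (F j).I₀))
  isAffine_obj p := (hF p.1).isAffine_obj p.2
  lift V _ _ g₀ := by
    obtain ⟨W, _, _, φ, hφ, j, g', hg'⟩ := hE.lift V g₀
    obtain ⟨W', hW, hW', ψ, hψ, k, g'', hg''⟩ := (hF j).lift W g'
    refine ⟨W', hW, hW', φ ≫ ψ, isExtVal_comp hφ hψ, ⟨j, k⟩, g'', ?_⟩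
    change g'' ≫ (F j).f k ≫ E.f j = _
    rw [← Category.assoc, hg'', Category.assoc, hg', Spec.map_comp, Category.assoc]

theorem standardV_of_flat [IsAffine T] (E : PreZeroHypercover.{w} T) (hfin : Finite E.I₀)
    (haff : ∀ j, IsAffine (E.X j)) (hflat : ∀ j, Flat (E.f j)) (hsurj : ∀ t : T, ∃ j x, E.f j x = t) :
    IsStandardV E where
  isAffine := inferInstance
  finite_index := hfin
  isAffine_obj := haff
  lift V _ _ g := by
    obtain ⟨j, x, hx⟩ := hsurj (g (closedPoint V))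
    obtain ⟨W, hW, hW', φ, l, hφ, hl, -⟩ := exists_lift_of_flat hflat V g x hx
    exact ⟨W, hW, hW', φ, hφ, j, l, hl⟩

theorem standardV_of_standardPh (E : PreZeroHypercover.{w} T) (hE : IsStandardPh E) : IsStandardV E where
  isAffine := hE.isAffine
  finite_index := hE.finite_index
  isAffine_obj := hE.isAffine_obj
  lift V _ _ g := by
    obtain ⟨U, f, ι, hf, hs, hι, hιf, hcov⟩ := hE.exists_proper
    obtain ⟨W, hW, hW', φ, l, hφ, hl⟩ := exists_lift_of_proper f V g
    obtain ⟨j, hj⟩ := hcov (l (closedPoint W))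
    haveI := hι j
    obtain ⟨l', hl'⟩ := exists_lift_of_closedPoint (ι j) l hj
    refine ⟨W, hW, hW', φ, hφ, j, l', ?_⟩
    rw [← hιf j, ← Category.assoc, hl', hl]

theorem standardPh_pullback₁ [IsAffine S] (g : S ⟶ T) (E : PreZeroHypercover.{w} T) (hE : IsStandardPh E) :
    IsStandardPh (E.pullback₁ g) where
  isAffine := inferInstance
  finite_index := hE.finite_index
  isAffine_obj j := by
    haveI := hE.isAffine
    haveI := hE.isAffine_obj j
    exact inferInstanceAs (IsAffine (pullback g (E.f j)))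
  exists_proper := by
    obtain ⟨U, f, ι, hf, hs, hι, hιf, hcov⟩ := hE.exists_proper
    let m (j : E.I₀) : pullback g (E.f j) ⟶ pullback g f :=
      pullback.lift (pullback.fst _ _) (pullback.snd _ _ ≫ ι j) (by rw [pullback.condition, Category.assoc, hιf])
    have sq (j : E.I₀) : IsPullback (m j) (pullback.snd g (E.f j)) (pullback.snd g f) (ι j) := by
      refine IsPullback.of_right (h₁₁ := m j) ?_ (pullback.lift_snd _ _ _) (IsPullback.of_hasPullback g f)
      simpa [m, hιf] using! IsPullback.of_hasPullback g (E.f j)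
    refine ⟨pullback g f, pullback.fst g f, m, inferInstance, inferInstance, fun j => ?_,
      fun j => pullback.lift_fst _ _ _, fun x => ?_⟩
    · haveI := hι j
      exact MorphismProperty.of_isPullback (P := @IsOpenImmersion) (sq j).flip inferInstance
    · obtain ⟨j, y, hy⟩ := hcov (pullback.snd g f x)
      obtain ⟨z, hz, -⟩ := Scheme.exists_preimage_of_isPullback (sq j) x y hy.symm
      exact ⟨j, z, hz⟩

/-- The family of a finite affine Zariski cover is standard V. -/
theorem exists_standardV_of_forall_mem [IsAffine S] {κ : Type w} (U : κ → S.Opens) (hU : ∀ x, ∃ k, x ∈ U k) :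
    ∃ (F : PreZeroHypercover.{0} S), IsStandardV F ∧
      ∀ j, ∃ k, IsOpenImmersion (F.f j) ∧ Set.range (F.f j) ⊆ U k := by
  have h : ∀ x : S, ∃ (W : S.Opens) (k : κ), IsAffineOpen W ∧ x ∈ W ∧ W ≤ U k := fun x => by
    obtain ⟨k, hk⟩ := hU x
    obtain ⟨_, ⟨W, hW, rfl⟩, hxW, hle⟩ := S.isBasis_affineOpens.exists_subset_of_mem_open hk (U k).2
    exact ⟨W, k, hW, hxW, hle⟩
  choose W k hW hxW hle using h
  obtain ⟨s, hs⟩ := (isCompact_univ (X := S)).elim_finite_subcover (fun x => (W x : Set S))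
    (fun x => (W x).2) (fun x _ => Set.mem_iUnion.mpr ⟨x, hxW x⟩)
  let e := s.equivFin.symm
  refine ⟨⟨Fin s.card, fun j => (W (e j).1 : Scheme), fun j => (W (e j).1).ι⟩, ?_,
    fun j => ⟨k (e j).1, inferInstanceAs (IsOpenImmersion (W (e j).1).ι), ?_⟩⟩
  · refine standardV_of_flat _ (inferInstanceAs (Finite (Fin s.card))) (fun j => hW (e j).1) (fun j => inferInstanceAs (Flat (W (e j).1).ι)) fun t => ?_
    obtain ⟨x, hxs, hx⟩ := Set.mem_iUnion₂.mp (hs (Set.mem_univ t))
    refine ⟨e.symm ⟨x, hxs⟩, ⟨t, ?_⟩, rfl⟩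
    change t ∈ W (e (e.symm ⟨x, hxs⟩)).1
    rwa [Equiv.apply_symm_apply]
  · change Set.range (W (e j).1).ι ⊆ _
    rw [Scheme.Opens.range_ι]
    exact hle (e j).1

/-- A V covering is refined, over every affine scheme mapping to the base, by a standard V covering. -/
theorem IsVCover.exists_refine {E : PreZeroHypercover.{w} T} (hE : IsVCover E) [IsAffine S] (h : S ⟶ T) :
    ∃ F : PreZeroHypercover.{0} S, IsStandardV F ∧ RefinesOver h F E := by
  obtain ⟨G, hG, hGU⟩ := exists_standardV_of_forall_mem (S := S) (fun U : T.affineOpens => h ⁻¹ᵁ U.1)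
    fun x => by
      obtain ⟨U, hU, hx, -⟩ := exists_isAffineOpen_mem_and_subset (U := ⊤) (x := h x) trivial
      exact ⟨⟨U, hU⟩, hx⟩
  choose U hι hU using hGU
  choose F hF hFE using fun j => hE (U j)
  have hr : ∀ j, Set.range (G.f j ≫ h) ⊆ Set.range (U j).1.ι := by
    rintro j _ ⟨x, rfl⟩
    rw [Scheme.Opens.range_ι, Scheme.Hom.comp_apply]
    exact hU j ⟨x, rfl⟩
  let g := fun j => IsOpenImmersion.lift (U j).1.ι (G.f j ≫ h) (hr j)
  have hg : ∀ j, g j ≫ (U j).1.ι = G.f j ≫ h := fun j => IsOpenImmersion.lift_fac _ _ _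
  haveI := hG.isAffine_obj
  refine ⟨G.bind fun j => (F j).pullback₁ (g j), standardV_bind G hG _ fun j => standardV_pullback₁ (g j) _ (hF j),
    fun p => ?_⟩
  obtain ⟨i, k, hk⟩ := hFE p.1 p.2
  refine ⟨i, pullback.snd (g p.1) ((F p.1).f p.2) ≫ k, ?_⟩
  change (pullback.snd (g p.1) ((F p.1).f p.2) ≫ k) ≫ E.f i =
    (pullback.fst (g p.1) ((F p.1).f p.2) ≫ G.f p.1) ≫ h
  rw [Category.assoc, hk, ← Category.assoc, ← pullback.condition, Category.assoc, hg, ← Category.assoc]

theorem isVCover_pullback₁ (g : S ⟶ T) (E : PreZeroHypercover.{w} T) (hE : IsVCover E) :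
    IsVCover (E.pullback₁ g) := fun U => by
  haveI : IsAffine (U.1 : Scheme) := U.2
  obtain ⟨F, hF, hr⟩ := IsVCover.exists_refine hE (U.1.ι ≫ g)
  refine ⟨F, hF, fun j => ?_⟩
  obtain ⟨i, k, hk⟩ := hr j
  exact ⟨i, pullback.lift (F.f j ≫ U.1.ι) k (by rw [Category.assoc, hk]), pullback.lift_fst _ _ _⟩

theorem isVCover_bind (E : PreZeroHypercover.{w} T) (hE : IsVCover E)
    (F : ∀ i, PreZeroHypercover.{w'} (E.X i)) (hF : ∀ i, IsVCover (F i)) : IsVCover (E.bind F) := fun U => by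
  obtain ⟨G, hG, hr⟩ := hE U
  choose i k hk using hr
  haveI := hG.isAffine_obj
  choose H hH hr' using fun j => IsVCover.exists_refine (hF (i j)) (k j)
  refine ⟨G.bind H, standardV_bind G hG H hH, fun p => ?_⟩
  obtain ⟨i', k', hk'⟩ := hr' p.1 p.2
  refine ⟨⟨i p.1, i'⟩, k', ?_⟩
  change k' ≫ (F (i p.1)).f i' ≫ E.f (i p.1) = ((H p.1).f p.2 ≫ G.f p.1) ≫ U.1.ι
  rw [← Category.assoc, hk', Category.assoc, hk, Category.assoc]

theorem isVCover_of_qc (E : PreZeroHypercover.{w} T) [QuasiCompactCover E] (hflat : ∀ i, Flat (E.f i)) :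
    IsVCover E := fun U => by
  obtain ⟨n, i, V, hV, hUn⟩ := QuasiCompactCover.exists_isAffineOpen_of_isCompact E U.2.isCompact
  have hr : ∀ j, Set.range ((V j).ι ≫ E.f (i j)) ⊆ Set.range U.1.ι := by
    rintro j _ ⟨x, rfl⟩
    rw [Scheme.Opens.range_ι]
    exact hUn.subset (Set.mem_iUnion.mpr ⟨j, x.1, x.2, rfl⟩)
  haveI : IsAffine (U.1 : Scheme) := U.2
  let f := fun j => IsOpenImmersion.lift U.1.ι ((V j).ι ≫ E.f (i j)) (hr j)
  have hf : ∀ j, f j ≫ U.1.ι = (V j).ι ≫ E.f (i j) := fun j => IsOpenImmersion.lift_fac _ _ _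
  refine ⟨⟨Fin n, fun j => (V j : Scheme), f⟩, standardV_of_flat _ (inferInstanceAs (Finite (Fin n))) hV (fun j => ?_) (fun t => ?_),
    fun j => ⟨i j, (V j).ι, (hf j).symm⟩⟩
  · haveI := hflat (i j)
    change Flat (f j)
    haveI : Flat (f j ≫ U.1.ι) := hf j ▸ inferInstance
    exact MorphismProperty.of_postcomp (W' := @IsOpenImmersion) (W := @Flat) (f j) U.1.ι inferInstance inferInstance
  · obtain ⟨j, x, hx, hxt⟩ := Set.mem_iUnion.mp (hUn.superset t.2)
    refine ⟨j, ⟨x, hx⟩, U.1.ι.isOpenEmbedding.injective ?_⟩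
    change (f j ≫ U.1.ι) ⟨x, hx⟩ = _
    rw [hf j]
    exact hxt

theorem isVCover_of_proper {X Y : Scheme.{u}} (f : Y ⟶ X) [IsProper f] [Surjective f] :
    IsVCover (PreZeroHypercover.singleton.{w} f) := fun U => by
  haveI : IsAffine (U.1 : Scheme) := U.2
  haveI : IsProper (f ∣_ U.1) := IsZariskiLocalAtTarget.restrict ‹IsProper f› U.1
  haveI : Surjective (f ∣_ U.1) := IsZariskiLocalAtTarget.restrict ‹Surjective f› U.1
  let Y' : Scheme := (f ⁻¹ᵁ U.1).toScheme
  haveI : CompactSpace Y' := QuasiCompact.compactSpace_of_compactSpace (f ∣_ U.1)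
  let C := Y'.affineCover.finiteSubcover
  let e := (Finite.exists_equiv_fin C.I₀).choose_spec.some
  refine ⟨⟨Fin _, fun j => C.X (e.symm j), fun j => C.f (e.symm j) ≫ (f ∣_ U.1)⟩,
    standardV_of_standardPh _ ⟨inferInstance, inferInstanceAs (Finite (Fin _)), fun j => inferInstanceAs (IsAffine (Y'.affineCover.X _)), Y', f ∣_ U.1,
      fun j => C.f (e.symm j), inferInstance, inferInstance, fun j => C.map_prop _, fun j => rfl, fun x => ?_⟩,
    fun j => ⟨PUnit.unit, C.f (e.symm j) ≫ (f ⁻¹ᵁ U.1).ι, ?_⟩⟩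
  · obtain ⟨i, hi⟩ := C.exists_eq x
    exact ⟨e i, (show ∀ i', i' = i → x ∈ Set.range (C.f i') by rintro _ rfl; exact hi) _ (e.symm_apply_apply i)⟩
  · change (C.f (e.symm j) ≫ (f ⁻¹ᵁ U.1).ι) ≫ f = (C.f (e.symm j) ≫ (f ∣_ U.1)) ≫ U.1.ι
    rw [Category.assoc, Category.assoc, morphismRestrict_ι]

end Groth.Agent.HTopCov
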