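import Mathlib.RingTheory.NoetherNormalization
import Mathlib.RingTheory.ZariskisMainTheorem
import Mathlib.RingTheory.IntegralClosure.GoingDown
import Mathlib.RingTheory.Polynomial.IsIntegral
import Mathlib.RingTheory.Valuation.ValuationRing
import Mathlib.RingTheory.Valuation.ValuationSubring
import Mathlib.FieldTheory.IsAlgClosed.Basic
import Mathlib.RingTheory.Valuation.LocalSubring
import Mathlib.RingTheory.Bezout

/-!
# Sections over valuation rings with algebraically closed fraction field

An algebra of finite type over such a valuation ring which has a point in an extension of valuation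
rings has a section.
-/

set_option backward.isDefEq.respectTransparency false
set_option backward.isDefEq.respectTransparency.types false
set_option linter.style.haveILetI false

universe u v

namespace Groth.Agent.HTopCov

open Polynomial IsLocalRing

theorem exists_dvd_all {R : Type u} [CommRing R] [IsDomain R] [ValuationRing R] {α : Type*}
    (s : Finset α) (c : α → R) (hs : s.Nonempty) : ∃ i ∈ s, ∀ j ∈ s, c i ∣ c j := by
  classical
  induction hs using Finset.Nonempty.cons_induction with
  | singleton a => exact ⟨a, Finset.mem_singleton_self a, fun j hj => by rw [Finset.mem_singleton.1 hj]⟩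
  | cons a s ha hs ih =>
    obtain ⟨i, hi, h⟩ := ih
    rcases ValuationRing.dvd_total (c a) (c i) with h' | h'
    · refine ⟨a, Finset.mem_cons_self a s, fun j hj => ?_⟩
      rcases Finset.mem_cons.1 hj with rfl | hj
      · exact dvd_rfl
      · exact h'.trans (h j hj)
    · refine ⟨i, Finset.mem_cons_of_mem hi, fun j hj => ?_⟩
      rcases Finset.mem_cons.1 hj with rfl | hj
      · exact h'
      · exact h j hj

theorem isIntegrallyClosed_mvPolynomial (R : Type u) [CommRing R] [IsDomain R] [IsIntegrallyClosed R]
    (n : ℕ) : IsIntegrallyClosed (MvPolynomial (Fin n) R) := by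
  induction n with
  | zero => exact IsIntegrallyClosed.of_equiv (MvPolynomial.isEmptyAlgEquiv R (Fin 0)).symm.toRingEquiv
  | succ n ih =>
    exact IsIntegrallyClosed.of_equiv (MvPolynomial.finSuccEquiv R n).symm.toRingEquiv

variable {K : Type u} [Field K] [IsAlgClosed K] (R : ValuationSubring K)

/-- A domain integral over such a valuation ring is the ring itself. -/
theorem surjective_of_isIntegral {E : Type v} [CommRing E] [IsDomain E] (f : R →+* E)
    (hf : f.IsIntegral) : Function.Surjective f := by
  intro x
  obtain ⟨p, hp, hpx⟩ := hf x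
  have hsplit : (p.map (algebraMap R K)).Splits := IsAlgClosed.splits _
  have hm : (p.map (algebraMap R K)).Monic := hp.map _
  have hroot : ∀ a ∈ (p.map (algebraMap R K)).roots, ∃ r : R, algebraMap R K r = a := fun a ha => by
    refine IsIntegrallyClosed.isIntegral_iff.1 ⟨p, hp, ?_⟩
    rw [← Polynomial.eval_map]
    exact (Polynomial.mem_roots hm.ne_zero).1 ha
  choose! r hr using hroot
  have he : p = (((p.map (algebraMap R K)).roots.map r).map fun a => X - C a).prod := by
    refine Polynomial.map_injective _ (IsFractionRing.injective R K) ?_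
    rw [Polynomial.map_multiset_prod, Multiset.map_map, Multiset.map_map]
    conv_lhs => rw [hsplit.eq_prod_roots_of_monic hm]
    refine congrArg Multiset.prod (Multiset.map_congr rfl fun a ha => ?_)
    simp [hr a ha]
  rw [he, ← coe_eval₂RingHom, map_multiset_prod, Multiset.prod_eq_zero_iff, Multiset.map_map,
    Multiset.mem_map] at hpx
  obtain ⟨a, -, ha⟩ := hpx
  refine ⟨a, ?_⟩
  simp only [Function.comp_apply, coe_eval₂RingHom, eval₂_sub, eval₂_X, eval₂_C, sub_eq_zero] at ha
  exact ha.symm

theorem exists_prime_over {A B : Type*} [CommRing A] [CommRing B] (g : A →+* B)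
    (hg : Function.Injective g) (hgf : g.IsIntegral) (o : Ideal A) [o.IsPrime] :
    ∃ p₀ : Ideal B, p₀.IsPrime ∧ p₀.comap g = o := by
  letI := g.toAlgebra
  haveI : Algebra.IsIntegral A B := ⟨hgf⟩
  obtain ⟨Q, -, hQ, hQo⟩ := Ideal.exists_ideal_over_prime_of_isIntegral o (⊥ : Ideal B) (by
    rw [← RingHom.ker_eq_comap_bot,
      (RingHom.injective_iff_ker_eq_bot _).1 (show Function.Injective (algebraMap A B) from hg)]
    exact bot_le)
  exact ⟨Q, hQ, hQo⟩

theorem weaklyQuasiFiniteAt_of_finite {P D : Type*} [CommRing P] [CommRing D] [Algebra P D]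
    (p : Ideal D) [p.IsPrime] (I : Ideal D) (hI : I ≤ (p.under P).map (algebraMap P D))
    (hfin : ((Ideal.Quotient.mk I).comp (algebraMap P D)).Finite) :
    Algebra.WeaklyQuasiFiniteAt P p := by
  haveI : Module.Finite P (D ⧸ (p.under P).map (algebraMap P D)) := by
    rw [← RingHom.finite_algebraMap]
    have e : algebraMap P (D ⧸ (p.under P).map (algebraMap P D)) =
        (Ideal.Quotient.factor hI).comp ((Ideal.Quotient.mk I).comp (algebraMap P D)) :=
      RingHom.ext fun a => rfl
    rw [e]
    exact RingHom.Finite.comp (RingHom.Finite.of_surjective _ (Ideal.Quotient.factor_surjective hI)) hfin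
  show Algebra.QuasiFiniteAt P _
  infer_instance

/-- The section through a quasi-finite point of the special fibre over a section of `P`. -/
theorem exists_section_of_quasiFinite {P D : Type*} [CommRing P] [IsDomain P] [IsIntegrallyClosed P]
    [CommRing D] [IsDomain D] [Algebra P D] [Algebra.FiniteType P D]
    (hinj : Function.Injective (algebraMap P D)) (ε : P →+* R) (c : R →+* P)
    (hεc : ∀ a, ε (c a) = a) (p : Ideal D) [p.IsPrime] (hq : RingHom.ker ε ≤ p.under P)
    (hm : ∀ a ∈ maximalIdeal R, c a ∈ p.under P) [Algebra.WeaklyQuasiFiniteAt P p] :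
    ∃ ψ : D →+* R, ∀ a, ψ (algebraMap P D (c a)) = a := by
  obtain ⟨r, hrp, hbij⟩ :=
    Algebra.ZariskisMainProperty.of_finiteType_of_weaklyQuasiFiniteAt (R := P) (S := D) p
  let C' := integralClosure P D
  haveI : FaithfulSMul P C' := (faithfulSMul_iff_algebraMap_injective P C').2
    fun a b h => hinj (congrArg Subtype.val h)
  let p₁ : Ideal C' := p.comap C'.val.toRingHom
  haveI : p₁.IsPrime := Ideal.IsPrime.comap _
  haveI : (RingHom.ker ε).IsPrime := RingHom.ker_isPrime _
  have hp₁ : p₁.under P = p.under P := rfl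
  haveI : p₁.LiesOver (p₁.under P) := ⟨rfl⟩
  obtain ⟨q, hle, hqp, hqo⟩ := Ideal.exists_ideal_le_liesOver_of_le (S := C') p₁ (hq.trans hp₁.ge)
  haveI := hqp
  let f : R →+* C' ⧸ q := (Ideal.Quotient.mk q).comp ((algebraMap P C').comp c)
  have hPf : (Ideal.Quotient.mk q).comp (algebraMap P C') = f.comp ε := RingHom.ext fun a => by
    show Ideal.Quotient.mk q (algebraMap P C' a) = Ideal.Quotient.mk q (algebraMap P C' (c (ε a)))
    rw [Ideal.Quotient.eq, ← map_sub]
    show a - c (ε a) ∈ q.under P
    rw [← hqo.over, RingHom.mem_ker, map_sub, hεc, sub_self]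
  have hfint : f.IsIntegral := fun x => by
    obtain ⟨y, rfl⟩ := Ideal.Quotient.mk_surjective x
    obtain ⟨pol, hmon, hy⟩ := Algebra.IsIntegral.isIntegral (R := P) y
    refine ⟨pol.map ε, hmon.map ε, ?_⟩
    rw [Polynomial.eval₂_map, ← hPf, ← Polynomial.hom_eval₂, hy, map_zero]
  have hfinj : Function.Injective f := by
    rw [RingHom.injective_iff_ker_eq_bot, eq_bot_iff]
    intro a ha
    have ha' : c a ∈ q.under P :=
      (Ideal.Quotient.eq_zero_iff_mem.1 (RingHom.mem_ker.1 ha : f a = 0) : algebraMap P C' (c a) ∈ q)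
    rw [← hqo.over, RingHom.mem_ker, hεc] at ha'
    exact ha'
  let ef : R ≃+* C' ⧸ q := RingEquiv.ofBijective f ⟨hfinj, surjective_of_isIntegral R f hfint⟩
  let ψ₀ : C' →+* R := ef.symm.toRingHom.comp (Ideal.Quotient.mk q)
  have hψ₀ : ∀ a : R, ψ₀ (algebraMap P C' (c a)) = a := fun a => ef.symm_apply_apply a
  have hu : IsUnit (ψ₀ r) := by
    by_contra hnu
    refine hrp ?_
    have h1 : r - algebraMap P C' (c (ψ₀ r)) ∈ q := by
      rw [← Ideal.Quotient.eq]
      exact (ef.apply_symm_apply _).symm
    have h2 : algebraMap P C' (c (ψ₀ r)) ∈ p₁ := hm _ hnu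
    have h3 : r ∈ p₁ := by
      have := add_mem (hle h1) h2
      rwa [sub_add_cancel] at this
    exact h3
  let e := RingEquiv.ofBijective _ hbij
  let ψ : D →+* R := (IsLocalization.Away.lift (S := Localization.Away r) r hu).comp
    (e.symm.toRingHom.comp (algebraMap D (Localization.Away (C'.val.toRingHom r))))
  have hψ : ∀ y : C', ψ (C'.val y) = ψ₀ y := fun y => by
    have h1 : e.symm (algebraMap D (Localization.Away (C'.val.toRingHom r)) (C'.val y)) =
        algebraMap C' (Localization.Away r) y := by
      refine e.symm_apply_eq.2 ?_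
      show _ = Localization.awayMap C'.val.toRingHom r _
      exact (IsLocalization.map_eq _ _).symm
    show IsLocalization.Away.lift r hu (e.symm _) = _
    rw [h1, IsLocalization.Away.lift_eq]
  exact ⟨ψ, fun a => (hψ (algebraMap P C' (c a))).trans (hψ₀ a)⟩

theorem exists_algHom_of_point {C : Type v} [CommRing C] [Algebra R C] [Algebra.FiniteType R C]
    {W : Type v} [CommRing W] [IsDomain W] [IsLocalRing W] (χ : C →+* W)
    (hinj : Function.Injective (χ.comp (algebraMap R C)))
    (hloc : IsLocalHom (χ.comp (algebraMap R C))) : Nonempty (C →ₐ[R] R) := by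
  classical
  letI : Algebra R W := (χ.comp (algebraMap R C)).toAlgebra
  let χ' : C →ₐ[R] W := { χ with commutes' := fun r => rfl }
  let D := χ'.range
  haveI : Algebra.FiniteType R D :=
    Algebra.FiniteType.of_surjective χ'.rangeRestrict χ'.rangeRestrict_surjective
  suffices h : Nonempty (D →ₐ[R] R) from h.map fun ψ => ψ.comp χ'.rangeRestrict
  let m := maximalIdeal R
  have hmD : m.map (algebraMap R D) ≠ ⊤ := fun e => by
    have h1 : (1 : D) ∈ m.map (algebraMap R D) := e ▸ Submodule.mem_top
    have h2 := Ideal.mem_map_of_mem D.val.toRingHom h1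
    rw [Ideal.map_map] at h2
    have h3 : m.map (D.val.toRingHom.comp (algebraMap R D)) ≤ maximalIdeal W := by
      rw [Ideal.map_le_iff_le_comap]
      intro a ha
      exact map_nonunit (χ.comp (algebraMap R C)) a ha
    exact h3 h2 (isUnit_one.map D.val.toRingHom)
  let k := R ⧸ m
  letI : Field k := Ideal.Quotient.field m
  let D' := D ⧸ m.map (algebraMap R D)
  haveI : Nontrivial D' := Ideal.Quotient.nontrivial_iff.2 hmD
  letI : Algebra k D' := Ideal.Quotient.algebraQuotientOfLEComap Ideal.le_comap_map
  haveI : IsScalarTower R k D' := IsScalarTower.of_algebraMap_eq fun r => rfl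
  haveI : Algebra.FiniteType k D' := Algebra.FiniteType.of_restrictScalars_finiteType R k D'
  obtain ⟨s, g, hg, hgf⟩ := exists_finite_inj_algHom_of_fg k D'
  choose t ht using fun i => Ideal.Quotient.mk_surjective (g (MvPolynomial.X i))
  let P := MvPolynomial (Fin s) R
  let φ : P →ₐ[R] D := MvPolynomial.aeval t
  let π : P →+* MvPolynomial (Fin s) k := MvPolynomial.map (Ideal.Quotient.mk m)
  have hcomm : (Ideal.Quotient.mk (m.map (algebraMap R D))).comp φ.toRingHom = g.toRingHom.comp π := by
    refine MvPolynomial.ringHom_ext (fun r => ?_) fun i => ?_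
    · show Ideal.Quotient.mk _ (φ (MvPolynomial.C r)) = g (π (MvPolynomial.C r))
      rw [show φ (MvPolynomial.C r) = algebraMap R D r from MvPolynomial.aeval_C _ _,
        show π (MvPolynomial.C r) = MvPolynomial.C (Ideal.Quotient.mk m r) from MvPolynomial.map_C _ _]
      exact (g.commutes (Ideal.Quotient.mk m r)).symm
    · show Ideal.Quotient.mk _ (φ (MvPolynomial.X i)) = g (π (MvPolynomial.X i))
      rw [show φ (MvPolynomial.X i) = t i from MvPolynomial.aeval_X _ _,
        show π (MvPolynomial.X i) = MvPolynomial.X i from MvPolynomial.map_X _ _]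
      exact ht i
  have hπ : Function.Surjective π := MvPolynomial.map_surjective _ Ideal.Quotient.mk_surjective
  have hfin : RingHom.Finite (A := P) (B := D')
      ((Ideal.Quotient.mk (m.map (algebraMap R D))).comp φ.toRingHom) := by
    rw [hcomm]
    exact RingHom.Finite.comp hgf (RingHom.Finite.of_surjective _ hπ)
  have hRD : Function.Injective (algebraMap R D) := fun a b h => hinj (congrArg Subtype.val h)
  have hφ : Function.Injective φ := by
    rw [injective_iff_map_eq_zero]
    intro f hf
    by_contra hf0
    obtain ⟨i, hi, hdvd⟩ := exists_dvd_all f.support (fun d => f.coeff d)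
      (Finset.nonempty_iff_ne_empty.2 fun e => hf0 (MvPolynomial.support_eq_empty.1 e))
    have hall : ∀ d, f.coeff i ∣ f.coeff d := fun d => by
      by_cases hd : d ∈ f.support
      · exact hdvd d hd
      · rw [MvPolynomial.notMem_support_iff.1 hd]; exact dvd_zero _
    obtain ⟨f₁, hf₁⟩ := (MvPolynomial.C_dvd_iff_dvd_coeff _ _).2 hall
    have hc : f.coeff i ≠ 0 := MvPolynomial.mem_support_iff.1 hi
    have hone : f₁.coeff i = 1 := by
      have := congrArg (fun f => MvPolynomial.coeff i f) hf₁
      simp only [MvPolynomial.coeff_C_mul] at this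
      exact mul_left_cancel₀ hc (by rw [mul_one]; exact this.symm)
    rw [hf₁, map_mul, mul_eq_zero] at hf
    rcases hf with hf | hf
    · rw [show φ (MvPolynomial.C (f.coeff i)) = algebraMap R D (f.coeff i) from MvPolynomial.aeval_C _ _] at hf
      exact hc (hRD (hf.trans (map_zero _).symm))
    · have h0 : g (π f₁) = 0 := by
        rw [show g (π f₁) = Ideal.Quotient.mk _ (φ f₁) from (RingHom.congr_fun hcomm f₁).symm, hf, map_zero]
      have hz : π f₁ = 0 := hg (h0.trans (map_zero g).symm)
      have h1 : Ideal.Quotient.mk m (f₁.coeff i) = (π f₁).coeff i := (MvPolynomial.coeff_map _ _ _).symm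
      rw [hone, hz, map_one, MvPolynomial.coeff_zero] at h1
      exact one_ne_zero h1
  -- a point of the special fibre over the origin
  let o : Ideal (MvPolynomial (Fin s) k) := RingHom.ker MvPolynomial.constantCoeff
  haveI : o.IsPrime := RingHom.ker_isPrime _
  obtain ⟨p₀, hp₀, ho⟩ := exists_prime_over g.toRingHom hg hgf.to_isIntegral o
  let p : Ideal D := p₀.comap (Ideal.Quotient.mk _)
  haveI : p.IsPrime := Ideal.IsPrime.comap _
  letI : Algebra P D := φ.toRingHom.toAlgebra
  haveI : Algebra.FiniteType P D := by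
    haveI : IsScalarTower R P D := IsScalarTower.of_algebraMap_eq fun r => (φ.commutes r).symm
    exact Algebra.FiniteType.of_restrictScalars_finiteType R P D
  have hunder : ∀ x, (φ x ∈ p ↔ MvPolynomial.constantCoeff (π x) = 0) := fun x => by
    show Ideal.Quotient.mk (m.map (algebraMap R D)) (φ x) ∈ p₀ ↔ π x ∈ o
    rw [show Ideal.Quotient.mk (m.map (algebraMap R D)) (φ x) = g (π x) from RingHom.congr_fun hcomm x, ← ho]
    rfl
  have hπ0 : ∀ x, MvPolynomial.constantCoeff (π x) = Ideal.Quotient.mk m (MvPolynomial.constantCoeff x) :=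
    fun x => by
      show MvPolynomial.constantCoeff (MvPolynomial.map _ x) = _
      rw [MvPolynomial.constantCoeff_map]
  have hm : ∀ a ∈ maximalIdeal R, φ (MvPolynomial.C a) ∈ p := fun a ha => by
    rw [hunder, hπ0, MvPolynomial.constantCoeff_C]
    exact Ideal.Quotient.eq_zero_iff_mem.2 ha
  have hle : m.map (algebraMap R D) ≤ (p.under P).map (algebraMap P D) := by
    rw [Ideal.map_le_iff_le_comap]
    intro a ha
    rw [Ideal.mem_comap, ← φ.commutes a]
    exact Ideal.mem_map_of_mem φ.toRingHom (hm a ha : (MvPolynomial.C a : P) ∈ p.under P)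
  haveI : Algebra.WeaklyQuasiFiniteAt P p := weaklyQuasiFiniteAt_of_finite (P := P) p _ hle hfin
  haveI : IsIntegrallyClosed P := isIntegrallyClosed_mvPolynomial R s
  obtain ⟨ψ, hψ⟩ := exists_section_of_quasiFinite R (P := P) (D := D) hφ
    MvPolynomial.constantCoeff MvPolynomial.C (MvPolynomial.constantCoeff_C _) p
    (fun x hx => (hunder x).2 (by rw [hπ0, RingHom.mem_ker.1 hx, map_zero])) hm
  refine ⟨{ ψ with commutes' := fun a => ?_ }⟩
  show ψ (algebraMap R D a) = a
  rw [← φ.commutes a]
  exact hψ a

end Groth.Agent.HTopCov
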